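import Mathlib
import Cfsg.Agent.HeldUniq.Model

/-!
# The centraliser of a transvection of `SL(5, 2)` in the Held coordinates
-/

set_option autoImplicit false
set_option linter.unusedSectionVars false

namespace CfsgLib.Trichotomy

open CfsgLib.HeldUniq

/-- A bit as an element of the field with two elements. -/
def bz (b : Bool) : ZMod 2 := if b then 1 else 0

/-- The vector of three bits. -/
def vecN (n : ℕ) : Fin 3 → ZMod 2 := fun i => bz (n.testBit i)

/-- The matrix of nine bits, given by columns. -/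
def matN (g : ℕ) : Matrix (Fin 3) (Fin 3) (ZMod 2) :=
  Matrix.of fun i j => bz (g.testBit (3 * (j : ℕ) + i))

/-- The block form of an element centralising the transvection. -/
def m5 (r : Fin 3 → ZMod 2) (g : Matrix (Fin 3) (Fin 3) (ZMod 2)) (v : Fin 3 → ZMod 2) (c : ZMod 2) :
    Matrix (Fin 5) (Fin 5) (ZMod 2) :=
  !![1, c, r 0, r 1, r 2;
     0, 1, 0, 0, 0;
     0, v 0, g 0 0, g 0 1, g 0 2;
     0, v 1, g 1 0, g 1 1, g 1 2;
     0, v 2, g 2 0, g 2 1, g 2 2]

theorem m5_mul (r r' : Fin 3 → ZMod 2) (g g' : Matrix (Fin 3) (Fin 3) (ZMod 2))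
    (v v' : Fin 3 → ZMod 2) (c c' : ZMod 2) :
    m5 r g v c * m5 r' g' v' c' =
      m5 (r' + Matrix.vecMul r g') (g * g') (v + Matrix.mulVec g v') (c + c' + dotProduct r v') := by
  ext i j
  fin_cases i <;> fin_cases j <;>
    simp [m5, Matrix.mul_apply, Fin.sum_univ_five, Matrix.vecMul, Matrix.mulVec, dotProduct,
      Fin.sum_univ_three] <;> ring

theorem m5_inj {r r' : Fin 3 → ZMod 2} {g g' : Matrix (Fin 3) (Fin 3) (ZMod 2)}
    {v v' : Fin 3 → ZMod 2} {c c' : ZMod 2} (h : m5 r g v c = m5 r' g' v' c') :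
    r = r' ∧ g = g' ∧ v = v' ∧ c = c' := by
  have k := fun i j => congrFun (congrFun h i) j
  refine ⟨?_, ?_, ?_, by simpa [m5] using k 0 1⟩
  · funext i; fin_cases i
    · simpa [m5] using k 0 2
    · simpa [m5] using k 0 3
    · simpa [m5] using k 0 4
  · ext i j; fin_cases i <;> fin_cases j
    · simpa [m5] using k 2 2
    · simpa [m5] using k 2 3
    · simpa [m5] using k 2 4
    · simpa [m5] using k 3 2
    · simpa [m5] using k 3 3
    · simpa [m5] using k 3 4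
    · simpa [m5] using k 4 2
    · simpa [m5] using k 4 3
    · simpa [m5] using k 4 4
  · funext i; fin_cases i
    · simpa [m5] using k 2 1
    · simpa [m5] using k 3 1
    · simpa [m5] using k 4 1

theorem app_vec : ∀ g < 512, ∀ w < 8,
    Mdl.app g w < 8 ∧ vecN (Mdl.app g w) = Matrix.mulVec (matN g) (vecN w) := by decide +kernel

theorem rapp_vec : ∀ g < 512, ∀ q < 8,
    Mdl.rapp q g < 8 ∧ vecN (Mdl.rapp q g) = Matrix.vecMul (vecN q) (matN g) := by decide +kernel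

theorem xor_vec : ∀ a < 8, ∀ b < 8, Nat.xor a b < 8 ∧ vecN (Nat.xor a b) = vecN a + vecN b := by
  decide +kernel

theorem dot_vec : ∀ p < 8, ∀ w < 8, Mdl.dot p w < 2 ∧
    (Mdl.dot p w : ZMod 2) = dotProduct (vecN p) (vecN w) := by decide +kernel

theorem xor_two : ∀ a < 2, ∀ b < 2, Nat.xor a b < 2 ∧
    ((Nat.xor a b : ℕ) : ZMod 2) = (a : ZMod 2) + b := by decide +kernel

theorem col_mat : ∀ g < 512, ∀ j : Fin 3,
    Mdl.col g j < 8 ∧ vecN (Mdl.col g j) = fun i => matN g i j := by decide +kernel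

theorem vec_col : ∀ x < 8, ∀ y < 8, ∀ w < 8, x + 8 * y + 64 * w < 512 ∧
    ∀ i : Fin 3, matN (x + 8 * y + 64 * w) i 0 = vecN x i ∧
      matN (x + 8 * y + 64 * w) i 1 = vecN y i ∧ matN (x + 8 * y + 64 * w) i 2 = vecN w i := by
  decide +kernel

theorem vecN_inj : ∀ a < 8, ∀ b < 8, vecN a = vecN b → a = b := by decide +kernel

theorem vecN_surj : ∀ v : Fin 3 → ZMod 2, ∃ a, a < 8 ∧ vecN a = v := by
  have h : ∀ v : Fin 3 → ZMod 2, ∃ a : Fin 8, vecN a = v := by decide +kernel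
  exact fun v => let ⟨a, ha⟩ := h v; ⟨a, a.2, ha⟩

theorem matN_mone : matN Mdl.mone = 1 := by decide +kernel

theorem matN_mmul {g k : ℕ} (hg : g < 512) (hk : k < 512) :
    Mdl.mmul g k < 512 ∧ matN (Mdl.mmul g k) = matN g * matN k := by
  obtain ⟨b0, e0⟩ := app_vec g hg _ (col_mat k hk 0).1
  obtain ⟨b1, e1⟩ := app_vec g hg _ (col_mat k hk 1).1
  obtain ⟨b2, e2⟩ := app_vec g hg _ (col_mat k hk 2).1
  rw [(col_mat k hk 0).2] at e0
  rw [(col_mat k hk 1).2] at e1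
  rw [(col_mat k hk 2).2] at e2
  obtain ⟨hlt, h⟩ := vec_col _ b0 _ b1 _ b2
  refine ⟨hlt, ?_⟩
  ext i j
  fin_cases j
  · exact (h i).1.trans ((congrFun e0 i).trans rfl)
  · exact (h i).2.1.trans ((congrFun e1 i).trans rfl)
  · exact (h i).2.2.trans ((congrFun e2 i).trans rfl)

theorem matN_inj {g k : ℕ} (hg : g < 512) (hk : k < 512) (h : matN g = matN k) : g = k := by
  have e : ∀ j : Fin 3, Mdl.col g j = Mdl.col k j := fun j =>
    vecN_inj _ (col_mat g hg j).1 _ (col_mat k hk j).1 (by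
      rw [(col_mat g hg j).2, (col_mat k hk j).2, h])
  have hc : ∀ n i, Mdl.col n i = n / 2 ^ (3 * i) % 8 := fun n i => by
    show (n >>> (3 * i)) &&& (2 ^ 3 - 1) = _
    rw [Nat.and_two_pow_sub_one_eq_mod, Nat.shiftRight_eq_div_pow]
  have e0 := e 0
  have e1 := e 1
  have e2 := e 2
  simp only [hc, Fin.val_zero, Fin.val_one, Fin.val_two] at e0 e1 e2
  norm_num at e0 e1 e2
  omega

theorem matN_surj (A : Matrix (Fin 3) (Fin 3) (ZMod 2)) : ∃ g, g < 512 ∧ matN g = A := by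
  obtain ⟨x, hx, ex⟩ := vecN_surj fun i => A i 0
  obtain ⟨y, hy, ey⟩ := vecN_surj fun i => A i 1
  obtain ⟨w, hw, ew⟩ := vecN_surj fun i => A i 2
  obtain ⟨hlt, h⟩ := vec_col x hx y hy w hw
  refine ⟨_, hlt, ?_⟩
  ext i j
  fin_cases j
  · exact (h i).1.trans (congrFun ex i)
  · exact (h i).2.1.trans (congrFun ey i)
  · exact (h i).2.2.trans (congrFun ew i)

/-- The five by five matrix of a code. -/
def mat5 (a : ℕ) : Matrix (Fin 5) (Fin 5) (ZMod 2) :=
  m5 (Matrix.vecMul (vecN (Mdl.pOf a)) (matN (Mdl.gOf a))) (matN (Mdl.gOf a)) (vecN (Mdl.vOf a))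
    (Mdl.cOf a : ZMod 2)

theorem land_seven (a : ℕ) : Nat.land a 7 = a % 8 := Nat.and_two_pow_sub_one_eq_mod a 3

theorem field_eq (a : ℕ) : Mdl.vOf a = a % 8 ∧ Mdl.pOf a = a / 8 % 8 ∧ Mdl.cOf a = a / 64 % 2 ∧
    Mdl.gOf a = a / 128 % 512 ∧ Mdl.hOf a = a / 65536 := by
  refine ⟨land_seven a, ?_, ?_, ?_, Nat.shiftRight_eq_div_pow a 16⟩
  · show Nat.land (a >>> 3) 7 = _
    rw [land_seven, Nat.shiftRight_eq_div_pow]
  · show (a >>> 6) &&& (2 ^ 1 - 1) = _
    rw [Nat.and_two_pow_sub_one_eq_mod, Nat.shiftRight_eq_div_pow]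
  · show (a >>> 7) &&& (2 ^ 9 - 1) = _
    rw [Nat.and_two_pow_sub_one_eq_mod, Nat.shiftRight_eq_div_pow]

theorem of_mk {v p c g h : ℕ} (hv : v < 8) (hp : p < 8) (hc : c < 2) (hg : g < 512) :
    Mdl.vOf (Mdl.mk v p c g h) = v ∧ Mdl.pOf (Mdl.mk v p c g h) = p ∧
      Mdl.cOf (Mdl.mk v p c g h) = c ∧ Mdl.gOf (Mdl.mk v p c g h) = g ∧
      Mdl.hOf (Mdl.mk v p c g h) = h := by
  obtain ⟨e1, e2, e3, e4, e5⟩ := field_eq (Mdl.mk v p c g h)
  rw [e1, e2, e3, e4, e5, Mdl.mk]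
  omega

theorem mem_spec {a : ℕ} (h : Mdl.mem a = true) :
    a < 2 ^ 25 ∧ Mdl.vOf a < 8 ∧ Mdl.pOf a < 8 ∧ Mdl.cOf a < 2 ∧ Mdl.gOf a < 512 ∧ Mdl.hOf a < 512 ∧
      matN (Mdl.gOf a) * matN (Mdl.hOf a) = 1 ∧ matN (Mdl.hOf a) * matN (Mdl.gOf a) = 1 := by
  simp only [Mdl.mem, Bool.and_eq_true] at h
  obtain ⟨⟨h1, h2⟩, h3⟩ := h
  have ha : a < 2 ^ 25 := Nat.blt_eq.mp h1
  obtain ⟨e1, e2, e3, e4, e5⟩ := field_eq a
  have hg : Mdl.gOf a < 512 := by omega
  have hh : Mdl.hOf a < 512 := by omega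
  have f2 := congrArg matN (Nat.eq_of_beq_eq_true h2)
  have f3 := congrArg matN (Nat.eq_of_beq_eq_true h3)
  rw [(matN_mmul hg hh).2, matN_mone] at f2
  rw [(matN_mmul hh hg).2, matN_mone] at f3
  exact ⟨ha, by omega, by omega, by omega, hg, hh, f2, f3⟩

theorem mat5_mul {a b : ℕ} (ha : Mdl.mem a = true) (hb : Mdl.mem b = true) :
    mat5 (Mdl.mulN a b) = mat5 a * mat5 b := by
  obtain ⟨-, hv, hp, hc, hg, hh, gh, hg'⟩ := mem_spec ha
  obtain ⟨-, hw, hq, hd, hk, hl, -, -⟩ := mem_spec hb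
  obtain ⟨a1, a2⟩ := app_vec _ hg _ hw
  obtain ⟨r1, r2⟩ := rapp_vec _ hh _ hq
  obtain ⟨x1, x2⟩ := xor_vec _ hv _ a1
  obtain ⟨y1, y2⟩ := xor_vec _ hp _ r1
  obtain ⟨d1, d2⟩ := dot_vec _ hp _ a1
  obtain ⟨z1, z2⟩ := xor_two _ hc _ hd
  obtain ⟨w1, w2⟩ := xor_two _ z1 _ d1
  obtain ⟨m1, m2⟩ := matN_mmul hg hk
  obtain ⟨f1, f2, f3, f4, -⟩ :=
    of_mk (h := Mdl.mmul (Mdl.hOf b) (Mdl.hOf a)) x1 y1 w1 m1
  show m5 _ _ _ _ = m5 _ _ _ _ * m5 _ _ _ _
  simp only [Mdl.mulN]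
  rw [f1, f2, f3, f4, m5_mul, m2, x2, y2, r2, w2, z2, d2, a2]
  congr 1
  · rw [Matrix.add_vecMul, Matrix.vecMul_vecMul, Matrix.vecMul_vecMul, add_comm]
    congr 1
    rw [← mul_assoc (matN (Mdl.hOf a)), hg', one_mul]
  · rw [Matrix.dotProduct_mulVec]

theorem mat5_inj {a b : ℕ} (ha : Mdl.mem a = true) (hb : Mdl.mem b = true) (h : mat5 a = mat5 b) :
    a = b := by
  obtain ⟨la, hv, hp, hc, hg, hh, gh, hg'⟩ := mem_spec ha
  obtain ⟨lb, hw, hq, hd, hk, hl, gl, hg''⟩ := mem_spec hb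
  obtain ⟨hr, hgg, hvv, hcc⟩ := m5_inj h
  have e1 := vecN_inj _ hv _ hw hvv
  have e4 := matN_inj hg hk hgg
  have e2 : Mdl.pOf a = Mdl.pOf b := by
    refine vecN_inj _ hp _ hq ?_
    have := congrArg (fun r => Matrix.vecMul r (matN (Mdl.hOf a))) hr
    simp only [Matrix.vecMul_vecMul, gh, Matrix.vecMul_one] at this
    rw [this, ← hgg, gh, Matrix.vecMul_one]
  have e5 : Mdl.hOf a = Mdl.hOf b := by
    refine matN_inj hh hl ?_
    calc matN (Mdl.hOf a) = matN (Mdl.hOf a) * (matN (Mdl.gOf b) * matN (Mdl.hOf b)) := by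
          rw [gl, mul_one]
      _ = matN (Mdl.hOf b) := by rw [← mul_assoc, ← hgg, hg', one_mul]
  have e3 : Mdl.cOf a = Mdl.cOf b :=
    (show ∀ x : ℕ, x < 2 → ∀ y : ℕ, y < 2 → (x : ZMod 2) = y → x = y by decide) _ hc _ hd hcc
  obtain ⟨a1, a2, a3, a4, a5⟩ := field_eq a
  obtain ⟨b1, b2, b3, b4, b5⟩ := field_eq b
  omega

section

variable (s : Matrix.SpecialLinearGroup (Fin 5) (ZMod 2))
  (hs : (s : Matrix (Fin 5) (Fin 5) (ZMod 2)) = Matrix.transvection 0 1 1)

include hs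

theorem transvection_eq : (s : Matrix (Fin 5) (Fin 5) (ZMod 2)) = m5 0 1 0 1 := by
  rw [hs]; decide +kernel

theorem mem_centralizer_iff (M : Matrix.SpecialLinearGroup (Fin 5) (ZMod 2)) :
    M ∈ Subgroup.centralizer ({s} : Set (Matrix.SpecialLinearGroup (Fin 5) (ZMod 2))) ↔
      ∃ r g v c, (M : Matrix (Fin 5) (Fin 5) (ZMod 2)) = m5 r g v c := by
  rw [Subgroup.mem_centralizer_singleton_iff]
  constructor
  · intro h
    have hm : ∀ A : Matrix.SpecialLinearGroup (Fin 5) (ZMod 2), A * s = s * A →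
        (∀ i : Fin 5, i ≠ 0 → (A : Matrix (Fin 5) (Fin 5) (ZMod 2)) i 0 = 0) ∧
        (∀ j : Fin 5, j ≠ 1 → (A : Matrix (Fin 5) (Fin 5) (ZMod 2)) 1 j = 0) ∧
        (A : Matrix (Fin 5) (Fin 5) (ZMod 2)) 0 0 = A.1 1 1 := by
      intro A hA
      have hA' := congrArg (fun X : Matrix.SpecialLinearGroup (Fin 5) (ZMod 2) => X.1) hA
      simp only [Matrix.SpecialLinearGroup.coe_mul, hs, Matrix.transvection, mul_add, add_mul, mul_one,
        one_mul, add_right_inj] at hA'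
      refine ⟨fun i hi => ?_, fun j hj => ?_, ?_⟩
      · have := congrFun (congrFun hA' i) 1
        rwa [Matrix.mul_single_apply_same, mul_one, Matrix.single_mul_apply_of_ne _ _ _ _ _ hi] at this
      · have := congrFun (congrFun hA' 0) j
        rw [Matrix.mul_single_apply_of_ne _ _ _ _ _ hj, Matrix.single_mul_apply_same, one_mul] at this
        exact this.symm
      · have := congrFun (congrFun hA' 0) 1
        rwa [Matrix.mul_single_apply_same, mul_one, Matrix.single_mul_apply_same, one_mul] at this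
    obtain ⟨hc, hr, hd⟩ := hm M h
    have h1 : M.1 0 0 = 1 := by
      obtain ⟨hci, -, -⟩ := hm M⁻¹ (by
        calc M⁻¹ * s = M⁻¹ * (s * M) * M⁻¹ := by group
          _ = M⁻¹ * (M * s) * M⁻¹ := by rw [h]
          _ = s * M⁻¹ := by group)
      have e := congrArg (fun X : Matrix.SpecialLinearGroup (Fin 5) (ZMod 2) => X.1 0 0) (mul_inv_cancel M)
      simp only [Matrix.SpecialLinearGroup.coe_mul, Matrix.mul_apply, Fin.sum_univ_five,
        hci 1 (by decide), hci 2 (by decide), hci 3 (by decide), hci 4 (by decide), mul_zero, add_zero,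
        Matrix.SpecialLinearGroup.coe_one, Matrix.one_apply_eq] at e
      exact (show ∀ x y : ZMod 2, x * y = 1 → x = 1 by decide) _ _ e
    refine ⟨![M.1 0 2, M.1 0 3, M.1 0 4],
      !![M.1 2 2, M.1 2 3, M.1 2 4; M.1 3 2, M.1 3 3, M.1 3 4; M.1 4 2, M.1 4 3, M.1 4 4],
      ![M.1 2 1, M.1 3 1, M.1 4 1], M.1 0 1, ?_⟩
    ext i j
    fin_cases i <;> fin_cases j <;>
      simp [m5, hc, hr, h1, ← hd]
  · rintro ⟨r, g, v, c, hM⟩
    refine Subtype.ext ?_
    rw [Matrix.SpecialLinearGroup.coe_mul, Matrix.SpecialLinearGroup.coe_mul, hM, transvection_eq s hs,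
      m5_mul, m5_mul]
    simp [add_comm]

theorem exists_code (M : Matrix.SpecialLinearGroup (Fin 5) (ZMod 2))
    (hM : M ∈ Subgroup.centralizer ({s} : Set (Matrix.SpecialLinearGroup (Fin 5) (ZMod 2)))) :
    ∃ a, Mdl.mem a = true ∧ mat5 a = M.1 := by
  obtain ⟨r, g, v, c, e⟩ := (mem_centralizer_iff s hs M).1 hM
  obtain ⟨r', g', v', c', e'⟩ := (mem_centralizer_iff s hs M⁻¹).1 (inv_mem hM)
  have hgg : ∀ {r g v c r' g' v' c'}, m5 r g v c * m5 r' g' v' c' = 1 → g * g' = 1 := by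
    intro r g v c r' g' v' c' h
    rw [m5_mul, show (1 : Matrix (Fin 5) (Fin 5) (ZMod 2)) = m5 0 1 0 0 by decide +kernel] at h
    exact (m5_inj h).2.1
  have g1 : g * g' = 1 := hgg (by rw [← e, ← e', ← Matrix.SpecialLinearGroup.coe_mul, mul_inv_cancel]; rfl)
  have g2 : g' * g = 1 := hgg (by rw [← e, ← e', ← Matrix.SpecialLinearGroup.coe_mul, inv_mul_cancel]; rfl)
  obtain ⟨nv, hv, ev⟩ := vecN_surj v
  obtain ⟨np, hp, ep⟩ := vecN_surj (Matrix.vecMul r g')
  obtain ⟨ng, hg, eg⟩ := matN_surj g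
  obtain ⟨nh, hh, eh⟩ := matN_surj g'
  obtain ⟨nc, hc, ec⟩ : ∃ n : ℕ, n < 2 ∧ (n : ZMod 2) = c := ⟨c.val, ZMod.val_lt c, ZMod.natCast_zmod_val c⟩
  obtain ⟨f1, f2, f3, f4, f5⟩ := of_mk (h := nh) hv hp hc hg
  refine ⟨Mdl.mk nv np nc ng nh, ?_, ?_⟩
  · simp only [Mdl.mem, Bool.and_eq_true]
    refine ⟨⟨Nat.blt_eq.mpr (by rw [Mdl.mk]; omega), ?_⟩, ?_⟩ <;> rw [f4, f5]
    · have : Mdl.mmul ng nh = Mdl.mone := matN_inj (matN_mmul hg hh).1 (by decide)
        (by rw [(matN_mmul hg hh).2, eg, eh, g1, matN_mone])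
      rw [this]; rfl
    · have : Mdl.mmul nh ng = Mdl.mone := matN_inj (matN_mmul hh hg).1 (by decide)
        (by rw [(matN_mmul hh hg).2, eg, eh, g2, matN_mone])
      rw [this]; rfl
  · rw [e, mat5, f1, f2, f3, f4, ev, ep, eg, ec, Matrix.vecMul_vecMul, g2, Matrix.vecMul_one]

end

theorem tN_mat : Mdl.mem Mdl.tN = true ∧ mat5 Mdl.tN = m5 0 1 0 1 := by decide +kernel

theorem centre_test : ∀ a < 2 ^ 6, ∀ b : Bool,
    (∀ i : Fin 6, Mdl.mulN (Mdl.mk (a % 8) (a / 8) b.toNat Mdl.mone Mdl.mone) (2 ^ (i : ℕ) + 128 * Mdl.mone + 65536 * Mdl.mone) =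
      Mdl.mulN (2 ^ (i : ℕ) + 128 * Mdl.mone + 65536 * Mdl.mone) (Mdl.mk (a % 8) (a / 8) b.toNat Mdl.mone Mdl.mone)) →
      a = 0 := by
  decide +kernel

/-- Six elementary matrices. -/
def elems : List ℕ := [1 + 8 * 3 + 64 * 4, 1 + 8 * 2 + 64 * 5, 3 + 8 * 2 + 64 * 4, 1 + 8 * 2 + 64 * 6,
  5 + 8 * 2 + 64 * 4, 1 + 8 * 6 + 64 * 4]

theorem elems_ok : elems.all (fun k => Nat.beq (Mdl.mmul k k) Mdl.mone && Nat.blt k 512) = true := by
  decide +kernel

theorem scalar_test : ∀ g < 512, (∀ h : Fin 512, Mdl.mmul g h ≠ Mdl.mone) ∨ g = Mdl.mone ∨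
    ∃ k ∈ elems, Mdl.mmul g k ≠ Mdl.mmul k g := by
  have h : ((List.range 512).all fun g => g == Mdl.mone ||
      !((List.range 512).any fun h => Mdl.mmul g h == Mdl.mone) ||
      elems.any fun k => !(Mdl.mmul g k == Mdl.mmul k g)) = true := by
    decide +kernel
  intro g hg
  have := List.all_eq_true.1 h g (List.mem_range.2 hg)
  simp only [Bool.or_eq_true, beq_iff_eq, Bool.not_eq_true', List.any_eq_true, beq_eq_false_iff_ne] at this
  rcases this with (e | e) | ⟨k, hk, e⟩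
  · exact Or.inr (Or.inl e)
  · refine Or.inl fun h' he => ?_
    rw [← Bool.not_eq_true, List.any_eq_true] at e
    exact e ⟨h', List.mem_range.2 h'.2, beq_iff_eq.2 he⟩
  · exact Or.inr (Or.inr ⟨k, hk, e⟩)

/-- The centraliser of the involution is the model. -/
theorem exists_frame {G : Type*} [Group G] (s : Matrix.SpecialLinearGroup (Fin 5) (ZMod 2))
    (hs : (s : Matrix (Fin 5) (Fin 5) (ZMod 2)) = Matrix.transvection 0 1 1) (z : G) (hz : orderOf z = 2)
    (e : (Subgroup.centralizer ({z} : Set G)) ≃*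
      Subgroup.centralizer ({s} : Set (Matrix.SpecialLinearGroup (Fin 5) (ZMod 2)))) :
    Nonempty (HeldUniq.Frame z) := by
  classical
  let T := Subgroup.centralizer ({s} : Set (Matrix.SpecialLinearGroup (Fin 5) (ZMod 2)))
  have hsurj : ∀ M : T, ∃ a, Mdl.mem a = true ∧ mat5 a = M.1.1 := fun M => exists_code s hs M.1 M.2
  let code : T → ℕ := fun M => Classical.choose (hsurj M)
  have code_mem : ∀ M, Mdl.mem (code M) = true := fun M => (Classical.choose_spec (hsurj M)).1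
  have code_mat : ∀ M, mat5 (code M) = M.1.1 := fun M => (Classical.choose_spec (hsurj M)).2
  -- every code comes from an element
  have hinto : ∀ a, Mdl.mem a = true → ∃ M : T, M.1.1 = mat5 a := by
    intro a ha
    obtain ⟨-, hv, hp, hc, hg, hh, gh, hg'⟩ := mem_spec ha
    have hone : mat5 a *
        m5 (Matrix.vecMul (Matrix.vecMul (vecN (Mdl.pOf a)) (matN (Mdl.gOf a))) (matN (Mdl.hOf a)))
          (matN (Mdl.hOf a)) (Matrix.mulVec (matN (Mdl.hOf a)) (vecN (Mdl.vOf a)))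
          ((Mdl.cOf a : ZMod 2) + dotProduct (Matrix.vecMul (vecN (Mdl.pOf a)) (matN (Mdl.gOf a)))
            (Matrix.mulVec (matN (Mdl.hOf a)) (vecN (Mdl.vOf a)))) = 1 := by
      have two : ∀ x : ZMod 2, x + x = 0 := by decide
      have twov : ∀ x : Fin 3 → ZMod 2, x + x = 0 := fun x => funext fun i => two _
      rw [mat5, m5_mul, gh, Matrix.mulVec_mulVec, gh, Matrix.one_mulVec, twov, twov,
        show ∀ c d : ZMod 2, c + (c + d) + d = 0 by decide]
      decide +kernel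
    have hdet : (mat5 a).det = 1 := by
      have := congrArg Matrix.det hone
      rw [Matrix.det_mul, Matrix.det_one] at this
      exact (show ∀ x y : ZMod 2, x * y = 1 → x = 1 by decide) _ _ this
    exact ⟨⟨⟨mat5 a, hdet⟩, (mem_centralizer_iff s hs _).2 ⟨_, _, _, _, rfl⟩⟩, rfl⟩
  let el : ℕ → T := fun a => if h : Mdl.mem a = true then Classical.choose (hinto a h) else 1
  have el_mat : ∀ a, Mdl.mem a = true → (el a).1.1 = mat5 a := fun a ha => by
    simp only [el, dif_pos ha]; exact Classical.choose_spec (hinto a ha)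
  have hT : ∀ {M N : T}, M.1.1 = N.1.1 → M = N := fun h => Subtype.ext (Subtype.ext h)
  have mem_mul : ∀ a b, Mdl.mem a = true → Mdl.mem b = true → Mdl.mem (Mdl.mulN a b) = true := by
    intro a b ha hb
    obtain ⟨-, hv, hp, hc, hg, hh, gh, hg'⟩ := mem_spec ha
    obtain ⟨-, hw, hq, hd, hk, hl, gl, hg''⟩ := mem_spec hb
    obtain ⟨a1, -⟩ := app_vec _ hg _ hw
    obtain ⟨r1, -⟩ := rapp_vec _ hh _ hq
    obtain ⟨x1, -⟩ := xor_vec _ hv _ a1
    obtain ⟨y1, -⟩ := xor_vec _ hp _ r1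
    obtain ⟨d1, -⟩ := dot_vec _ hp _ a1
    obtain ⟨z1, -⟩ := xor_two _ hc _ hd
    obtain ⟨w1, -⟩ := xor_two _ z1 _ d1
    obtain ⟨m1, m2⟩ := matN_mmul hg hk
    obtain ⟨n1, n2⟩ := matN_mmul hl hh
    obtain ⟨-, -, -, f4, f5⟩ := of_mk (h := Mdl.mmul (Mdl.hOf b) (Mdl.hOf a)) x1 y1 w1 m1
    simp only [Mdl.mem, Mdl.mulN, Bool.and_eq_true]
    refine ⟨⟨Nat.blt_eq.mpr (by rw [Mdl.mk]; omega), ?_⟩, ?_⟩ <;> rw [f4, f5]
    · have : Mdl.mmul (Mdl.mmul (Mdl.gOf a) (Mdl.gOf b)) (Mdl.mmul (Mdl.hOf b) (Mdl.hOf a)) = Mdl.mone :=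
        matN_inj (matN_mmul m1 n1).1 (by decide) (by
          rw [(matN_mmul m1 n1).2, m2, n2, matN_mone, mul_assoc, ← mul_assoc (matN (Mdl.gOf b)), gl,
            one_mul, gh])
      rw [this]; rfl
    · have : Mdl.mmul (Mdl.mmul (Mdl.hOf b) (Mdl.hOf a)) (Mdl.mmul (Mdl.gOf a) (Mdl.gOf b)) = Mdl.mone :=
        matN_inj (matN_mmul n1 m1).1 (by decide) (by
          rw [(matN_mmul n1 m1).2, m2, n2, matN_mone, mul_assoc, ← mul_assoc (matN (Mdl.hOf a)), hg',
            one_mul, hg''])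
      rw [this]; rfl
  have el_mul : ∀ a b, Mdl.mem a = true → Mdl.mem b = true → el (Mdl.mulN a b) = el a * el b :=
    fun a b ha hb => hT (by
      rw [Subgroup.coe_mul, Matrix.SpecialLinearGroup.coe_mul, el_mat a ha, el_mat b hb,
        el_mat _ (mem_mul a b ha hb), mat5_mul ha hb])
  have el_code : ∀ M : T, el (code M) = M := fun M => hT ((el_mat _ (code_mem M)).trans (code_mat M))
  -- the involution is the transvection
  have htN : e ⟨z, Subgroup.mem_centralizer_singleton_iff.2 rfl⟩ = el Mdl.tN := by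
    set w := e ⟨z, Subgroup.mem_centralizer_singleton_iff.2 rfl⟩ with hw
    have hne : w ≠ 1 := fun h => by
      rw [hw, MulEquiv.map_eq_one_iff] at h
      have := congrArg Subtype.val h
      simp only [Subgroup.coe_one] at this
      rw [this, orderOf_one] at hz
      norm_num at hz
    have hcen : ∀ M : T, w * M = M * w := by
      intro M
      obtain ⟨c, rfl⟩ := e.surjective M
      rw [hw, ← map_mul, ← map_mul]
      exact congrArg e (Subtype.ext (Subgroup.mem_centralizer_singleton_iff.1 c.2).symm)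
    have hwm := code_mem w
    have comm : ∀ b, Mdl.mem b = true → Mdl.mem (code w) = true →
        mat5 (Mdl.mulN (code w) b) = mat5 (Mdl.mulN b (code w)) := by
      intro b hb _
      rw [← el_mat _ (mem_mul _ _ hwm hb), ← el_mat _ (mem_mul _ _ hb hwm), el_mul _ _ hwm hb,
        el_mul _ _ hb hwm, el_code, hcen]
    obtain ⟨la, hv, hp, hc, hg, hh, gh, hg'⟩ := mem_spec hwm
    have hg1 : Mdl.gOf (code w) = Mdl.mone := by
      rcases scalar_test _ hg with h | h | ⟨k, hk, hne'⟩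
      · refine absurd ?_ (h ⟨Mdl.hOf (code w), hh⟩)
        exact matN_inj (matN_mmul hg hh).1 (by decide) (by rw [(matN_mmul hg hh).2, gh, matN_mone])
      · exact h
      · exfalso
        have hk' := List.all_eq_true.1 elems_ok k hk
        simp only [Bool.and_eq_true] at hk'
        obtain ⟨hkk, hk512⟩ := hk'
        have hkk := Nat.eq_of_beq_eq_true hkk
        have hk512 : k < 512 := Nat.blt_eq.mp hk512
        obtain ⟨g1, g2, g3, g4, g5⟩ := of_mk (v := 0) (p := 0) (c := 0) (h := k) (by norm_num) (by norm_num)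
          (by norm_num) hk512
        have hbm : Mdl.mem (Mdl.mk 0 0 0 k k) = true := by
          simp only [Mdl.mem, Bool.and_eq_true]
          refine ⟨⟨Nat.blt_eq.mpr (by rw [Mdl.mk]; omega), ?_⟩, ?_⟩ <;> rw [g4, g5, hkk] <;> rfl
        have h := comm _ hbm hwm
        rw [mat5_mul hwm hbm, mat5_mul hbm hwm] at h
        simp only [mat5, g4, m5_mul] at h
        have h' := (m5_inj h).2.1
        exact hne' (matN_inj (matN_mmul hg hk512).1 (matN_mmul hk512 hg).1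
          (by rw [(matN_mmul hg hk512).2, (matN_mmul hk512 hg).2, h']))
    have hh1 : Mdl.hOf (code w) = Mdl.mone := by
      refine matN_inj hh (by decide) ?_
      rw [hg1, matN_mone, one_mul] at gh
      rw [gh, matN_mone]
    obtain ⟨a1, a2, a3, a4, a5⟩ := field_eq (code w)
    obtain ⟨u, hu, e1, e2⟩ : ∃ u < 2 ^ 6, u % 8 = Mdl.vOf (code w) ∧ u / 8 = Mdl.pOf (code w) :=
      ⟨Mdl.vOf (code w) + 8 * Mdl.pOf (code w), by omega, by omega, by omega⟩
    obtain ⟨cb, hcb⟩ : ∃ b : Bool, b.toNat = Mdl.cOf (code w) := by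
      rcases (show Mdl.cOf (code w) = 0 ∨ Mdl.cOf (code w) = 1 by omega) with h | h
      · exact ⟨false, h.symm⟩
      · exact ⟨true, h.symm⟩
    have hmk : Mdl.mk (u % 8) (u / 8) cb.toNat Mdl.mone Mdl.mone = code w := by
      rw [e1, e2, hcb, Mdl.mk]
      rw [a4] at hg1
      rw [a5] at hh1
      omega
    have hu0 : u = 0 := by
      refine centre_test u hu cb fun i => ?_
      have hb : Mdl.mem (2 ^ (i : ℕ) + 128 * Mdl.mone + 65536 * Mdl.mone) = true := by
        revert i; decide +kernel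
      rw [hmk]
      exact mat5_inj (mem_mul _ _ hwm hb) (mem_mul _ _ hb hwm) (comm _ hb hwm)
    have hc1 : cb = true := by
      cases cb
      · exfalso
        refine hne ?_
        rw [← el_code w, ← hmk, hu0]
        refine hT ?_
        rw [el_mat _ (by decide +kernel), Subgroup.coe_one, Matrix.SpecialLinearGroup.coe_one]
        decide +kernel
      · rfl
    rw [← el_code w, ← hmk, hu0, hc1]
    rfl
  refine ⟨{ ev := fun a => ((e.symm (el a) : Subgroup.centralizer ({z} : Set G)) : G)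
            map_mul := fun a b ha hb => by rw [el_mul a b ha hb, map_mul, Subgroup.coe_mul]
            inj := fun a b ha hb h => mat5_inj ha hb (by
              rw [← el_mat a ha, ← el_mat b hb, e.symm.injective (Subtype.ext h)])
            mem_iff := fun g => ?_
            ev_t := ?_ }⟩
  · constructor
    · intro hg
      exact ⟨code (e ⟨g, hg⟩), code_mem _, by rw [el_code, e.symm_apply_apply]⟩
    · rintro ⟨a, -, rfl⟩
      exact (e.symm (el a)).2
  · show ((e.symm (el Mdl.tN) : Subgroup.centralizer ({z} : Set G)) : G) = z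
    rw [← htN, e.symm_apply_apply]

end CfsgLib.Trichotomy
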