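import Cfsg.Agent.Trichotomy.L5Step
import Cfsg.Agent.S0249

/-! A frame and one or two involutions generate the stabiliser of a vector of `SL(5, 2)`, resp. `SL(5, 2)`. -/

set_option autoImplicit false
set_option maxRecDepth 100000

namespace CfsgLib.Trichotomy.L5

open CfsgLib.Coset
open CfsgLib.HeldUniq
open CfsgLib.HeldAmal (codes chk stepGens ev_one ev_prodN)

/-- Words for the transvections with centre the fixed vector. -/
def vWord (b : Fin 16) : List Nat :=
  ((List.range 4).map fun j => if (b : Nat).testBit j then tvWords.getD j [] else []).flatten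

/-- The row of such a transvection. -/
def vRow (b : Fin 16) : Fin 5 → ZMod 2 :=
  ![1, if (b : Nat).testBit 0 then 1 else 0, if (b : Nat).testBit 1 then 1 else 0,
    if (b : Nat).testBit 2 then 1 else 0, if (b : Nat).testBit 3 then 1 else 0]

/-- The matrix of such a transvection. -/
def vMat (b : Fin 16) : Matrix (Fin 5) (Fin 5) (ZMod 2) :=
  Matrix.of fun i j => if i = 0 then vRow b j else if i = j then 1 else 0

theorem vWord_act : ∀ b : Fin 16, ∀ j : Fin 5,
    (vMat b).mulVec (vec5 (2 ^ (j : ℕ))) = vec5 (wordN (vWord b) (2 ^ (j : ℕ))) := by decide +kernel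

theorem vWord_lt : ∀ b : Fin 16, ∀ l ∈ vWord b, l < 6 := by decide +kernel

theorem vWord_code : ∀ b : Fin 16, b ≠ 0 → chk ((vWord b).map fun l => codes.getD l 0) = true ∧
    Mdl.prodN ((vWord b).map fun l => codes.getD l 0) ≠ Mdl.one := by decide +kernel

theorem vMat_zero : vMat 0 = 1 := by decide +kernel

theorem vRow_cover : ∀ c : Fin 32, c.val % 2 = 1 → ∃ b : Fin 16, ∀ j, vRow b j = vec5 c j := by decide +kernel

theorem exists_vMat {A : Matrix (Fin 5) (Fin 5) (ZMod 2)} (h0 : A 0 0 = 1)
    (h : ∀ i j : Fin 5, i ≠ 0 → A i j = if i = j then 1 else 0) : ∃ b : Fin 16, A = vMat b := by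
  have hc : code5 (A 0) < 32 := by
    unfold code5
    have : ∀ x : ZMod 2, x.val < 2 := ZMod.val_lt
    have := this (A 0 0); have := ZMod.val_lt (A 0 1); have := ZMod.val_lt (A 0 2)
    have := ZMod.val_lt (A 0 3); have := ZMod.val_lt (A 0 4)
    omega
  have hv : vec5 (code5 (A 0)) = A 0 := by
    have key : ∀ x0 x1 x2 x3 x4 : ZMod 2, vec5 (code5 ![x0, x1, x2, x3, x4]) = ![x0, x1, x2, x3, x4] := by
      decide +kernel
    have e : A 0 = ![A 0 0, A 0 1, A 0 2, A 0 3, A 0 4] := by ext i; fin_cases i <;> rfl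
    rw [e]; exact key _ _ _ _ _
  obtain ⟨b, hb⟩ := vRow_cover ⟨code5 (A 0), hc⟩ (by
    show code5 (A 0) % 2 = 1
    unfold code5
    rw [h0]
    have : (1 : ZMod 2).val = 1 := rfl
    omega)
  refine ⟨b, ?_⟩
  ext i j
  by_cases hi : i = 0
  · subst hi
    simp only [vMat, Matrix.of_apply, if_true]
    rw [hb j]
    exact (congrFun hv j).symm
  · simp only [vMat, Matrix.of_apply, hi, if_false]
    exact h i j hi

theorem ev_vWord (b : Fin 16) : ((ev modelsL (vWord b) : SL5) : Matrix (Fin 5) (Fin 5) (ZMod 2)) = vMat b :=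
  eq_of_act (vWord_act b)

theorem ev_vWordV (b : Fin 16) : ev modelsV (vWord b) = ev modelsL (vWord b) :=
  ev_modelsV _ fun l hl => lt_trans (vWord_lt b l hl) (by norm_num)

theorem mem_stab_vWord (b : Fin 16) : ev modelsL (vWord b) ∈ MulAction.stabilizer SL5 e0 := by
  rw [← closure_modelsV, ← ev_vWordV]
  exact ev_mem mem_closure_fl _

theorem col_zero {g : SL5} (hg : g • e0 = e0) : ∀ i, (g : Matrix (Fin 5) (Fin 5) (ZMod 2)) i 0 = if i = 0 then 1 else 0 := by
  intro i
  have h := congrFun hg i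
  have he : e0 = Pi.single (0 : Fin 5) 1 := by decide +kernel
  rw [Matrix.SpecialLinearGroup.smul_def, Matrix.smul_eq_mulVec, he, Matrix.mulVec_single_one] at h
  simpa [Pi.single_apply] using h

/-- Conjugates of the transvections with centre `e₀` under the stabiliser are such transvections. -/
theorem conj_transvection {g : SL5} (hg : g • e0 = e0) (j : Fin 5) (i k : Fin 5) (hi : i ≠ 0) :
    ((g : Matrix (Fin 5) (Fin 5) (ZMod 2)) * Matrix.transvection 0 j (1 : ZMod 2) *
      ((g⁻¹ : SL5) : Matrix (Fin 5) (Fin 5) (ZMod 2)) : Matrix (Fin 5) (Fin 5) (ZMod 2)) i k =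
      if i = k then 1 else 0 := by
  simp only [Matrix.transvection, Matrix.mul_add, Matrix.add_mul, Matrix.mul_one, Matrix.add_apply]
  rw [
    show (g : Matrix (Fin 5) (Fin 5) (ZMod 2)) * ((g⁻¹ : SL5) : Matrix (Fin 5) (Fin 5) (ZMod 2)) = 1 by
      rw [← Matrix.SpecialLinearGroup.coe_mul, mul_inv_cancel, Matrix.SpecialLinearGroup.coe_one]]
  have h0 : ((g : Matrix (Fin 5) (Fin 5) (ZMod 2)) * Matrix.single 0 j (1 : ZMod 2) *
      ((g⁻¹ : SL5) : Matrix (Fin 5) (Fin 5) (ZMod 2)) : Matrix (Fin 5) (Fin 5) (ZMod 2)) i k = 0 := by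
    rw [Matrix.mul_apply]
    refine Finset.sum_eq_zero fun m _ => ?_
    by_cases hm : m = j
    · subst hm
      simp [col_zero hg, hi]
    · simp [Matrix.mul_single_apply_of_ne _ _ _ _ _ hm]
  rw [h0, add_zero, Matrix.one_apply]

/-- A nontrivial normal subgroup of the stabiliser meets the transvections with centre `e₀`. -/
theorem exists_mem_normal (N : Subgroup (MulAction.stabilizer SL5 e0)) [hN : N.Normal] (hne : N ≠ ⊥) :
    ∃ b : Fin 16, b ≠ 0 ∧ (⟨ev modelsL (vWord b), mem_stab_vWord b⟩ : MulAction.stabilizer SL5 e0) ∈ N := by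
  obtain ⟨⟨g, hg⟩, hgN, hg1⟩ := (Subgroup.ne_bot_iff_exists_ne_one.mp hne).elim
    fun x hx => (⟨x.1, x.2, fun e => hx (Subtype.ext e)⟩ : ∃ y : MulAction.stabilizer SL5 e0, y ∈ N ∧ y ≠ 1)
  have hg' : g • e0 = e0 := hg
  have fin : ∀ x : MulAction.stabilizer SL5 e0, x ∈ N → x ≠ 1 →
      (∀ i k : Fin 5, i ≠ 0 → ((x : SL5) : Matrix (Fin 5) (Fin 5) (ZMod 2)) i k = if i = k then 1 else 0) →
      ∃ b : Fin 16, b ≠ 0 ∧ (⟨ev modelsL (vWord b), mem_stab_vWord b⟩ : MulAction.stabilizer SL5 e0) ∈ N := by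
    intro x hx hx1 hrow
    obtain ⟨b, hb⟩ := exists_vMat (by simpa using col_zero x.2 0) hrow
    have e : ev modelsL (vWord b) = (x : SL5) := Subtype.ext ((ev_vWord b).trans hb.symm)
    refine ⟨b, ?_, ?_⟩
    · rintro rfl
      exact hx1 (Subtype.ext (Subtype.ext (hb.trans vMat_zero)))
    · convert hx using 1
      exact Subtype.ext e
  by_cases hc : ∀ j : Fin 5, j ≠ 0 → (g : Matrix (Fin 5) (Fin 5) (ZMod 2)) * Matrix.transvection 0 j 1 =
      Matrix.transvection 0 j 1 * (g : Matrix (Fin 5) (Fin 5) (ZMod 2))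
  · refine fin ⟨g, hg⟩ hgN hg1 fun i k hi => ?_
    have h := congrFun (congrFun (hc i hi) 0) k
    simp only [Matrix.transvection, Matrix.mul_add, Matrix.add_mul, Matrix.mul_one, Matrix.one_mul,
      Matrix.add_apply, add_right_inj] at h
    rw [Matrix.single_mul_apply_same, one_mul] at h
    rw [← h]
    by_cases hk : i = k
    · subst hk
      simp [col_zero hg']
    · rw [Matrix.mul_single_apply_of_ne _ _ _ _ _ (Ne.symm hk), if_neg hk]
  · push Not at hc
    obtain ⟨j, hj, hne'⟩ := hc
    have hb : ∀ j : Fin 5, j ≠ 0 → ∃ b : Fin 16, vMat b = Matrix.transvection 0 j 1 := by decide +kernel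
    obtain ⟨b, hb⟩ := hb j hj
    set v : MulAction.stabilizer SL5 e0 := ⟨ev modelsL (vWord b), mem_stab_vWord b⟩ with hv
    set w : MulAction.stabilizer SL5 e0 := ⟨g, hg⟩ * v * ⟨g, hg⟩⁻¹ * v⁻¹ with hw
    have hwN : w ∈ N := by
      rw [hw, mul_assoc, mul_assoc]
      refine N.mul_mem hgN ?_
      rw [← mul_assoc]
      exact hN.conj_mem _ (N.inv_mem hgN) v
    refine fin w hwN (fun e => hne' ?_) fun i k hi => ?_
    · have e1 : g * ev modelsL (vWord b) = ev modelsL (vWord b) * g := by
        have := congrArg Subtype.val e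
        simp only [hw, hv, Subgroup.coe_mul, Subgroup.coe_inv, OneMemClass.coe_one] at this
        rw [mul_inv_eq_one, mul_inv_eq_iff_eq_mul] at this
        exact this
      have := congrArg Subtype.val e1
      simp only [Matrix.SpecialLinearGroup.coe_mul, ev_vWord, hb] at this
      exact this
    · have hinv : (v⁻¹ : MulAction.stabilizer SL5 e0) = v := by
        refine inv_eq_of_mul_eq_one_right (Subtype.ext (Subtype.ext ?_))
        show ((ev modelsL (vWord b) : SL5) : Matrix (Fin 5) (Fin 5) (ZMod 2)) * ((ev modelsL (vWord b) : SL5) : Matrix (Fin 5) (Fin 5) (ZMod 2)) = 1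
        rw [ev_vWord]
        exact (by decide +kernel : ∀ b : Fin 16, vMat b * vMat b = 1) b
      rw [hw, hinv]
      simp only [hv, Subgroup.coe_mul, Subgroup.coe_inv, Matrix.SpecialLinearGroup.coe_mul, ev_vWord, hb]
      rw [Matrix.mul_apply, Finset.sum_eq_single i]
      · rw [conj_transvection hg' j i i hi, if_pos rfl, one_mul]
        simp [Matrix.transvection, Matrix.one_apply, Matrix.single_apply, Ne.symm hi]
      · intro m _ hm
        rw [conj_transvection hg' j i m hi, if_neg (Ne.symm hm), zero_mul]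
      · exact fun h => absurd (Finset.mem_univ i) h

theorem center_SL5 : Subgroup.center SL5 = ⊥ := by
  refine eq_bot_iff.mpr fun x hx => ?_
  obtain ⟨r, -, hr⟩ := Matrix.SpecialLinearGroup.mem_center_iff.mp hx
  refine Subgroup.mem_bot.mpr (Subtype.ext ?_)
  have h1 : r = 1 := by
    have hd := x.2
    rw [← hr] at hd
    rw [Matrix.scalar_apply, Matrix.det_diagonal] at hd
    simp at hd
    exact hd
  rw [← hr, h1]
  simp

theorem simple_SL5 : IsSimpleGroup SL5 := by
  haveI : IsSimpleGroup (Matrix.ProjectiveSpecialLinearGroup (Fin 5) (ZMod 2)) :=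
    Cfsg.Agent.S0249.result (F := ZMod 2) 5 (by norm_num)
  let e : Matrix.ProjectiveSpecialLinearGroup (Fin 5) (ZMod 2) ≃* SL5 :=
    (QuotientGroup.quotientMulEquivOfEq center_SL5).trans QuotientGroup.quotientBot
  haveI : Nontrivial SL5 := e.symm.toEquiv.nontrivial
  exact IsSimpleGroup.isSimpleGroup_of_surjective e.toMonoidHom e.surjective

variable {G : Type*} [Group G] {t : G} {F : Frame t} {g h : G}

theorem ev_vWord_ne_one (b : Fin 16) (hb : b ≠ 0) : ev (stepGens F g) (vWord b) ≠ 1 := by
  intro hk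
  obtain ⟨hc, hne⟩ := vWord_code b hb
  rw [ev_word F g _ (vWord_lt b) hc rfl] at hk
  exact hne (F.inj _ _ (ev_prodN F _ hc).1 (by decide) (hk.trans (ev_one F).symm))

/-- The centralizer and the involution generate a copy of the stabiliser of a vector. -/
theorem StepV.iso_closure (S : StepV F g) :
    Nonempty ((Subgroup.closure {x | x ∈ stepGens F g} : Subgroup G) ≃* MulAction.stabilizer SL5 e0) := by
  have hR := S.rels_stepGens
  haveI := finite_numV.1
  have hle : Nat.card (NumGr 7 relsV) ≤ Nat.card (Subgroup.closure {x | x ∈ modelsV}) := by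
    rw [closure_modelsV]; exact finite_numV.2.trans card_stab
  let e := (numEquiv rels_modelsV.len rels_modelsV.rel hle).trans (MulEquiv.subgroupCongr closure_modelsV)
  let f := numHom (rels := relsV) hR.len hR.rel
  have hi : Function.Injective f := by
    rw [← MonoidHom.ker_eq_bot_iff]
    by_contra hne
    have hne' : f.ker.map e.toMonoidHom ≠ ⊥ := fun h => hne ((Subgroup.map_eq_bot_iff_of_injective _ e.injective).mp h)
    haveI : (f.ker.map e.toMonoidHom).Normal := Subgroup.Normal.map inferInstance _ e.surjective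
    obtain ⟨b, hb, x, hx, hxe⟩ := exists_mem_normal _ hne'
    have hx' : x = ev (numGens 7 relsV) (vWord b) := e.injective (by
      refine hxe.trans (Subtype.ext ?_)
      show ev modelsL (vWord b) = numHom rels_modelsV.len rels_modelsV.rel (ev (numGens 7 relsV) (vWord b))
      rw [numHom_ev, ev_vWordV])
    have hk : f x = 1 := hx
    rw [hx', numHom_ev] at hk
    exact ev_vWord_ne_one b hb hk
  exact ⟨(((MonoidHom.ofInjective hi).trans (MulEquiv.subgroupCongr (range_numHom hR.len hR.rel))).symm).trans e⟩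

/-- The centralizer and the two involutions generate a copy of `SL(5, 2)`. -/
theorem StepL.iso_closure (S : StepL F g h) :
    Nonempty ((Subgroup.closure {x | x ∈ gens8 F g h} : Subgroup G) ≃* SL5) := by
  have hR := S.rels_gens8
  obtain ⟨e⟩ := num_equivL
  haveI := simple_SL5
  haveI : Nontrivial (NumGr 8 relsL) := e.toEquiv.nontrivial
  haveI : IsSimpleGroup (NumGr 8 relsL) :=
    IsSimpleGroup.isSimpleGroup_of_surjective e.symm.toMonoidHom e.symm.surjective
  let f := numHom (rels := relsL) hR.len hR.rel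
  have hi : Function.Injective f := by
    rw [← MonoidHom.ker_eq_bot_iff]
    refine (IsSimpleGroup.eq_bot_or_eq_top_of_normal f.ker inferInstance).resolve_right fun ht => ?_
    have hk : f (ev (numGens 8 relsL) (vWord 1)) = 1 := MonoidHom.mem_ker.mp (ht ▸ Subgroup.mem_top _)
    rw [numHom_ev, ev_eight F g h _ (vWord_lt 1)] at hk
    exact ev_vWord_ne_one 1 (by decide) hk
  exact ⟨(((MonoidHom.ofInjective hi).trans (MulEquiv.subgroupCongr (range_numHom hR.len hR.rel))).symm).trans e⟩

end CfsgLib.Trichotomy.L5
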