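import Cfsg.Agent.Trichotomy.BranchFuse
import Cfsg.Agent.Trichotomy.L5Main

/-!
# The branch with both axes and no further class: `SL(5, 2)`
-/

set_option autoImplicit false
set_option linter.unusedSectionVars false
set_option maxRecDepth 100000

namespace CfsgLib.Trichotomy

open CfsgLib.HeldUniq
open CfsgLib.HeldAmal (chk ev_prodN)

variable {G : Type*} [Group G] {t : G} {F : Frame t}

/-- The kinds of a product of generators and of the product of their images. -/
def pairEdge (fr im : List Nat) (w : List Nat) (k k' : Nat) : Bool :=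
  let A := w.map fun i => fr.getD i Mdl.one
  let B := w.map fun i => im.getD i Mdl.one
  (w.all fun i => Nat.blt i 3) && chk A && chk B &&
    Nat.beq (Mdl.mulN (Mdl.prodN A) (Mdl.prodN A)) Mdl.one && !Nat.beq (Mdl.prodN A) Mdl.one &&
    Nat.beq (Mdl.mulN (Mdl.prodN B) (Mdl.prodN B)) Mdl.one && !Nat.beq (Mdl.prodN B) Mdl.one &&
    Nat.beq (kind (Mdl.prodN A)) k && Nat.beq (kind (Mdl.prodN B)) k'

theorem conj_prod_gens {x : G} (sq : x * x = 1) {fr im : List Nat}
    (act : ∀ i < 3, x * F.ev (fr.getD i Mdl.one) * x = F.ev (im.getD i Mdl.one)) :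
    ∀ w : List Nat, (∀ i ∈ w, i < 3) →
    x * ((w.map fun i => fr.getD i Mdl.one).map F.ev).prod * x =
      ((w.map fun i => im.getD i Mdl.one).map F.ev).prod
  | [], _ => by simpa using sq
  | i :: w, h => by
    simp only [List.map_cons, List.prod_cons]
    rw [← act i (h i List.mem_cons_self), ← conj_prod_gens sq act w fun j hj => h j (List.mem_cons_of_mem _ hj)]
    calc x * (F.ev (fr.getD i Mdl.one) * _) * x
        = x * F.ev (fr.getD i Mdl.one) * (1 : G) * ((w.map fun j => fr.getD j Mdl.one).map F.ev).prod * x := by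
          simp only [mul_one, mul_assoc]
      _ = _ := by rw [← sq]; simp only [mul_assoc]

theorem fused_of_pairEdge [Finite G] {H : Subgroup G} (hle : Subgroup.centralizer ({t} : Set G) ≤ H) {x : G}
    (hx : x ∈ H) (sq : x * x = 1) {fr im : List Nat}
    (act : ∀ i < 3, x * F.ev (fr.getD i Mdl.one) * x = F.ev (im.getD i Mdl.one))
    {w : List Nat} {k k' : Nat} (h : pairEdge fr im w k k' = true) : Fused F H k k' := by
  simp only [pairEdge, Bool.and_eq_true, List.all_eq_true, Nat.blt_eq, Nat.beq_eq,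
    Bool.not_eq_true'] at h
  obtain ⟨⟨⟨⟨⟨⟨⟨⟨hw, hA⟩, hB⟩, hsa⟩, hna⟩, hsb⟩, hnb⟩, hk⟩, hk'⟩ := h
  obtain ⟨ha, ea⟩ := ev_prodN F _ hA
  obtain ⟨hb, eb⟩ := ev_prodN F _ hB
  have he : x * F.ev (Mdl.prodN (w.map fun i => fr.getD i Mdl.one)) * x⁻¹ =
      F.ev (Mdl.prodN (w.map fun i => im.getD i Mdl.one)) := by
    rw [inv_eq_of_mul_eq_one_right sq, ea, eb, conj_prod_gens sq act w hw]
  obtain ⟨-, n, hn, en⟩ := exists_conj_rep F ha hsa (fun e => by
    rw [Mdl.beq_of_eq e] at hna; exact Bool.noConfusion hna)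
  obtain ⟨-, n', hn', en'⟩ := exists_conj_rep F hb hsb (fun e => by
    rw [Mdl.beq_of_eq e] at hnb; exact Bool.noConfusion hnb)
  rw [hk] at en
  rw [hk'] at en'
  have hc : ∀ m : Nat, Mdl.mem m = true → F.ev m ∈ H := fun m hm =>
    hle (Subgroup.mem_centralizer_singleton_iff.2 (F.mem_cent hm))
  refine ⟨(F.ev n')⁻¹ * x * F.ev n, mul_mem (mul_mem (inv_mem (hc _ hn')) hx) (hc _ hn), ?_⟩
  calc (F.ev n')⁻¹ * x * F.ev n * F.ev (repOf k) * ((F.ev n')⁻¹ * x * F.ev n)⁻¹
      = (F.ev n')⁻¹ * (x * (F.ev n * F.ev (repOf k) * (F.ev n)⁻¹) * x⁻¹) * F.ev n' := by group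
    _ = F.ev (repOf k') := by rw [en, he, ← en']; group

/-- The linear branch. -/
theorem lin_of_step [Finite G] {F : Frame t} (hb : IsPat F (patBoth false false)) {g h : G}
    (S : L5.StepL F g h) : Nonempty (G ≃* Matrix.SpecialLinearGroup (Fin 5) (ZMod 2)) := by
  set H := Subgroup.closure {x | x ∈ L5.gens8 F g h} with hH
  have hle : Subgroup.centralizer ({t} : Set G) ≤ H :=
    cent_le_of_codes F fun a ha => Subgroup.subset_closure
      (List.mem_append_left _ (List.mem_map.2 ⟨a, ha, rfl⟩))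
  have hg : g ∈ H := Subgroup.subset_closure (List.mem_append_right _ (by simp))
  have hh : h ∈ H := Subgroup.subset_closure (List.mem_append_right _ (by simp))
  have eg := fun (w : List Nat) (k k' : Nat) (e : pairEdge HeldAmal.actFrom L5.actTo w k k' = true) =>
    fused_of_pairEdge hle hg S.sq S.act e
  have eh := fun (w : List Nat) (k k' : Nat) (e : pairEdge L5.actFromSnd L5.actToSnd w k k' = true) =>
    fused_of_pairEdge hle hh S.sq_snd S.act_snd e
  have f1 : Fused F H 0 1 := eh [0, 0, 2, 1, 2, 1, 0, 1, 2, 1, 2] 0 1 (by decide +kernel)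
  have f2 : Fused F H 0 2 := eg [0, 0, 2, 1, 2, 1, 0, 1, 2, 1, 2] 0 2 (by decide +kernel)
  have f4 : Fused F H 0 4 := f1.trans (eg [0, 0, 1, 2, 0, 0, 1, 2] 4 1 (by decide +kernel)).symm
  have f5 : Fused F H 3 5 := eg [0, 1, 0, 2, 1, 1, 2] 3 5 (by decide +kernel)
  have f6 : Fused F H 3 6 := eg [0, 0, 2, 1, 0, 0, 2, 1] 3 6 (by decide +kernel)
  have f7 : Fused F H 3 7 := eh [0, 0, 2, 1, 0, 0, 2, 1] 3 7 (by decide +kernel)
  have P : FusesIn F (patBoth false false) H :=
    fusesIn_of_fused hle hb fun k hk => by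
      rcases (show k = 0 ∨ k = 1 ∨ k = 2 ∨ k = 3 ∨ k = 4 ∨ k = 5 ∨ k = 6 ∨ k = 7 by omega) with
        rfl | rfl | rfl | rfl | rfl | rfl | rfl | rfl
      exacts [Fused.refl 0, f1, f2, Fused.refl 3, f4, f5, f6, f7]
  have htop := P.eq_top (r := 5515792) (fuel := 4) (by decide +kernel) (by decide +kernel) (by decide)
    (by decide +kernel) closed_patL5
  obtain ⟨e⟩ := S.iso_closure
  exact ⟨((MulEquiv.subgroupCongr htop).trans Subgroup.topEquiv).symm.trans e⟩

end CfsgLib.Trichotomy
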