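import Cfsg.Agent.Coset.Table
import Cfsg.Agent.Trichotomy.L5TK1Data

set_option autoImplicit false
set_option maxRecDepth 100000

namespace CfsgLib.Trichotomy.L5.TK1

open CfsgLib.Coset

theorem hR : checkRules rels subs R = true := by decide +kernel
theorem hdefs : checkDefs E 8 11 1793 = true := by decide +kernel
theorem hsteps : checkChunks E id R 8 7 1793 70 C = true := by decide +kernel
theorem htable : checkTable E id (1793 + chunk * 70) 2 8 1 3 Rep Ref Tb = true := by decide +kernel

end CfsgLib.Trichotomy.L5.TK1
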