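import Cfsg.Agent.Trichotomy.L5CommData
import Cfsg.Agent.Trichotomy.L5TK1
import Cfsg.Agent.Trichotomy.L5TK2
import Cfsg.Agent.Trichotomy.L5TK3
import Cfsg.Agent.Trichotomy.L5TK4
import Cfsg.Agent.Trichotomy.L5TK5

/-! Two involutions with the prescribed actions generate `SL(5, 2)` with the centralizer: the cubes and the
square of the product follow from the actions. -/

set_option autoImplicit false
set_option maxRecDepth 100000

namespace CfsgLib.Trichotomy.L5

open CfsgLib.Coset
open CfsgLib.HeldUniq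
open CfsgLib.HeldAmal (codes actFrom chk ev_prodN)

variable {G : Type*} [Group G] {t : G} {F : Frame t} {g h : G}

theorem chG_ok : (chG.all fun l => !l.isEmpty && decide (l.length = 3) && linked l &&
      l.all (oneOk actFrom actTo 17466688)) = true ∧ badG.all (oneOk actFrom actTo 17466688) = true ∧
    (chG.any fun l => Nat.beq (startOf l) Mdl.tN && Nat.beq (endOf l) Mdl.tN) = true := by decide +kernel

theorem chG_cent : centOk chG badG goodG = true := by decide +kernel

theorem chH_ok : (chH.all fun l => !l.isEmpty && decide (l.length = 3) && linked l &&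
      l.all (oneOk actFromSnd actToSnd 17466688)) = true ∧ badH.all (oneOk actFromSnd actToSnd 17466688) = true ∧
    (chH.any fun l => Nat.beq (startOf l) Mdl.tN && Nat.beq (endOf l) Mdl.tN) = true := by decide +kernel

theorem chH_cent : centOk chH badH goodH = true := by decide +kernel

theorem chP_ok : (chP.all fun l => !l.isEmpty && decide (l.length = 2) && linked l &&
      l.all (prodOk 5515783)) = true ∧ badP.all (prodOk 5515783) = true ∧
    (chP.any fun l => Nat.beq (startOf l) Mdl.tN && Nat.beq (endOf l) Mdl.tN) = true := by decide +kernel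

theorem chP_cent : centOk chP badP goodP = true := by decide +kernel

/-- The first cube up to a twist. -/
theorem ActL.cube_cases (A : ActL F g h) :
    (g * F.ev 17466688) ^ 3 = 1 ∨ (g * F.ev 17466688) ^ 3 = F.ev 17926360 := by
  obtain ⟨d, hd, -, e⟩ := power_mem (F := F) (x := g * F.ev 17466688) _
    (fun e he => oneOk_move A.sq A.act he) chG_ok.1 chG_ok.2.1 chG_ok.2.2 chG_cent
  simp only [goodG, List.mem_cons, List.not_mem_nil, or_false] at hd
  rcases hd with rfl | rfl
  · exact Or.inl (e.trans (HeldAmal.ev_one F))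
  · exact Or.inr e

/-- The second cube up to a twist. -/
theorem ActL.cube_snd_cases (A : ActL F g h) :
    (h * F.ev 17466688) ^ 3 = 1 ∨ (h * F.ev 17466688) ^ 3 = F.ev 17926339 := by
  obtain ⟨d, hd, -, e⟩ := power_mem (F := F) (x := h * F.ev 17466688) _
    (fun e he => oneOk_move A.sq_snd A.act_snd he) chH_ok.1 chH_ok.2.1 chH_ok.2.2 chH_cent
  simp only [goodH, List.mem_cons, List.not_mem_nil, or_false] at hd
  rcases hd with rfl | rfl
  · exact Or.inl (e.trans (HeldAmal.ev_one F))
  · exact Or.inr e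

/-- The square of the product up to twists. -/
theorem ActL.square_cases (A : ActL F g h) :
    ∃ y ∈ goodP, Mdl.mem y = true ∧ (g * (F.ev 5515783 * h * F.ev 5515783)) ^ 2 = F.ev y :=
  power_mem (F := F) _ (fun _ he => prodOk_move A he) chP_ok.1 chP_ok.2.1 chP_ok.2.2 chP_cent

theorem shift_vals : Mdl.mem 17926337 = true ∧ Mdl.mulN 17926337 17926337 = Mdl.one ∧
    witOk actFromSnd actToSnd [0, 1, 0, 1] 17926337 17926337 = true ∧
    ((List.range 3).all fun i => Mdl.mem (actFromSnd.getD i Mdl.one) && Mdl.mem (actToSnd.getD i Mdl.one) &&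
      Nat.beq (Mdl.mulN 17926337 (actToSnd.getD i Mdl.one)) (Mdl.mulN (actToSnd.getD i Mdl.one) 17926337)) = true ∧
    Mdl.mem 5515783 = true ∧ Mdl.mem 17926340 = true ∧
    Mdl.mulN 17926337 5515783 = Mdl.mulN 5515783 17926340 ∧
    prodOk 5515783 moveS = true ∧ moveS.1 = 17926340 ∧ moveS.2.1 = 18188936 ∧
    Mdl.mem 20421082 = true ∧ Mdl.mem 20159386 = true ∧
    Mdl.mulN (Mdl.mulN 18188936 20421082) 17926340 = 20159382 ∧ Mdl.mem (Mdl.mulN 18188936 20421082) = true ∧
    Mdl.mulN (Mdl.mulN 18188936 20159386) 17926340 = 20421078 ∧ Mdl.mem (Mdl.mulN 18188936 20159386) = true := by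
  decide +kernel

/-- The second involution may be chosen so that the square of the product is one of two values. -/
theorem ActL.normalise (A : ActL F g h) : ∃ h' : G, ActL F g h' ∧
    ((g * (F.ev 5515783 * h' * F.ev 5515783)) ^ 2 = F.ev 20159382 ∨
      (g * (F.ev 5515783 * h' * F.ev 5515783)) ^ 2 = F.ev 20421078) := by
  obtain ⟨hs, hss, hwit, hcomm, hc, hs2, hcs, hmv, hm1, hm2, hy1, hy3, he1, hk1, he3, hk3⟩ := shift_vals
  set s := F.ev 17926337 with hsd
  set c := F.ev 5515783 with hcd
  have hss' : s * s = 1 := by rw [hsd, ← F.map_mul _ _ hs hs, hss, HeldAmal.ev_one F]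
  have hhs : h * s = s * h := wit_move A.sq_snd A.act_snd hwit
  have A' : ActL F g (h * s) := by
    refine ⟨A.sq, A.act, ?_, fun i hi => ?_⟩
    · calc h * s * (h * s) = h * (s * h) * s := by simp only [mul_assoc]
        _ = h * (h * s) * s := by rw [← hhs]
        _ = h * h * (s * s) := by simp only [mul_assoc]
        _ = 1 := by rw [A.sq_snd, hss', one_mul]
    · have hi' := List.all_eq_true.mp hcomm i (List.mem_range.mpr hi)
      simp only [Bool.and_eq_true, Nat.beq_eq] at hi'
      obtain ⟨⟨-, hb⟩, hsb⟩ := hi'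
      have eb : s * F.ev (actToSnd.getD i Mdl.one) = F.ev (actToSnd.getD i Mdl.one) * s := by
        rw [hsd, ← F.map_mul _ _ hs hb, hsb, F.map_mul _ _ hb hs]
      calc h * s * F.ev (actFromSnd.getD i Mdl.one) * (h * s)
          = s * (h * F.ev (actFromSnd.getD i Mdl.one) * h) * s := by rw [hhs]; simp only [mul_assoc]; rw [← hhs]
        _ = _ := by rw [A.act_snd i hi, eb, mul_assoc, hss', mul_one]
  obtain ⟨y, hy, hym, e⟩ := A.square_cases
  simp only [goodP, List.mem_cons, List.not_mem_nil, or_false] at hy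
  have key : ∀ y', Mdl.mem y' = true → Mdl.mem (Mdl.mulN 18188936 y') = true →
      (g * (c * h * c)) ^ 2 = F.ev y' →
      (g * (c * (h * s) * c)) ^ 2 = F.ev (Mdl.mulN (Mdl.mulN 18188936 y') 17926340) := by
    intro y' hym' hk' e'
    obtain ⟨-, him, hm⟩ := prodOk_move A hmv
    rw [hm1, hm2] at hm
    rw [hm2] at him
    have e1 : g * (c * (h * s) * c) = g * (c * h * c) * F.ev 17926340 := by
      have e0 : s * c = c * F.ev 17926340 := by
        rw [hsd, hcd, ← F.map_mul _ _ hs hc, hcs, F.map_mul _ _ hc hs2]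
      simp only [mul_assoc]; rw [e0]
    rw [e1, F.map_mul _ _ hk' hs2, F.map_mul _ _ him hym', ← e', pow_two, pow_two]
    calc g * (c * h * c) * F.ev 17926340 * (g * (c * h * c) * F.ev 17926340)
        = (g * (c * h * c) * F.ev 17926340) * (g * (c * h * c)) * F.ev 17926340 := by simp only [mul_assoc]
      _ = F.ev 18188936 * (g * (c * h * c)) * (g * (c * h * c)) * F.ev 17926340 := by rw [hm]
      _ = _ := by simp only [mul_assoc]
  rcases hy with rfl | rfl | rfl | rfl
  · exact ⟨h * s, A', Or.inl (he1 ▸ key _ hy1 hk1 e)⟩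
  · exact ⟨h, A, Or.inl e⟩
  · exact ⟨h * s, A', Or.inr (he3 ▸ key _ hy3 hk3 e)⟩
  · exact ⟨h, A, Or.inr e⟩

theorem no_inner : ((Mdl.codesOf Mdl.slPairs).all fun w =>
    !((List.range 3).all fun i => Nat.beq (Mdl.mulN (Mdl.mulN w (actFrom.getD i Mdl.one)) w) (actTo.getD i Mdl.one))) = true ∧
    ((List.range 3).all fun i => Mdl.mem (actFrom.getD i Mdl.one) && Mdl.mem (actTo.getD i Mdl.one) &&
      Mdl.mem (actFromSnd.getD i Mdl.one) && Mdl.mem (actToSnd.getD i Mdl.one)) = true := by decide +kernel

theorem no_inner_snd : ((Mdl.codesOf Mdl.slPairs).all fun w =>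
    !((List.range 3).all fun i =>
      Nat.beq (Mdl.mulN (Mdl.mulN w (actFromSnd.getD i Mdl.one)) w) (actToSnd.getD i Mdl.one))) = true := by
  decide +kernel

theorem codes_chk : (codes.all fun a => Mdl.mem a && Nat.beq (Mdl.mulN a Mdl.tN) (Mdl.mulN Mdl.tN a)) = true := by
  decide +kernel

/-- The low generators commute with `t`. -/
theorem exists_code_genBy {x : G} (hx : x ∈ genBy (gens8 F g h) [0, 1, 2, 3, 4, 5]) :
    ∃ w, Mdl.mem w = true ∧ F.ev w = x := by
  refine (F.mem_iff x).1 ?_
  revert hx x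
  show genBy (gens8 F g h) [0, 1, 2, 3, 4, 5] ≤ Subgroup.centralizer ({t} : Set G)
  rw [genBy, Subgroup.closure_le]
  intro x hx
  simp only [lv, List.map_cons, List.map_nil, List.mem_cons, List.not_mem_nil, or_false, Set.mem_setOf_eq] at hx
  have key : ∀ a ∈ codes, F.ev a ∈ Subgroup.centralizer ({t} : Set G) := fun a ha =>
    (F.mem_iff _).2 ⟨a, by
      have := List.all_eq_true.mp codes_chk a ha
      simp only [Bool.and_eq_true] at this
      exact this.1, rfl⟩
  rcases hx with rfl | rfl | rfl | rfl | rfl | rfl <;> exact key _ (by decide)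

/-- An involution with the prescribed action is not in the centralizer. -/
theorem not_low {x : G} {fr im : List Nat}
    (hin : ((Mdl.codesOf Mdl.slPairs).all fun w => !((List.range 3).all fun i =>
      Nat.beq (Mdl.mulN (Mdl.mulN w (fr.getD i Mdl.one)) w) (im.getD i Mdl.one))) = true)
    (hmem : ∀ i < 3, Mdl.mem (fr.getD i Mdl.one) = true ∧ Mdl.mem (im.getD i Mdl.one) = true)
    (act : ∀ i < 3, x * F.ev (fr.getD i Mdl.one) * x = F.ev (im.getD i Mdl.one))
    (hx : ∃ w, Mdl.mem w = true ∧ F.ev w = x) : False := by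
  obtain ⟨w, hw, rfl⟩ := hx
  have hlt' : ∀ x ∈ Mdl.slPairs, x.1 < 512 := fun x hx => (Mdl.pair_facts hx).2.2.1
  have h1 := List.all_eq_true.mp hin w ((Mdl.mem_codesOf hlt' w).2 ((Mdl.mem_iff_pair w).1 hw))
  have h2 : ((List.range 3).all fun i =>
      Nat.beq (Mdl.mulN (Mdl.mulN w (fr.getD i Mdl.one)) w) (im.getD i Mdl.one)) = true := by
    refine List.all_eq_true.mpr fun i hi => ?_
    have hi' := List.mem_range.mp hi
    obtain ⟨ha, hb⟩ := hmem i hi'
    have e := act i hi'
    rw [← F.map_mul _ _ hw ha, ← F.map_mul _ _ (Mdl.mem_mulN hw ha) hw] at e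
    rw [Nat.beq_eq]
    exact F.inj _ _ (Mdl.mem_mulN (Mdl.mem_mulN hw ha) hw) hb e
  rw [h2] at h1
  exact Bool.noConfusion h1

theorem ActL.fst_not_low (A : ActL F g h) : g ∉ genBy (gens8 F g h) [0, 1, 2, 3, 4, 5] := fun hm =>
  not_low no_inner.1 (fun i hi => by
    have := List.all_eq_true.mp no_inner.2 i (List.mem_range.mpr hi)
    simp only [Bool.and_eq_true] at this
    exact ⟨this.1.1.1, this.1.1.2⟩) A.act (exists_code_genBy hm)

theorem ActL.snd_not_low (A : ActL F g h) : h ∉ genBy (gens8 F g h) [0, 1, 2, 3, 4, 5] := fun hm =>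
  not_low no_inner_snd (fun i hi => by
    have := List.all_eq_true.mp no_inner.2 i (List.mem_range.mpr hi)
    simp only [Bool.and_eq_true] at this
    exact ⟨this.1.2, this.2⟩) A.act_snd (exists_code_genBy hm)

theorem sqA : ((List.range 8).all fun l => relsA.contains [l, l]) = true := by decide +kernel

/-- A table in which a letter fixes the base coset puts it among the low generators. -/
theorem low_of_table {ex : List (List Nat)} (A : ActL F g h) (hex : ∀ w ∈ ex, ev (gens8 F g h) w = 1)
    (n : Nat) {rs subs : List (List Nat)} {E Rep Tb : Nat → Nat}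
    {R : Tr (List Nat × Nat)} {d d' N nC dn dk : Nat} {C Ref : Nat → Nat}
    (hc : checkLevel (relsA ++ ex) 8 [0, 1, 2, 3, 4, 5, 6, 7] [0, 1, 2, 3, 4, 5] rs subs = true)
    (hR : checkRules rs subs R = true) (hd : checkDefs E 8 d' N = true)
    (hs : checkChunks E id R 8 d N nC C = true)
    (ht : checkTable E id (N + chunk * nC) n 8 dn dk Rep Ref Tb = true) (hn : 0 < n)
    {l : Nat} (hl : l < 8) (hf : tget Tb 0 l = 0) : fl (gens8 F g h) l ∈ genBy (gens8 F g h) [0, 1, 2, 3, 4, 5] := by
  have hrel : ∀ w ∈ relsA ++ ex, ev (gens8 F g h) w = 1 := fun w hw =>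
    (List.mem_append.mp hw).elim (A.rels w) (hex w)
  have hsq : ((List.range 8).all fun l => (relsA ++ ex).contains [l, l]) = true := by
    refine List.all_eq_true.mpr fun l hl => ?_
    rw [List.contains_iff_mem]
    exact List.mem_append_left _ (List.contains_iff_mem.mp (List.all_eq_true.mp sqA l hl))
  have T := level (L := gens8 F g h) rfl hrel hsq n 8 rfl hc hR hd hs ht
  have h1 := T.ev_mem hn (w := [l]) (by simpa [lv] using hl) (by simpa [follow_cons, follow_nil] using hf)
  have hlv : lv (gens8 F g h) [0, 1, 2, 3, 4, 5, 6, 7] = gens8 F g h := rfl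
  rwa [hlv, ev_letter] at h1

theorem z_words : (([([4, 0, 1, 4, 1, 0], 17926360), ([2, 0, 2, 1], 17926339), ([1, 0, 2, 0, 3], 20159382),
    ([0, 1, 3, 0, 1, 2, 1], 20421078)] : List (List Nat × Nat)).all fun e =>
      (e.1.all fun l => decide (l < 6)) && chk (e.1.map fun l => codes.getD l 0) && Mdl.mem e.2 &&
        Nat.beq (Mdl.mulN e.2 (Mdl.prodN (e.1.map fun l => codes.getD l 0))) Mdl.one) = true := by decide +kernel

theorem twist {u v : List Nat} {w : List Nat} {d : Nat} (hw : (w, d) ∈ ([([4, 0, 1, 4, 1, 0], 17926360),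
    ([2, 0, 2, 1], 17926339), ([1, 0, 2, 0, 3], 20159382), ([0, 1, 3, 0, 1, 2, 1], 20421078)] : List (List Nat × Nat)))
    (hv : v = u ++ w) (e : ev (gens8 F g h) u = F.ev d) : ev (gens8 F g h) v = 1 := by
  have h1 := List.all_eq_true.mp z_words _ hw
  simp only [Bool.and_eq_true, List.all_eq_true, decide_eq_true_eq, Nat.beq_eq] at h1
  obtain ⟨⟨⟨hl, hc⟩, hm⟩, h1⟩ := h1
  rw [hv, ev_append, e, ev_word8 F g h w hl hc rfl, ← F.map_mul _ _ hm (ev_prodN F _ hc).1, h1]
  exact HeldAmal.ev_one F

theorem ActL.cubeG_ne (A : ActL F g h)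
    (hy : (g * (F.ev 5515783 * h * F.ev 5515783)) ^ 2 = F.ev 20159382) :
    (g * F.ev 17466688) ^ 3 = 1 := by
  refine A.cube_cases.resolve_right fun e => A.fst_not_low ?_
  rw [← fl_six F g h]
  refine low_of_table (ex := [cubeGz, comm2]) A ?_ _ (by decide +kernel)
    TK1.hR TK1.hdefs TK1.hsteps TK1.htable (by norm_num) (by norm_num) (by decide +kernel)
  simp only [List.mem_cons, List.not_mem_nil, or_false]
  rintro w (rfl | rfl)
  · exact twist (d := 17926360) (u := cubeG1) (by simp) rfl (by rw [ev_cubeG, e])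
  · exact twist (d := 20159382) (u := sqWord) (by simp) rfl (by rw [ev_sqWord, hy])

/-- The cubes are trivial, and the square of the product is not twisted. -/
theorem ActL.values (A : ActL F g h)
    (hy : (g * (F.ev 5515783 * h * F.ev 5515783)) ^ 2 = F.ev 20159382 ∨
      (g * (F.ev 5515783 * h * F.ev 5515783)) ^ 2 = F.ev 20421078) :
    (g * F.ev 17466688) ^ 3 = 1 ∧ (h * F.ev 17466688) ^ 3 = 1 ∧
      (g * (F.ev 5515783 * h * F.ev 5515783)) ^ 2 = F.ev 20421078 := by
  rcases hy with hy | hy
  · exfalso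
    have hg := A.cubeG_ne hy
    have hgw : ev (gens8 F g h) cubeG1 = 1 := by rw [ev_cubeG]; exact hg
    have hyw : ev (gens8 F g h) comm2 = 1 := twist (d := 20159382) (u := sqWord) (by simp) rfl (by rw [ev_sqWord, hy])
    rcases A.cube_snd_cases with e | e
    · refine A.fst_not_low ?_
      rw [← fl_six F g h]
      refine low_of_table (ex := [cubeG1, cubeH1, comm2]) A ?_ _ (by decide +kernel)
        TK3.hR TK3.hdefs TK3.hsteps TK3.htable (by norm_num) (by norm_num) (by decide +kernel)
      simp only [List.mem_cons, List.not_mem_nil, or_false]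
      rintro w (rfl | rfl | rfl)
      · exact hgw
      · rw [ev_cubeH]; exact e
      · exact hyw
    · refine A.snd_not_low ?_
      rw [← fl_seven F g h]
      refine low_of_table (ex := [cubeG1, cubeHz, comm2]) A ?_ _ (by decide +kernel)
        TK2.hR TK2.hdefs TK2.hsteps TK2.htable (by norm_num) (by norm_num) (by decide +kernel)
      simp only [List.mem_cons, List.not_mem_nil, or_false]
      rintro w (rfl | rfl | rfl)
      · exact hgw
      · exact twist (d := 17926339) (u := cubeH1) (by simp) rfl (by rw [ev_cubeH, e])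
      · exact hyw
  · have hyw : ev (gens8 F g h) comm4 = 1 := twist (d := 20421078) (u := sqWord) (by simp) rfl (by rw [ev_sqWord, hy])
    have hh : (h * F.ev 17466688) ^ 3 = 1 := by
      refine A.cube_snd_cases.resolve_right fun e => A.snd_not_low ?_
      rw [← fl_seven F g h]
      refine low_of_table (ex := [cubeHz, comm4]) A ?_ _ (by decide +kernel)
        TK4.hR TK4.hdefs TK4.hsteps TK4.htable (by norm_num) (by norm_num) (by decide +kernel)
      simp only [List.mem_cons, List.not_mem_nil, or_false]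
      rintro w (rfl | rfl)
      · exact twist (d := 17926339) (u := cubeH1) (by simp) rfl (by rw [ev_cubeH, e])
      · exact hyw
    refine ⟨A.cube_cases.resolve_right fun e => A.fst_not_low ?_, hh, hy⟩
    rw [← fl_six F g h]
    refine low_of_table (ex := [cubeH1, cubeGz, comm4]) A ?_ _ (by decide +kernel)
      TK5.hR TK5.hdefs TK5.hsteps TK5.htable (by norm_num) (by norm_num) (by decide +kernel)
    simp only [List.mem_cons, List.not_mem_nil, or_false]
    rintro w (rfl | rfl | rfl)
    · rw [ev_cubeH]; exact hh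
    · exact twist (d := 17926360) (u := cubeG1) (by simp) rfl (by rw [ev_cubeG, e])
    · exact hyw

/-- Two involutions with the prescribed actions give, after changing the second, the linear group. -/
theorem exists_stepL (A : ActL F g h) : ∃ h' : G, StepL F g h' := by
  obtain ⟨h', A', hy⟩ := A.normalise
  obtain ⟨e1, e2, e3⟩ := A'.values hy
  exact ⟨h', ⟨⟨A'.sq, A'.act, e1⟩, A'.sq_snd, A'.act_snd, e2, e3⟩⟩

end CfsgLib.Trichotomy.L5
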