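import Cfsg.Agent.Trichotomy.Pattern
import Cfsg.Agent.HeldUniq.Mirror

/-!
# The patterns under the exchange of the two axes
-/

set_option autoImplicit false
set_option linter.unusedSectionVars false
set_option maxRecDepth 100000

namespace CfsgLib.Trichotomy

open CfsgLib.HeldUniq

/-- The classes after exchanging the axes. -/
def mirKind : List Nat := [0, 2, 1, 3, 4, 5, 7, 6]

theorem mir_kind : (List.range 8).all (fun k => Mdl.mem (Mdl.mir (repOf k)) &&
    Nat.beq (kind (Mdl.mir (repOf k))) (mirKind.getD k 0) &&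
    Nat.beq (Mdl.mulN (Mdl.mir (repOf k)) (Mdl.mir (repOf k))) Mdl.one &&
    !Nat.beq (Mdl.mir (repOf k)) Mdl.one) = true := by decide +kernel

/-- The pattern with the axes exchanged. -/
def mirPat (b : List Bool) : List Bool := mirKind.map fun k => b.getD k false

theorem mirPat_vals (d0 d3 : Bool) : mirPat patV = patP ∧ mirPat patP = patV ∧
    mirPat patNone = patNone ∧ mirPat (patBoth d0 d3) = patBoth d3 d0 := by
  cases d0 <;> cases d3 <;> decide

variable {G : Type*} [Group G] [Finite G] {t : G} {F : Frame t}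

theorem IsPat.mirror {b : List Bool} (hb : IsPat F b) (n : Nat) (hn : Mdl.mem n = true) :
    IsPat (F.mirror n hn) (mirPat b) := by
  intro k hk
  have h := List.all_eq_true.1 mir_kind k (List.mem_range.2 hk)
  simp only [Bool.and_eq_true, Bool.not_eq_true', Nat.beq_eq] at h
  obtain ⟨⟨⟨hm, hk2⟩, hsq⟩, hne⟩ := h
  have hne' : Mdl.mir (repOf k) ≠ Mdl.one := fun e => by
    rw [Mdl.beq_of_eq e] at hne; exact Bool.noConfusion hne
  obtain ⟨hlt, c, -, hc⟩ := exists_conj_rep F hm hsq hne'
  rw [hk2] at hlt hc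
  have e : IsConj (F.ev (repOf (mirKind.getD k 0))) ((F.mirror n hn).ev (repOf k)) :=
    (isConj_iff.2 ⟨_, hc⟩).trans (isConj_iff.2 ⟨F.ev n, rfl⟩)
  have hb' := hb _ hlt
  have hget : (mirPat b).getD k false = b.getD (mirKind.getD k 0) false := by
    simp only [mirPat]
    rcases k with _|_|_|_|_|_|_|_|k <;> first | rfl | omega
  rw [hget]
  exact ⟨fun h => hb'.1 (h.trans e.symm), fun h => (hb'.2 h).trans e⟩

end CfsgLib.Trichotomy
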