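import Cfsg.Agent.Trichotomy.CaseAct
import Cfsg.Agent.Trichotomy.PatternMirror
import Cfsg.Agent.Trichotomy.L5Comm

/-!
# Both axes fused and nothing else: the linear group
-/

set_option autoImplicit false
set_option maxRecDepth 100000

namespace CfsgLib.Trichotomy.L5

open CfsgLib.HeldUniq
open CfsgLib.HeldAmal (actFrom)

theorem mir_lists : ((List.range 3).all fun i =>
    (Mdl.mem (actFrom.getD i Mdl.one) && Mdl.mem (actFromSnd.getD i Mdl.one) &&
      Nat.beq (Mdl.mulN Mdl.one (Mdl.mir (actFrom.getD i Mdl.one)))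
        (Mdl.mulN (actFromSnd.getD i Mdl.one) Mdl.one)) &&
    (Mdl.mem (actTo.getD i Mdl.one) && Mdl.mem (actToSnd.getD i Mdl.one) &&
      Nat.beq (Mdl.mulN Mdl.one (Mdl.mir (actTo.getD i Mdl.one)))
        (Mdl.mulN (actToSnd.getD i Mdl.one) Mdl.one))) = true := by decide +kernel

variable {G : Type*} [Group G] [Finite G] {t : G} {F : Frame t}

/-- When the two axis classes are fused with `t` and nothing else is, two involutions satisfy the relations of
`SL(5, 2)`. -/
theorem exists_stepL_of_pat (hb : IsPat F (patBoth false false)) : ∃ g h : G, F.Swaps g ∧ StepL F g h := by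
  obtain ⟨g, hsw, sq, act⟩ := exists_act_lin hb
  have hb' := hb.mirror Mdl.one Mdl.mem_one
  rw [(mirPat_vals false false).2.2.2] at hb'
  obtain ⟨k, -, ksq, kact⟩ := exists_act_lin hb'
  have hA : ActL F g k := ⟨sq, act, ksq, fun i hi => by
    have h := List.all_eq_true.1 mir_lists i (List.mem_range.2 hi)
    rw [Bool.and_eq_true] at h
    have e1 := F.mirror_ev Mdl.one Mdl.mem_one h.1
    have e2 := F.mirror_ev Mdl.one Mdl.mem_one h.2
    rw [← e1, ← e2]
    exact kact i hi⟩
  obtain ⟨h, hS⟩ := exists_stepL hA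
  exact ⟨g, h, hsw, hS⟩

end CfsgLib.Trichotomy.L5
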