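import Cfsg.Agent.Trichotomy.L5Bound
import Cfsg.Agent.Coset.Presented
import Cfsg.Agent.Classical.Transvections
import Cfsg.Agent.Classical.LinearOrder
import Mathlib.GroupTheory.GroupAction.Quotient

/-! The relators present a vector stabiliser of `SL(5, 2)` and `SL(5, 2)`. -/

set_option autoImplicit false
set_option maxRecDepth 100000

namespace CfsgLib.Trichotomy.L5

open CfsgLib.Coset

/-- The linear group. -/
abbrev SL5 := Matrix.SpecialLinearGroup (Fin 5) (ZMod 2)

theorem det_one_of_sq {M : Matrix (Fin 5) (Fin 5) (ZMod 2)} (h : M * M = 1) : M.det = 1 := by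
  have h2 := congrArg Matrix.det h
  rw [Matrix.det_mul, Matrix.det_one] at h2
  exact (by decide : ∀ x : ZMod 2, x * x = 1 → x = 1) _ h2

/-- A generator. -/
def q0 : SL5 := ⟨!![1, 1, 0, 1, 1; 0, 1, 0, 0, 0; 0, 0, 1, 0, 0; 0, 1, 0, 1, 0; 0, 1, 0, 0, 1], det_one_of_sq (by decide +kernel)⟩

/-- A generator. -/
def q1 : SL5 := ⟨!![1, 1, 1, 1, 1; 0, 1, 0, 0, 0; 0, 1, 1, 0, 0; 0, 0, 0, 1, 0; 0, 1, 0, 0, 1], det_one_of_sq (by decide +kernel)⟩

/-- A generator. -/
def q2 : SL5 := ⟨!![1, 1, 1, 0, 1; 0, 1, 0, 0, 0; 0, 0, 1, 0, 0; 0, 0, 1, 1, 0; 0, 0, 0, 0, 1], det_one_of_sq (by decide +kernel)⟩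

/-- A generator. -/
def q3 : SL5 := ⟨!![1, 0, 0, 0, 0; 0, 1, 0, 0, 0; 0, 1, 1, 0, 0; 0, 0, 0, 1, 0; 0, 1, 0, 1, 1], det_one_of_sq (by decide +kernel)⟩

/-- A generator. -/
def q4 : SL5 := ⟨!![1, 0, 1, 1, 0; 0, 1, 0, 0, 0; 0, 1, 0, 1, 0; 0, 1, 1, 0, 0; 0, 0, 0, 0, 1], det_one_of_sq (by decide +kernel)⟩

/-- A generator. -/
def q5 : SL5 := ⟨!![1, 1, 0, 1, 1; 0, 1, 0, 0, 0; 0, 1, 1, 0, 0; 0, 0, 0, 0, 1; 0, 0, 0, 1, 0], det_one_of_sq (by decide +kernel)⟩

/-- A generator. -/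
def q6 : SL5 := ⟨!![1, 0, 0, 1, 0; 0, 0, 1, 0, 0; 0, 1, 0, 0, 0; 0, 0, 0, 1, 0; 0, 0, 0, 0, 1], det_one_of_sq (by decide +kernel)⟩

/-- A generator. -/
def q7 : SL5 := ⟨!![0, 1, 1, 0, 0; 0, 1, 0, 0, 0; 1, 1, 0, 0, 0; 0, 1, 0, 1, 0; 0, 0, 0, 0, 1], det_one_of_sq (by decide +kernel)⟩

/-- The eight matrices. -/
def modelsL : List SL5 := [q0, q1, q2, q3, q4, q5, q6, q7]

/-- The first seven. -/
def modelsV : List SL5 := [q0, q1, q2, q3, q4, q5, q6]

/-- The fixed vector. -/
def e0 : Fin 5 → ZMod 2 := ![1, 0, 0, 0, 0]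

/-- Words moving it to all nonzero vectors. -/
def orbWords : List (List Nat) := [[], [7], [1, 7], [2, 7], [4, 7], [6, 7], [2, 1, 7], [4, 1, 7], [6, 1, 7], [3, 2, 7], [5, 2, 7], [6, 2, 7], [3, 4, 7], [5, 4, 7], [0, 6, 7], [1, 6, 7], [3, 6, 7], [4, 6, 7], [5, 6, 7], [7, 6, 7], [3, 2, 1, 7], [5, 2, 1, 7], [6, 2, 1, 7], [3, 4, 1, 7], [5, 4, 1, 7], [0, 6, 1, 7], [5, 6, 1, 7], [6, 5, 2, 7], [1, 6, 2, 7], [3, 0, 6, 7], [7, 0, 6, 7]]

/-- Positions of the elementary transvections. -/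
def tvPos : List (Fin 5 × Fin 5) := [(0, 1), (0, 2), (0, 3), (0, 4), (1, 0), (1, 2), (1, 3), (1, 4), (2, 0), (2, 1), (2, 3), (2, 4), (3, 0), (3, 1), (3, 2), (3, 4), (4, 0), (4, 1), (4, 2), (4, 3)]

/-- Their words. -/
def tvWords : List (List Nat) := [[0, 1, 0, 1], [0, 2, 1, 0, 1, 2], [1, 3, 1, 3], [2, 4, 2, 4, 2, 4], [7, 0, 6, 0, 5, 2, 5, 7], [6, 0, 2, 1, 2, 6], [4, 1, 6, 1, 6, 2, 4, 0], [0, 5, 4, 1, 6, 4, 5], [7, 0, 2, 0, 2, 7], [0, 2, 1, 2], [4, 2, 3, 0, 3, 4], [1, 4, 1, 5, 3, 5, 4], [0, 1, 4, 7, 1, 4, 0], [0, 1, 2, 0, 1, 2], [1, 2, 1, 3, 0, 3], [2, 7, 2, 7, 2, 7], [5, 1, 4, 7, 1, 4, 5], [0, 1, 3, 0, 1, 3], [1, 3, 2, 1, 3, 2], [1, 6, 3, 6, 1, 6]]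

/-- The vectors by number. -/
def vec5 (n : Nat) : Fin 5 → ZMod 2 := fun i => if n.testBit i then 1 else 0

/-- The actions of the generators on the numbered vectors. -/
def vTabs : List Nat := [285354852665698511429435067942877231992615562272, 517953557889662783170237129810405589643918269472, 1038574792287660926374879616204681237889398410272, 1270848382910260536632337427111949333736612157472, 894790695249320242300400148894587988850884720672, 1227339587535088492423463432083507773081139747872, 1415600994829272497749725841645642878033934323744, 854823268470755168177554401813034347525207080064]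

/-- One step of the action. -/
def actN (l v : Nat) : Nat := if l < 8 then Nat.land (Nat.shiftRight (vTabs.getD l 0) (5 * v)) 31 else v

/-- The action of a word. -/
def wordN : List Nat → Nat → Nat
  | [], v => v
  | l :: w, v => actN l (wordN w v)

theorem step_ok : ∀ l : Fin 8, ∀ v : Fin 32, actN l v < 32 ∧ fl modelsL l • vec5 v = vec5 (actN l v) := by
  decide +kernel

theorem word_ok : ∀ (w : List Nat) (v : Nat), v < 32 → wordN w v < 32 ∧ ev modelsL w • vec5 v = vec5 (wordN w v)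
  | [], v, hv => ⟨hv, one_smul _ _⟩
  | l :: w, v, hv => by
    obtain ⟨h1, h2⟩ := word_ok w v hv
    rw [ev_cons, mul_smul, h2]
    by_cases hl : l < 8
    · exact step_ok ⟨l, hl⟩ ⟨_, h1⟩
    · simp only [wordN, actN, hl, if_false]
      exact ⟨h1, by rw [fl_of_le modelsL (show modelsL.length ≤ l by simp [modelsL]; omega), one_smul]⟩

theorem vec5_single : ∀ j : Fin 5, vec5 (2 ^ (j : ℕ)) = Pi.single j 1 := by decide +kernel

theorem eq_of_act {w : List Nat} {M : Matrix (Fin 5) (Fin 5) (ZMod 2)}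
    (h : ∀ j : Fin 5, M.mulVec (vec5 (2 ^ (j : ℕ))) = vec5 (wordN w (2 ^ (j : ℕ)))) :
    ((ev modelsL w : SL5) : Matrix (Fin 5) (Fin 5) (ZMod 2)) = M := by
  ext i j
  have h2 := (word_ok w (2 ^ (j : ℕ)) (by revert j; decide)).2
  rw [← h j] at h2
  rw [vec5_single j] at h2
  have h3 := congrFun h2 i
  rw [Matrix.SpecialLinearGroup.smul_def, Matrix.smul_eq_mulVec] at h3
  simpa [Matrix.mulVec_single_one] using h3

theorem eq_one_of_act {w : List Nat} (h : ∀ j : Fin 5, wordN w (2 ^ (j : ℕ)) = 2 ^ (j : ℕ)) :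
    ev modelsL w = 1 :=
  Subtype.ext (eq_of_act fun j => by rw [h j]; exact Matrix.one_mulVec _)

theorem rels_modelsL : RelsL modelsL where
  len := rfl
  rel := fun w hw => eq_one_of_act ((by decide +kernel :
    ∀ w ∈ relsL, ∀ j : Fin 5, wordN w (2 ^ (j : ℕ)) = 2 ^ (j : ℕ)) w hw)

theorem fl_modelsV : ∀ l, l < 7 → fl modelsV l = fl modelsL l := by
  intro l hl
  interval_cases l <;> rfl

theorem ev_modelsV : ∀ (w : List Nat), (∀ l ∈ w, l < 7) → ev modelsV w = ev modelsL w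
  | [], _ => rfl
  | l :: w, h => by
    rw [ev_cons, ev_cons, ev_modelsV w fun x hx => h x (List.mem_cons_of_mem _ hx), fl_modelsV l (h l List.mem_cons_self)]

theorem rels_modelsV : RelsV modelsV where
  len := rfl
  rel := fun w hw => by
    rw [ev_modelsV w ((by decide +kernel : ∀ w ∈ relsV, ∀ l ∈ w, l < 7) w hw)]
    exact rels_modelsL.rel w ((by decide +kernel : ∀ w ∈ relsV, w ∈ relsL) w hw)

theorem tv_act : ∀ k : Fin 20, ∀ j : Fin 5,
    (Matrix.transvection (tvPos.getD k (0, 0)).1 (tvPos.getD k (0, 0)).2 (1 : ZMod 2)).mulVec (vec5 (2 ^ (j : ℕ))) =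
      vec5 (wordN (tvWords.getD k []) (2 ^ (j : ℕ))) := by decide +kernel

theorem tv_pos_idx : ∀ i j : Fin 5, i ≠ j → ∃ k : Fin 20, tvPos.getD k (0, 0) = (i, j) := by decide +kernel

theorem ev_mem {H : Subgroup SL5} {L : List SL5} (hL : ∀ l, fl L l ∈ H) (w : List Nat) : ev L w ∈ H := by
  induction w with
  | nil => exact one_mem _
  | cons a w ih => rw [ev_cons]; exact mul_mem (hL a) ih

theorem closure_modelsL : Subgroup.closure {x | x ∈ modelsL} = ⊤ := by
  refine eq_top_iff.mpr fun A _ => CfsgLib.Linear.transvection_induction _ (fun i j hij c => ?_)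
    (fun _ _ => mul_mem) A
  have hc : c = 0 ∨ c = 1 := (by decide : ∀ c : ZMod 2, c = 0 ∨ c = 1) c
  rcases hc with rfl | rfl
  · convert one_mem (Subgroup.closure {x | x ∈ modelsL})
    exact Subtype.ext (by simp [Matrix.SpecialLinearGroup.transvection])
  · obtain ⟨k, hk⟩ := tv_pos_idx i j hij
    convert ev_mem (H := Subgroup.closure {x | x ∈ modelsL}) mem_closure_fl (tvWords.getD k [])
    refine Subtype.ext (eq_of_act fun l => ?_).symm
    have := tv_act k l
    rw [hk] at this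
    exact this

theorem card_SL_two (F : Type) [Field F] [Fintype F] (hF : Fintype.card F = 2) :
    Nat.card (Matrix.SpecialLinearGroup (Fin 5) F) = 9999360 := by
  have h := CfsgLib.Linear.card_SL_mul (F := F) hF 5 (by norm_num)
  rw [Fin.prod_univ_five] at h
  norm_num at h
  exact h

theorem card_SL5 : Nat.card SL5 = 9999360 := card_SL_two (ZMod 2) (ZMod.card 2)

theorem finite_numL : Finite (NumGr 8 relsL) ∧ Nat.card (NumGr 8 relsL) ≤ 9999360 :=
  (RelsL.mk length_numGens ev_numGens).card_le closure_numGens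

/-- The relators present the linear group. -/
theorem num_equivL : Nonempty (NumGr 8 relsL ≃* SL5) := by
  have := finite_numL.1
  refine ⟨(numEquiv rels_modelsL.len rels_modelsL.rel ?_).trans
    ((MulEquiv.subgroupCongr closure_modelsL).trans Subgroup.topEquiv)⟩
  rw [closure_modelsL, Subgroup.card_top, card_SL5]
  exact finite_numL.2

theorem e0_eq : e0 = vec5 1 := by decide +kernel

/-- The number of a vector. -/
def code5 (v : Fin 5 → ZMod 2) : Nat :=
  (v 0).val + 2 * (v 1).val + 4 * (v 2).val + 8 * (v 3).val + 16 * (v 4).val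

theorem code_vec5 : ∀ n : Fin 32, code5 (vec5 n) = n := by decide +kernel

theorem orb_cover : ∀ n : Fin 32, n.val ≠ 0 → ∃ k : Fin 31, wordN (orbWords.getD k []) 1 = n.val := by
  decide +kernel

theorem vec5_inj {a b : Fin 32} (h : vec5 a = vec5 b) : a = b := by
  have := congrArg code5 h
  rw [code_vec5, code_vec5] at this
  exact Fin.ext this

theorem ncard_nonzero : {v : Fin 5 → ZMod 2 | v ≠ 0}.ncard = 31 := by
  have h : {v : Fin 5 → ZMod 2 | v ≠ 0} = ({0} : Set (Fin 5 → ZMod 2))ᶜ := rfl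
  rw [h, Set.ncard_compl, Set.ncard_singleton, Nat.card_eq_fintype_card]
  simp

theorem orbit_ge : 31 ≤ (MulAction.orbit SL5 e0).ncard := by
  have hinj : Function.Injective (fun n : Fin 31 => vec5 (n.val + 1)) := by
    intro a b h
    have := vec5_inj (a := ⟨a.val + 1, by omega⟩) (b := ⟨b.val + 1, by omega⟩) h
    exact Fin.ext (by simpa using congrArg Fin.val this)
  have hr : (Set.range fun n : Fin 31 => vec5 (n.val + 1)).ncard = 31 := by
    rw [Set.ncard_range_of_injective hinj, Nat.card_fin]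
  rw [← hr]
  refine Set.ncard_le_ncard ?_ (Set.toFinite _)
  rintro _ ⟨n, rfl⟩
  obtain ⟨k, hk⟩ := orb_cover ⟨n.val + 1, by omega⟩ (by simp)
  refine ⟨ev modelsL (orbWords.getD k []), ?_⟩
  show ev modelsL (orbWords.getD k []) • e0 = vec5 (n.val + 1)
  rw [e0_eq, (word_ok _ 1 (by norm_num)).2, hk]

theorem fix_e0 (q : SL5) (hq : q ∈ modelsV) : q • e0 = e0 := by
  obtain ⟨l, hl, rfl⟩ := List.getElem_of_mem hq
  have hl' : l < 7 := hl
  have hfix : ∀ k : Fin 7, actN k 1 = 1 := by decide +kernel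
  have h2 : fl modelsV l • vec5 1 = vec5 (actN l 1) := by
    rw [fl_modelsV l hl']
    exact (step_ok ⟨l, by omega⟩ ⟨1, by norm_num⟩).2
  rw [fl, List.getD_eq_getElem _ _ hl] at h2
  rw [e0_eq]
  exact h2.trans (congrArg vec5 (hfix ⟨l, hl'⟩))

theorem closure_modelsV : Subgroup.closure {x | x ∈ modelsV} = MulAction.stabilizer SL5 e0 := by
  have hle : Subgroup.closure {x | x ∈ modelsV} ≤ MulAction.stabilizer SL5 e0 := by
    rw [Subgroup.closure_le]
    exact fun q hq => fix_e0 q hq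
  refine Subgroup.eq_of_le_of_card_ge hle ?_
  have hgb : genBy modelsL [0, 1, 2, 3, 4, 5, 6] = Subgroup.closure {x | x ∈ modelsV} := rfl
  have h8 : genBy modelsL [0, 1, 2, 3, 4, 5, 6, 7] = ⊤ := by
    have := genBy_range closure_modelsL
    exact this
  have h1 := (rels_modelsL.top_le (m := Nat.card (Subgroup.closure {x | x ∈ modelsV}))
    ⟨hgb ▸ inferInstance, hgb ▸ le_rfl⟩).2
  rw [h8, Subgroup.card_top] at h1
  have horb := orbit_ge
  have h2 := MulAction.index_stabilizer SL5 e0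
  have h3 := (MulAction.stabilizer SL5 e0).card_mul_index
  have h4 : Nat.card (MulAction.stabilizer SL5 e0) * 31 ≤ Nat.card SL5 :=
    h3 ▸ Nat.mul_le_mul_left _ (h2.symm ▸ horb)
  omega

theorem finite_numV : Finite (NumGr 7 relsV) ∧ Nat.card (NumGr 7 relsV) ≤ 322560 :=
  (RelsV.mk length_numGens ev_numGens).card_le closure_numGens

theorem card_stab : 322560 ≤ Nat.card (MulAction.stabilizer SL5 e0) := by
  have h3 := (MulAction.stabilizer SL5 e0).card_mul_index
  have h2 := MulAction.index_stabilizer SL5 e0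
  have h5 : (MulAction.orbit SL5 e0).ncard ≤ 31 := by
    refine le_trans (Set.ncard_le_ncard (t := {v : Fin 5 → ZMod 2 | v ≠ 0}) ?_ (Set.toFinite _)) ncard_nonzero.le
    rintro v ⟨g, rfl⟩ h0
    have := congrArg (g⁻¹ • ·) h0
    simp only [inv_smul_smul, smul_zero] at this
    exact absurd (congrFun this 0) (by decide)
  have h6 : Nat.card SL5 ≤ Nat.card (MulAction.stabilizer SL5 e0) * 31 :=
    h3 ▸ Nat.mul_le_mul_left _ (h2.symm ▸ h5)
  rw [card_SL5] at h6
  omega

/-- The relators of the first seven present the stabiliser of a vector. -/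
theorem num_equivV : Nonempty (NumGr 7 relsV ≃* MulAction.stabilizer SL5 e0) := by
  have := finite_numV.1
  refine ⟨(numEquiv rels_modelsV.len rels_modelsV.rel ?_).trans (MulEquiv.subgroupCongr closure_modelsV)⟩
  rw [closure_modelsV]
  exact finite_numV.2.trans card_stab

end CfsgLib.Trichotomy.L5
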