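import Cfsg.Agent.Trichotomy.SimpleRows
import Cfsg.Agent.Trichotomy.Bridge
import Cfsg.Agent.Trichotomy.L5Iso
import Cfsg.Agent.Coset.He.Order
import Cfsg.Agent.Golay.M24
import Cfsg.Prelude.Def_Sporadic

/-!
The trichotomy for simple groups and the determination by the order, from the tetrachotomy.
-/

set_option autoImplicit false

namespace CfsgLib.Trichotomy

/-- The four possibilities. -/
def Tetra (G : Type*) [Group G] : Prop :=
  (∃ v : Fin 5 → ZMod 2, v ≠ 0 ∧
      Nonempty (G ≃* MulAction.stabilizer (Matrix.SpecialLinearGroup (Fin 5) (ZMod 2)) v)) ∨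
    Nonempty (G ≃* Matrix.SpecialLinearGroup (Fin 5) (ZMod 2)) ∨ Nonempty (G ≃* Cfsg.M24) ∨
    Cfsg.Spor.IsoHe G

variable {G : Type*} [Group G] [Finite G] [IsSimpleGroup G]

omit [Finite G] in
theorem three_of_tetra (h : Tetra G) :
    Nonempty (G ≃* Matrix.SpecialLinearGroup (Fin 5) (ZMod 2)) ∨ Nonempty (G ≃* Cfsg.M24) ∨
      Cfsg.Spor.IsoHe G := by
  rcases h with ⟨v, hv, ⟨f⟩⟩ | h
  · haveI : Nontrivial (MulAction.stabilizer (Matrix.SpecialLinearGroup (Fin 5) (ZMod 2)) v) :=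
      f.symm.toEquiv.nontrivial
    exact (stabilizer_not_simple hv
      (IsSimpleGroup.isSimpleGroup_of_surjective f.toMonoidHom f.surjective)).elim
  · exact h

omit [Finite G] in
theorem held_trichotomy_of (h : Tetra G) :
    Nonempty (G ≃* Matrix.SpecialLinearGroup (Fin 5) (ZMod 2)) ∨ Cfsg.IsM24 G ∨ Cfsg.IsHe G := by
  rcases three_of_tetra h with h | ⟨⟨f⟩⟩ | ⟨⟨f⟩⟩
  · exact Or.inl h
  · exact Or.inr (Or.inl ⟨inferInstance,
      (Nat.card_congr f.toEquiv).trans CfsgLib.Golay.card_M24⟩)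
  · exact Or.inr (Or.inr ⟨inferInstance,
      (Nat.card_congr f.toEquiv).trans Coset.He.card_and_injective.1⟩)

omit [Finite G] in
theorem iso_of_card_eq {H : Type*} [Group H] [IsSimpleGroup H] (hG : Tetra G) (hH : Tetra H)
    (hc : Nat.card G = Nat.card H) : Nonempty (G ≃* H) := by
  have h1 : Nat.card (Matrix.SpecialLinearGroup (Fin 5) (ZMod 2)) = 9999360 := L5.card_SL5
  have h2 : Nat.card ↥Cfsg.M24 = 244823040 := CfsgLib.Golay.card_M24
  have h3 : Nat.card Cfsg.Spor.He = 4030387200 := Coset.He.card_and_injective.1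
  rcases three_of_tetra hG with ⟨⟨f⟩⟩ | ⟨⟨f⟩⟩ | ⟨⟨f⟩⟩ <;> rcases three_of_tetra hH with ⟨⟨g⟩⟩ | ⟨⟨g⟩⟩ | ⟨⟨g⟩⟩ <;>
    first
    | exact ⟨f.trans g.symm⟩
    | (exfalso; have a := Nat.card_congr f.toEquiv; have b := Nat.card_congr g.toEquiv; rw [hc, b] at a; simp only [h1, h2, h3] at a; omega)

/-- The hypothesis of a further conjugate in the 2-core holds in a simple group. -/
theorem core_conj_of_simple (s : Matrix.SpecialLinearGroup (Fin 5) (ZMod 2))
    (hs : (s : Matrix (Fin 5) (Fin 5) (ZMod 2)) = Matrix.transvection 0 1 1) (z : G) (hz : orderOf z = 2)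
    (e : Subgroup.centralizer ({z} : Set G) ≃*
      Subgroup.centralizer ({s} : Set (Matrix.SpecialLinearGroup (Fin 5) (ZMod 2)))) :
    ∃ g : G, (∃ hq : g * z * g⁻¹ ∈ Subgroup.centralizer ({z} : Set G),
      (⟨g * z * g⁻¹, hq⟩ : Subgroup.centralizer ({z} : Set G)) ∈
        Cfsg.pCore 2 (Subgroup.centralizer ({z} : Set G))) ∧ g * z * g⁻¹ ≠ z := by
  obtain ⟨F⟩ := exists_frame s hs z hz e
  exact exists_conj_core_of_simple F

section rows

variable (s : Matrix.SpecialLinearGroup (Fin 5) (ZMod 2))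
  (hs : (s : Matrix (Fin 5) (Fin 5) (ZMod 2)) = Matrix.transvection 0 1 1)

include hs

omit [IsSimpleGroup G] in
/-- The tetrachotomy from the result for frames. -/
theorem tetra_of (z : G) (hz : orderOf z = 2)
    (e : Subgroup.centralizer ({z} : Set G) ≃*
      Subgroup.centralizer ({s} : Set (Matrix.SpecialLinearGroup (Fin 5) (ZMod 2))))
    (hnwc : ∃ g : G, (∃ hq : g * z * g⁻¹ ∈ Subgroup.centralizer ({z} : Set G),
      (⟨g * z * g⁻¹, hq⟩ : Subgroup.centralizer ({z} : Set G)) ∈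
        Cfsg.pCore 2 (Subgroup.centralizer ({z} : Set G))) ∧ g * z * g⁻¹ ≠ z)
    (main : ∀ F : HeldUniq.Frame z, ¬ IsPat F patNone → Tetra G) : Tetra G := by
  obtain ⟨F⟩ := exists_frame s hs z hz e
  obtain ⟨g, ⟨hq, -⟩, hne⟩ := hnwc
  exact main F (not_patNone_of_conj F hq hne)

/-- The tetrachotomy in a simple group. -/
theorem tetra_of_simple (z : G) (hz : orderOf z = 2)
    (e : Subgroup.centralizer ({z} : Set G) ≃*
      Subgroup.centralizer ({s} : Set (Matrix.SpecialLinearGroup (Fin 5) (ZMod 2))))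
    (main : ∀ F : HeldUniq.Frame z, ¬ IsPat F patNone → Tetra G) : Tetra G := by
  obtain ⟨F⟩ := exists_frame s hs z hz e
  exact main F (not_patNone_of_simple F)

end rows

end CfsgLib.Trichotomy
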