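import Cfsg.Agent.Trichotomy.Assembly
import Cfsg.Agent.Trichotomy.L5Pat
import Cfsg.Agent.Trichotomy.BranchLin
import Cfsg.Agent.Trichotomy.RowsAssembly

/-!
# The tetrachotomy for a frame
-/

set_option autoImplicit false

namespace CfsgLib.Trichotomy

/-- A finite group with this involution centraliser and a further fused class is one of the four
groups. -/
theorem main {G : Type*} [Group G] [Finite G] {t : G} (F : HeldUniq.Frame t)
    (h : ¬ IsPat F patNone) : Tetra G :=
  main_of_lin F (fun hp => by
    obtain ⟨g, h, -, S⟩ := L5.exists_stepL_of_pat hp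
    exact lin_of_step hp S) h

end CfsgLib.Trichotomy
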