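import Cfsg.Agent.HeldUniq.FusionKinds
import Mathlib.GroupTheory.Nilpotent

/-!
# Fusion control with no order hypothesis

In any finite group with this involution centraliser the Sylow 2-subgroup of the centraliser is a
Sylow 2-subgroup of the group, so the two elementary subgroups of order 64 control fusion in
themselves.
-/

set_option autoImplicit false
set_option linter.unusedSectionVars false
set_option maxRecDepth 10000

namespace CfsgLib.HeldUniq

open scoped Pointwise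

namespace Frame

variable {G : Type*} [Group G] {t : G} (F : Frame t) [Finite G]

theorem exists_sylow_eq : ∃ P : Sylow 2 G, (P : Subgroup G) = F.syl := by
  haveI : Fact (Nat.Prime 2) := ⟨Nat.prime_two⟩
  obtain ⟨P, hP⟩ := (IsPGroup.of_card (n := 10) (p := 2) (G := F.syl) (by rw [F.card_syl]; rfl)).exists_le_sylow
  refine ⟨P, le_antisymm ?_ hP⟩
  by_contra hle
  haveI : Group.IsNilpotent (P : Subgroup G) := P.isPGroup'.isNilpotent
  have hlt : F.syl.subgroupOf (P : Subgroup G) < ⊤ := lt_top_iff_ne_top.2 fun e =>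
    hle (Subgroup.subgroupOf_eq_top.1 e)
  obtain ⟨⟨n, hnP⟩, hnN, hnS⟩ :=
    SetLike.exists_of_lt (Group.normalizerCondition_of_isNilpotent _ hlt)
  refine hnS (F.normalizer_syl (conj_mem_iff_of_le fun s hs => ?_))
  exact (Subgroup.mem_normalizer_iff.1 hnN ⟨s, hP hs⟩).1
    (show (⟨s, hP hs⟩ : (P : Subgroup G)) ∈ F.syl.subgroupOf (P : Subgroup G) from hs)

/-- The Sylow 2-subgroup of the centraliser, as a Sylow subgroup of the group. -/
noncomputable def sylowGen : Sylow 2 G := F.exists_sylow_eq.choose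

theorem coe_sylowGen : (F.sylowGen : Subgroup G) = F.syl := F.exists_sylow_eq.choose_spec

theorem gen_exists_conj_le {P : Subgroup G} (hP : IsPGroup 2 P) :
    ∃ h : G, ∀ p ∈ P, h * p * h⁻¹ ∈ F.syl := by
  haveI : Fact (Nat.Prime 2) := ⟨Nat.prime_two⟩
  obtain ⟨Q, hQ⟩ := hP.exists_le_sylow
  obtain ⟨h, e⟩ := MulAction.exists_smul_eq G Q F.sylowGen
  refine ⟨h, fun p hp => ?_⟩
  rw [← F.coe_sylowGen, ← e, Sylow.coe_subgroup_smul]
  exact Subgroup.smul_mem_pointwise_smul p (MulAut.conj h) _ (hQ hp)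

theorem gen_exists_conj_in {N : Subgroup G} (hS : F.syl ≤ N) {P : Subgroup G} (hP : P ≤ N)
    (hcard : Nat.card P = 1024) : ∃ m ∈ N, ∀ p ∈ P, m * p * m⁻¹ ∈ F.syl := by
  haveI : Fact (Nat.Prime 2) := ⟨Nat.prime_two⟩
  have hdvd : ¬ 2 ∣ P.index := by
    have h1 := P.card_mul_index
    have h2 := F.syl.card_mul_index
    rw [hcard] at h1
    rw [F.card_syl] at h2
    have h3 : P.index = F.syl.index := by omega
    rw [h3]
    have h4 := F.sylowGen.not_dvd_index
    rwa [F.coe_sylowGen] at h4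
  set Q : Sylow 2 G := (IsPGroup.of_card (n := 10) (p := 2) (by rw [hcard]; rfl)).toSylow hdvd
  have hQ : (Q : Subgroup G) ≤ N := hP
  obtain ⟨m, e⟩ := MulAction.exists_smul_eq N (Q.subtype hQ)
    (F.sylowGen.subtype (show (F.sylowGen : Subgroup G) ≤ N from F.coe_sylowGen.symm ▸ hS))
  rw [Sylow.smul_subtype hQ m] at e
  have e' := Sylow.subtype_injective e
  refine ⟨m, m.2, fun p hp => ?_⟩
  rw [← F.coe_sylowGen, ← e']
  exact Subgroup.smul_mem_pointwise_smul p (MulAut.conj (m : G)) _ hp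

theorem gen_not_conj (h : G) : ¬ ∀ x ∈ F.w0, h * x * h⁻¹ ∈ F.w3 := by
  intro hm
  have hsurj := map_conj_eq (F.w3_data.card.trans F.w0_data.card.symm) hm
  have hS0 := F.syl_le_normalizer F.w0_data u_sub0
  have hS3 := F.syl_le_normalizer F.w3_data u_sub3
  have hconj : F.syl.map (MulAut.conj h).toMonoidHom ≤ Subgroup.normalizer (F.w3 : Set G) := by
    rintro _ ⟨s, hs, rfl⟩
    refine conj_mem_iff_of_le fun y hy => ?_
    obtain ⟨x, hx, rfl⟩ := hsurj y hy
    show h * s * h⁻¹ * (h * x * h⁻¹) * (h * s * h⁻¹)⁻¹ ∈ F.w3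
    rw [show h * s * h⁻¹ * (h * x * h⁻¹) * (h * s * h⁻¹)⁻¹ = h * (s * x * s⁻¹) * h⁻¹ by group]
    exact hm _ ((Subgroup.mem_normalizer_iff.1 (hS0 hs) x).1 hx)
  obtain ⟨m, hmN, hmS⟩ := F.gen_exists_conj_in hS3 hconj
    ((Subgroup.card_map_of_injective (MulEquiv.injective _)).trans F.card_syl)
  have hk : m * h ∈ F.syl := by
    refine F.normalizer_syl (conj_mem_iff_of_le fun s hs => ?_)
    rw [show m * h * s * (m * h)⁻¹ = m * (h * s * h⁻¹) * m⁻¹ by group]
    exact hmS _ ⟨s, hs, rfl⟩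
  have h1 := Subgroup.mem_normalizer_iff.1 (hS0 hk)
  have h2 := Subgroup.mem_normalizer_iff.1 hmN
  obtain ⟨a, ha, hane⟩ := List.any_eq_true.1 Mdl.w_ne
  have ham := F.w0_data.mem_code ha
  have hx := (h1 (F.ev a)).1 ((F.w0_data.ev_mem ham).2 ha)
  obtain ⟨x, hx0, ex⟩ : ∃ x ∈ F.w0, m * h * x * (m * h)⁻¹ = F.ev a := by
    refine ⟨(m * h)⁻¹ * F.ev a * (m * h), ?_, by group⟩
    rw [h1]
    rw [show m * h * ((m * h)⁻¹ * F.ev a * (m * h)) * (m * h)⁻¹ = F.ev a by group]
    exact (F.w0_data.ev_mem ham).2 ha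
  have h3 : F.ev a ∈ F.w3 := by
    rw [← ex, show m * h * x * (m * h)⁻¹ = m * (h * x * h⁻¹) * m⁻¹ by group]
    exact (h2 _).1 (hm x hx0)
  rw [F.w3_data.ev_mem ham] at h3
  simp only [Bool.not_eq_true', List.contains_eq_mem, decide_eq_false_iff_not] at hane
  exact hane h3

theorem gen_weakly {H : Subgroup G} (hH : H = F.w0 ∨ H = F.w3) {h : G}
    (hh : ∀ x ∈ H, h * x * h⁻¹ ∈ F.syl) : h ∈ Subgroup.normalizer (H : Set G) := by
  have hle : H.map (MulAut.conj h).toMonoidHom ≤ F.syl := by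
    rintro _ ⟨x, hx, rfl⟩
    exact hh x hx
  have hsq : ∀ a ∈ H.map (MulAut.conj h).toMonoidHom, a * a = 1 := by
    rintro _ ⟨x, hx, rfl⟩
    have e : x * x = 1 := by
      rcases hH with rfl | rfl
      exacts [F.w0_data.sq x hx, F.w3_data.sq x hx]
    rw [← _root_.map_mul, e, _root_.map_one]
  have hcard : Nat.card (H.map (MulAut.conj h).toMonoidHom) = 64 := by
    rw [Subgroup.card_map_of_injective (MulEquiv.injective _)]
    rcases hH with rfl | rfl
    exacts [F.w0_data.card, F.w3_data.card]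
  have hin : ∀ x ∈ H, h * x * h⁻¹ ∈ H.map (MulAut.conj h).toMonoidHom := fun x hx => ⟨x, hx, rfl⟩
  rcases hH with rfl | rfl <;> rcases F.elem_eq hle hsq hcard with e | e <;> rw [e] at hin
  · exact conj_mem_iff_of_le hin
  · exact absurd hin (F.gen_not_conj h)
  · refine absurd (fun y hy => ?_) (F.gen_not_conj h⁻¹)
    obtain ⟨x, hx, rfl⟩ := map_conj_eq (F.w0_data.card.trans F.w3_data.card.symm) hin y hy
    rw [show h⁻¹ * (h * x * h⁻¹) * h⁻¹⁻¹ = x by group]
    exact hx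
  · exact conj_mem_iff_of_le hin

/-- The normaliser of an elementary subgroup of order 64 controls fusion in it. -/
theorem gen_control {H : Subgroup G} (hH : H = F.w0 ∨ H = F.w3) {u u' g : G} (hu : u ∈ H) (hu' : u' ∈ H)
    (hg : g * u * g⁻¹ = u') : ∃ n ∈ Subgroup.normalizer (H : Set G), n * u * n⁻¹ = u' := by
  haveI : Fact (Nat.Prime 2) := ⟨Nat.prime_two⟩
  have hsq : ∀ a ∈ H, a * a = 1 := by
    rcases hH with rfl | rfl
    exacts [F.w0_data.sq, F.w3_data.sq]
  set N := Subgroup.centralizer ({u'} : Set G) with hN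
  have h1 : H ≤ N := fun x hx => Subgroup.mem_centralizer_singleton_iff.2 (comm_of_sq hsq hx hu')
  have h2 : H.map (MulAut.conj g).toMonoidHom ≤ N := by
    rintro _ ⟨x, hx, rfl⟩
    refine Subgroup.mem_centralizer_singleton_iff.2 ?_
    rw [← hg]
    show g * x * g⁻¹ * (g * u * g⁻¹) = g * u * g⁻¹ * (g * x * g⁻¹)
    calc g * x * g⁻¹ * (g * u * g⁻¹) = g * (x * u) * g⁻¹ := by group
      _ = g * (u * x) * g⁻¹ := by rw [comm_of_sq hsq hx hu]
      _ = _ := by group
  have hp : IsPGroup 2 H := by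
    refine IsPGroup.of_card (n := 6) ?_
    rcases hH with rfl | rfl
    exacts [F.w0_data.card, F.w3_data.card]
  obtain ⟨T1, hT1⟩ := (hp.of_equiv (Subgroup.subgroupOfEquivOfLe h1).symm).exists_le_sylow
  obtain ⟨T2, hT2⟩ := ((hp.map (MulAut.conj g).toMonoidHom).of_equiv
    (Subgroup.subgroupOfEquivOfLe h2).symm).exists_le_sylow
  obtain ⟨c, hc⟩ := MulAction.exists_smul_eq N T2 T1
  obtain ⟨h, hh⟩ := F.gen_exists_conj_le (T1.isPGroup'.map N.subtype)
  have hA : h ∈ Subgroup.normalizer (H : Set G) :=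
    F.gen_weakly hH fun x hx => hh x ⟨⟨x, h1 hx⟩, hT1 (show (⟨x, h1 hx⟩ : N) ∈ H.subgroupOf N from hx), rfl⟩
  have hB : h * ((c : G) * g) ∈ Subgroup.normalizer (H : Set G) := by
    refine F.gen_weakly hH fun x hx => ?_
    have hx2 : g * x * g⁻¹ ∈ N := h2 ⟨x, hx, rfl⟩
    have hm : c * (⟨g * x * g⁻¹, hx2⟩ : N) * c⁻¹ ∈ (T1 : Subgroup N) := by
      rw [← hc, Sylow.coe_subgroup_smul]
      exact Subgroup.smul_mem_pointwise_smul (⟨g * x * g⁻¹, hx2⟩ : N) (MulAut.conj c) _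
        (hT2 (show (⟨g * x * g⁻¹, hx2⟩ : N) ∈ (H.map _).subgroupOf N from ⟨x, hx, rfl⟩))
    rw [show h * ((c : G) * g) * x * (h * ((c : G) * g))⁻¹ =
      h * ((c : G) * (g * x * g⁻¹) * (c : G)⁻¹) * h⁻¹ by group]
    exact hh _ ⟨_, hm, rfl⟩
  refine ⟨(c : G) * g, ?_, ?_⟩
  · have := mul_mem (inv_mem hA) hB
    rwa [inv_mul_cancel_left] at this
  · have hcu := Subgroup.mem_centralizer_singleton_iff.1 c.2
    calc (c : G) * g * u * ((c : G) * g)⁻¹ = (c : G) * (g * u * g⁻¹) * (c : G)⁻¹ := by group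
      _ = u' := by rw [hg, hcu, mul_inv_cancel_right]

theorem gen_swap {y : G} (hy : y ∈ F.w0) (hc : IsConj t y) :
    ∃ z ∈ [17926336, 17926276, 17926280, 17926284, 18188928, 18188940, 18188944],
      Mdl.mem z = true ∧ rootNum y t = rootNum t (F.ev z) ∧ rootNum t y = rootNum (F.ev z) t := by
  obtain ⟨g, hg⟩ := isConj_iff.1 hc
  obtain ⟨n, hn, he⟩ := F.gen_control (Or.inl rfl) F.w0_data.t_mem hy hg
  have h1 : n⁻¹ * t * n ∈ F.w0 := (Subgroup.mem_normalizer_iff''.1 hn t).1 F.w0_data.t_mem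
  have hne : n⁻¹ * t * n ≠ 1 := fun e => F.t_ne_one (by
    calc t = n * (n⁻¹ * t * n) * n⁻¹ := by group
      _ = 1 := by rw [e]; group)
  obtain ⟨a, ha, ea⟩ := (F.w0_data.mem_iff _).1 h1
  obtain ⟨-, hcov, -, -⟩ := Mdl.orb_facts Mdl.orb0_ok
  rcases hcov a ha with rfl | hmem
  · exact absurd (ea.symm.trans F.ev_one) hne
  obtain ⟨o, ho, hao⟩ := List.mem_flatMap.1 hmem
  obtain ⟨p, hp, rfl⟩ := List.mem_map.1 hao
  obtain ⟨c, hc, hce⟩ := F.isConj_member F.w0_data Mdl.orb0_ok ho hp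
  have hz : (o.headD (0, 0)).1 ∈ [17926336, 17926276, 17926280, 17926284, 18188928, 18188940, 18188944] := by
    have h := List.mem_map_of_mem (f := fun o => ((o.headD (0, 0)).1, o.length)) ho
    rw [Mdl.reps0] at h
    have h' := List.mem_map_of_mem (f := Prod.fst) h
    simpa using h'
  have hzm : Mdl.mem (o.headD (0, 0)).1 = true := by
    have : ([17926336, 17926276, 17926280, 17926284, 18188928, 18188940, 18188944].all Mdl.mem) = true := by
      decide +kernel
    exact List.all_eq_true.1 this _ hz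
  have hct : c * t * c⁻¹ = t := by rw [hc, mul_inv_cancel_right]
  have e1 : n⁻¹ * y * n = t := by rw [← he]; group
  refine ⟨_, hz, hzm, ?_, ?_⟩
  · have h3 := rootNum_conj c t (F.ev (o.headD (0, 0)).1)
    rw [hct, hce] at h3
    rw [← rootNum_conj n⁻¹ y t, inv_inv, e1, ← ea, h3]
  · have h3 := rootNum_conj c (F.ev (o.headD (0, 0)).1) t
    rw [hct, hce] at h3
    rw [← rootNum_conj n⁻¹ t y, inv_inv, e1, ← ea, h3]

theorem gen_not_conj_m : ¬ IsConj t (F.ev 17926284) := by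
  intro h
  have hm : Mdl.mem 17926284 = true := by decide +kernel
  obtain ⟨z, hz, hzm, e1, e2⟩ := F.gen_swap ((F.w0_data.ev_mem hm).2 (by decide)) h
  rw [F.rootNum_ev hm, Mdl.rootsM.1, F.rootNum_t hzm] at e1
  rw [F.rootNum_t hm, Mdl.rootsM.2, F.rootNum_ev hzm] at e2
  have ht := Mdl.commT
  simp only [List.all_eq_true, Bool.not_eq_true'] at ht
  have no : ∀ y ∈ [17926336, 17926276, 17926280, 17926284, 18188944], z = y → False := fun y hy hzy => by
    subst hzy
    have := ht z hy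
    rw [Mdl.beq_of_eq e1.symm] at this
    exact Bool.noConfusion this
  simp only [List.mem_cons, List.not_mem_nil, or_false] at hz
  rcases hz with rfl | rfl | rfl | rfl | rfl | rfl | rfl
  · exact no _ (by simp) rfl
  · exact no _ (by simp) rfl
  · exact no _ (by simp) rfl
  · exact no _ (by simp) rfl
  · rw [Mdl.rootsA] at e2; omega
  · rw [Mdl.rootsZ] at e2; omega
  · exact no _ (by simp) rfl

theorem gen_not_conj_z : ¬ IsConj t (F.ev 18188940) := by
  intro h
  have hm : Mdl.mem 18188940 = true := by decide +kernel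
  obtain ⟨z, hz, hzm, e1, -⟩ := F.gen_swap ((F.w0_data.ev_mem hm).2 (by decide)) h
  rw [F.rootNum_ev hm, Mdl.rootsZ, F.rootNum_t hzm, eq_comm, List.length_eq_zero_iff,
    List.filter_eq_nil_iff] at e1
  obtain ⟨r, hr, hc⟩ := List.any_eq_true.1 (List.all_eq_true.1 Mdl.witness_chk z hz)
  exact e1 r hr hc

end Frame

end CfsgLib.HeldUniq
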