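import Cfsg.Prelude.Def_Solvable
import Cfsg.Agent.Trichotomy.PatternMirror
import Cfsg.Agent.ZStar.Final
import Mathlib.LinearAlgebra.Matrix.SpecialLinearGroup
import Mathlib.LinearAlgebra.Matrix.SchurComplement
import Mathlib.GroupTheory.Subgroup.Simple

/-!
In a simple group with such a frame some conjugate of `t` other than `t` lies in the 2-core of the
centraliser, and the stabiliser of a nonzero vector in `SL(5, 2)` is not simple.
-/

set_option autoImplicit false
set_option linter.style.haveILetI false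
set_option maxRecDepth 100000

namespace CfsgLib.Trichotomy

open CfsgLib.HeldUniq
open Matrix

theorem core_pairs_ok : Mdl.subOk [(Mdl.mone, Mdl.mone)] = true := by decide +kernel

theorem mmul_mone_chk : (Mdl.slPairs.all fun x =>
    Nat.beq (Mdl.mmul x.1 Mdl.mone) x.1 && Nat.beq (Mdl.mmul Mdl.mone x.2) x.2) = true := by
  decide +kernel

theorem axis_reps_chk : ([1, 2] : List Nat).all (fun k => Nat.beq (Mdl.gOf (repOf k)) Mdl.mone &&
    Nat.beq (Mdl.hOf (repOf k)) Mdl.mone && !Nat.beq (repOf k) Mdl.tN) = true := by decide +kernel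

theorem rep_zero : repOf 0 = Mdl.tN := by decide +kernel

theorem kind_zero_chk : ((invTab.map Prod.fst).all fun a =>
    !isT patNone a || Nat.beq a Mdl.tN) = true := by decide +kernel

theorem noncomm_chk : Mdl.mem (repOf 4) = true ∧ Mdl.mem (repOf 5) = true ∧ Mdl.mem (repOf 3) = true ∧
    Mdl.mulN (repOf 3) (repOf 5) ≠ Mdl.mulN (repOf 5) (repOf 3) := by decide +kernel

section

variable {G : Type*} [Group G] [Finite G] {t : G} (F : Frame t)

/-- The elements with trivial matrix part are in the 2-core of the centraliser. -/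
theorem mem_pCore_of_matrix {x : Subgroup.centralizer ({t} : Set G)}
    (hx : ∃ a, (Mdl.gOf a, Mdl.hOf a) ∈ [(Mdl.mone, Mdl.mone)] ∧ F.ev a = x.1) :
    x ∈ Cfsg.pCore 2 (Subgroup.centralizer ({t} : Set G)) := by
  set C := Subgroup.centralizer ({t} : Set G)
  set Q := (F.over [(Mdl.mone, Mdl.mone)] core_pairs_ok).subgroupOf C with hQ
  have hn : Q.Normal := by
    refine ⟨fun q hq n => ?_⟩
    obtain ⟨a, ha, hae⟩ := hq
    obtain ⟨b, hb, hbe⟩ := (F.mem_iff n.1).1 n.2
    obtain ⟨c, hc, hce⟩ := (F.mem_iff ((n⁻¹ : C) : G)).1 (n⁻¹).2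
    have hc1 : Mdl.mulN b c = Mdl.one := by
      refine (F.eq_one_iff (Mdl.mem_mulN hb hc)).1 ?_
      rw [F.map_mul _ _ hb hc, hbe, hce, Subgroup.coe_inv, mul_inv_cancel]
    have ham : Mdl.mem a = true := Frame.mem_of_pair core_pairs_ok ha
    refine ⟨Mdl.mulN (Mdl.mulN b a) c, ?_, ?_⟩
    · rw [List.mem_singleton, Prod.mk.injEq] at ha ⊢
      have hg := congrArg Mdl.gOf hc1
      have hh := congrArg Mdl.hOf hc1
      rw [(Mdl.mulN_fields b c).2.2.1, show Mdl.gOf Mdl.one = Mdl.mone from rfl] at hg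
      rw [(Mdl.mulN_fields b c).2.2.2, show Mdl.hOf Mdl.one = Mdl.mone from rfl] at hh
      have hk := List.all_eq_true.1 mmul_mone_chk _ ((Mdl.mem_iff_pair b).1 hb)
      simp only [Bool.and_eq_true, Nat.beq_eq] at hk
      rw [(Mdl.mulN_fields _ c).2.2.1, (Mdl.mulN_fields _ c).2.2.2, (Mdl.mulN_fields b a).2.2.1,
        (Mdl.mulN_fields b a).2.2.2, ha.1, ha.2, hk.1, hk.2]
      exact ⟨hg, hh⟩
    · rw [F.map_mul _ _ (Mdl.mem_mulN hb ham) hc, F.map_mul _ _ hb ham, hbe, hae, hce]
      rfl
  have hp : IsPGroup 2 Q := by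
    refine IsPGroup.of_card (n := 7) ?_
    rw [hQ, Nat.card_congr (Subgroup.subgroupOfEquivOfLe (F.over_le_cent _ core_pairs_ok)).toEquiv,
      F.card_over]
    rfl
  exact (le_sSup (show Q ∈ {N : Subgroup C | N.Normal ∧ IsPGroup 2 N} from ⟨hn, hp⟩)) hx

/-- With only `t` in its class, every commuting conjugate of `t` is `t`. -/
theorem eq_t_of_patNone (hb : IsPat F patNone) (g : G) (hg : Commute t (g * t * g⁻¹)) :
    g * t * g⁻¹ = t := by
  obtain ⟨a, ha, hae⟩ := F.exists_code hg.eq.symm
  have hT := (isT_iff F hb ha).2 (hae ▸ isConj_iff.2 ⟨g, rfl⟩)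
  have h2 : a ≠ Mdl.one ∧ Mdl.mulN a a = Mdl.one := by
    simp only [isT, Bool.and_eq_true, Bool.not_eq_true', Nat.beq_eq] at hT
    exact ⟨fun e => by simp [e] at hT, hT.1.2⟩
  have h1 := List.all_eq_true.1 invTab_complete a (sq_code_mem ha h2.2)
  rw [Bool.or_eq_true, List.contains_iff_mem, Nat.beq_eq] at h1
  have h3 := List.all_eq_true.1 kind_zero_chk a (h1.resolve_left h2.1)
  rw [hT] at h3
  simp only [Bool.not_true, Bool.false_or, Nat.beq_eq] at h3
  rw [← hae, h3, F.ev_t]

include F in
/-- A conjugate of `t` other than `t` in the centraliser excludes the pattern of an isolated `t`. -/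
theorem not_patNone_of_conj {g : G} (hq : g * t * g⁻¹ ∈ Subgroup.centralizer ({t} : Set G))
    (hne : g * t * g⁻¹ ≠ t) : ¬ IsPat F patNone := fun hb =>
  hne (eq_t_of_patNone F hb g (Subgroup.mem_centralizer_singleton_iff.1 hq).symm)

/-- In a simple group `t` is not isolated. -/
theorem not_patNone_of_simple [IsSimpleGroup G] : ¬ IsPat F patNone := by
  intro hb
  have hiso : Cfsg.IsIsolatedInvolution t := ⟨F.orderOf_t, eq_t_of_patNone F hb⟩
  obtain ⟨N, hN, hodd, hcomm⟩ := CfsgLib.ZStar.zstar hiso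
  rcases IsSimpleGroup.eq_bot_or_eq_top_of_normal N hN with rfl | rfl
  · have hc : t ∈ Subgroup.center G := Subgroup.mem_center_iff.2 fun g => by
      have := hcomm g
      rw [Subgroup.mem_bot, mul_inv_eq_one, mul_inv_eq_iff_eq_mul] at this
      exact this.symm
    rcases IsSimpleGroup.eq_bot_or_eq_top_of_normal (Subgroup.center G) inferInstance with hz | hz
    · rw [hz, Subgroup.mem_bot] at hc
      exact F.t_ne_one hc
    · obtain ⟨-, h5, h3, hne⟩ := noncomm_chk
      refine hne ((F.comm_iff h3 h5).1 ?_)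
      exact (Subgroup.mem_center_iff.1 (hz ▸ Subgroup.mem_top (F.ev (repOf 5))) _)
  · rw [Subgroup.card_top] at hodd
    exact (Nat.not_even_iff_odd.2 hodd) (even_iff_two_dvd.2 (F.orderOf_t ▸ orderOf_dvd_natCard t))

include F in
/-- In a simple group some other conjugate of `t` lies in the 2-core of its centraliser. -/
theorem exists_conj_core_of_simple [IsSimpleGroup G] :
    ∃ g : G, (∃ hq : g * t * g⁻¹ ∈ Subgroup.centralizer ({t} : Set G),
      (⟨g * t * g⁻¹, hq⟩ : Subgroup.centralizer ({t} : Set G)) ∈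
        Cfsg.pCore 2 (Subgroup.centralizer ({t} : Set G))) ∧ g * t * g⁻¹ ≠ t := by
  obtain ⟨d0, d3, hp⟩ := patOf_cases F
  have key : ∀ b : List Bool, IsPat F b → ∀ k ∈ ([1, 2] : List Nat), b.getD k false = true →
      ∃ g : G, (∃ hq : g * t * g⁻¹ ∈ Subgroup.centralizer ({t} : Set G),
        (⟨g * t * g⁻¹, hq⟩ : Subgroup.centralizer ({t} : Set G)) ∈
          Cfsg.pCore 2 (Subgroup.centralizer ({t} : Set G))) ∧ g * t * g⁻¹ ≠ t := by
    intro b hb k hk hbk
    have h8 : k < 8 := by simp only [List.mem_cons, List.not_mem_nil, or_false] at hk; omega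
    have hc := List.all_eq_true.1 axis_reps_chk k hk
    simp only [Bool.and_eq_true, Nat.beq_eq, Bool.not_eq_true'] at hc
    obtain ⟨g, hg⟩ := isConj_iff.1 ((hb k h8).2 hbk)
    refine ⟨g, ⟨(F.mem_iff _).2 ⟨repOf k, repOf_mem k, hg.symm⟩, ?_⟩, ?_⟩
    · exact mem_pCore_of_matrix F ⟨repOf k, List.mem_singleton.2 (Prod.ext hc.1.1 hc.1.2), hg.symm⟩
    · rw [hg]
      intro e
      have := (F.eq_t_iff (repOf_mem k)).1 e
      rw [this] at hc
      simp at hc
  rcases hp with hb | hb | hb | hb
  · exact absurd hb (not_patNone_of_simple F)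
  · exact key _ hb 1 (by simp) rfl
  · exact key _ hb 2 (by simp) rfl
  · exact key _ hb 1 (by simp) rfl

end

/-! ### The stabiliser of a vector -/

local notation "SLf" => Matrix.SpecialLinearGroup (Fin 5) (ZMod 2)

theorem add_self_vec : ∀ x : Fin 5 → ZMod 2, x + x = 0 := by decide +kernel

theorem witness_chk : ∀ v : Fin 5 → ZMod 2, v ≠ 0 →
    (∃ f : Fin 5 → ZMod 2, f ≠ 0 ∧ dotProduct f v = 0) ∧
    ∃ f u : Fin 5 → ZMod 2, f ≠ 0 ∧ dotProduct f v = 0 ∧ dotProduct f u = 0 ∧ u ≠ 0 ∧ u ≠ v := by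
  decide +kernel

/-- The transvection with centre `u` and axis given by `f`. -/
def transv (u f : Fin 5 → ZMod 2) (h : dotProduct f u = 0) : SLf :=
  ⟨1 + Matrix.vecMulVec u f, by
    rw [Matrix.vecMulVec_eq Unit, Matrix.det_one_add_replicateCol_mul_replicateRow, h, add_zero]⟩

theorem transv_smul (u f : Fin 5 → ZMod 2) (h : dotProduct f u = 0) (w : Fin 5 → ZMod 2) :
    transv u f h • w = w + dotProduct f w • u := by
  rw [Matrix.SpecialLinearGroup.smul_def, Matrix.smul_eq_mulVec]
  show (1 + Matrix.vecMulVec u f) *ᵥ w = _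
  rw [Matrix.add_mulVec, Matrix.one_mulVec, Matrix.vecMulVec_mulVec]
  simp

theorem exists_dot_one : ∀ f : Fin 5 → ZMod 2, f ≠ 0 → ∃ w : Fin 5 → ZMod 2, dotProduct f w = 1 := by
  decide +kernel

/-- The stabiliser of a nonzero vector is not simple. -/
theorem stabilizer_not_simple {v : Fin 5 → ZMod 2} (hv : v ≠ 0) :
    ¬ IsSimpleGroup (MulAction.stabilizer SLf v) := by
  intro hs
  let H := MulAction.stabilizer SLf v
  have fix : ∀ g : H, g • v = v := fun g => g.2
  have hadd : ∀ (g : H) (x y : Fin 5 → ZMod 2), g • (x + y) = g • x + g • y := by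
    intro g x y
    show (g : SLf) • (x + y) = (g : SLf) • x + (g : SLf) • y
    simp only [Matrix.SpecialLinearGroup.smul_def, Matrix.smul_eq_mulVec, Matrix.mulVec_add]
  let N : Subgroup H :=
    { carrier := {g | ∀ w, g • w = w ∨ g • w = w + v}
      one_mem' := fun w => Or.inl (one_smul _ w)
      mul_mem' := fun {a b} ha hb w => by
        rw [mul_smul]
        rcases hb w with e | e <;> rw [e]
        · exact ha w
        · rw [hadd, fix]
          rcases ha w with e' | e' <;> rw [e']
          · exact Or.inr rfl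
          · left; rw [add_assoc, add_self_vec, add_zero]
      inv_mem' := fun {a} ha w => by
        rcases ha (a⁻¹ • w) with e | e <;> rw [smul_inv_smul] at e
        · exact Or.inl e.symm
        · right
          conv_rhs => rw [e]
          rw [add_assoc, add_self_vec, add_zero] }
  have hN : N.Normal := ⟨fun n hn g w => by
    rw [mul_smul, mul_smul]
    rcases hn (g⁻¹ • w) with e | e <;> rw [e]
    · exact Or.inl (smul_inv_smul g w)
    · exact Or.inr (by rw [hadd, smul_inv_smul, fix])⟩
  obtain ⟨⟨f, hf, hfv⟩, f', u, hf', hfv', hfu', hu, huv⟩ := witness_chk v hv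
  rcases IsSimpleGroup.eq_bot_or_eq_top_of_normal N hN with h | h
  · have hm : transv v f hfv ∈ H := by
      rw [MulAction.mem_stabilizer_iff, transv_smul, hfv, zero_smul, add_zero]
    have hin : (⟨_, hm⟩ : H) ∈ N := fun w => by
      show transv v f hfv • w = w ∨ transv v f hfv • w = w + v
      rw [transv_smul]
      rcases (show ∀ x : ZMod 2, x = 0 ∨ x = 1 by decide) (dotProduct f w) with e | e <;> rw [e]
      · exact Or.inl (by rw [zero_smul, add_zero])
      · exact Or.inr (by rw [one_smul])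
    rw [h, Subgroup.mem_bot] at hin
    obtain ⟨w, hw⟩ := exists_dot_one f hf
    have e := congrArg (fun g : H => g • w) hin
    change transv v f hfv • w = (1 : H) • w at e
    rw [one_smul, transv_smul, hw, one_smul] at e
    exact hv (by simpa using e)
  · have hm : transv u f' hfu' ∈ H := by
      rw [MulAction.mem_stabilizer_iff, transv_smul, hfv', zero_smul, add_zero]
    obtain ⟨w, hw⟩ := exists_dot_one f' hf'
    have hin : (⟨_, hm⟩ : H) ∈ N := h ▸ Subgroup.mem_top _
    have e := hin w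
    change transv u f' hfu' • w = w ∨ transv u f' hfu' • w = w + v at e
    rw [transv_smul, hw, one_smul] at e
    rcases e with e | e
    · exact hu (by simpa using e)
    · exact huv (add_left_cancel e)

end CfsgLib.Trichotomy
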