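import Cfsg.Agent.Trichotomy.M24Iso
import Cfsg.Agent.HeldAmal.Step

/-! The relators of the Mathieu group from a frame and one involution outside the centralizer. -/

set_option autoImplicit false
set_option maxRecDepth 100000

namespace CfsgLib.Trichotomy.M24

open CfsgLib.Coset
open CfsgLib.HeldUniq
open CfsgLib.HeldAmal (codes actFrom actTo chk stepGens ev_low fl_top ev_rot ev_prodN prod_eq prod_eq_one)

/-- The hypotheses on the involution outside the centralizer in the case of the Mathieu group. -/
structure Step {G : Type*} [Group G] {t : G} (F : Frame t) (g : G) : Prop where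
  sq : g * g = 1
  act : ∀ i < 3, g * F.ev (actFrom.getD i Mdl.one) * g = F.ev (actTo.getD i Mdl.one)
  cube : g * F.ev 20027623 * g * F.ev 20290207 * g * F.ev 18057705 = 1
  five : (F.ev 17466651 * g) ^ 5 * F.ev 20290264 = 1

variable {G : Type*} [Group G] {t : G} (F : Frame t)

namespace Step

variable {F} {g : G}

theorem conj_word (S : Step F g) : ∀ ws : List Nat, (∀ i ∈ ws, i < 3) →
    g * ((ws.map fun i => actFrom.getD i Mdl.one).map F.ev).prod * g =
      ((ws.map fun i => actTo.getD i Mdl.one).map F.ev).prod
  | [], _ => by simpa using S.sq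
  | i :: ws, h => by
    simp only [List.map_cons, List.prod_cons]
    rw [← S.act i (h i List.mem_cons_self), ← conj_word S ws fun x hx => h x (List.mem_cons_of_mem _ hx)]
    calc g * (F.ev (actFrom.getD i Mdl.one) * _) * g
        = g * F.ev (actFrom.getD i Mdl.one) * (1 : G) * ((ws.map fun i => actFrom.getD i Mdl.one).map F.ev).prod * g := by
          simp only [mul_one, mul_assoc]
      _ = _ := by rw [← S.sq]; simp only [mul_assoc]

theorem two (S : Step F g) (s₀ s₁ ws : List Nat) (h₀ : ∀ l ∈ s₀, l < 6) (h₁ : ∀ l ∈ s₁, l < 6)
    (hw : ∀ i ∈ ws, i < 3) (hc₀ : chk (s₀.map fun l => codes.getD l 0) = true)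
    (hcw : chk (ws.map fun i => actFrom.getD i Mdl.one) = true)
    (he : Mdl.prodN (s₀.map fun l => codes.getD l 0) = Mdl.prodN (ws.map fun i => actFrom.getD i Mdl.one))
    (hc₁ : chk ((ws.map fun i => actTo.getD i Mdl.one) ++ s₁.map fun l => codes.getD l 0) = true)
    (h1 : Mdl.prodN ((ws.map fun i => actTo.getD i Mdl.one) ++ s₁.map fun l => codes.getD l 0) = Mdl.one) :
    ev (stepGens F g) (6 :: s₀ ++ 6 :: s₁) = 1 := by
  rw [ev_append, ev_cons, ev_cons, fl_top, ev_low F g s₀ h₀, ev_low F g s₁ h₁, prod_eq F hc₀ hcw he,
    ← mul_assoc, S.conj_word ws hw, ← List.prod_append, ← List.map_append]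
  exact prod_eq_one F hc₁ h1

theorem low {r : List Nat} (hr : ∀ l ∈ r, l < 6) (hc : chk (r.map fun l => codes.getD l 0) = true)
    (h1 : Mdl.prodN (r.map fun l => codes.getD l 0) = Mdl.one) : ev (stepGens F g) r = 1 := by
  rw [ev_low F g r hr]
  exact prod_eq_one F hc h1

/-- The relators hold. -/
theorem rels_stepGens (S : Step F g) : Rels (stepGens F g) where
  len := rfl
  rel := by
    intro w hw
    simp only [rels, List.mem_cons, List.not_mem_nil, or_false] at hw
    rcases hw with rfl | rfl | rfl | rfl | rfl | rfl | rfl | rfl | rfl | rfl | rfl | rfl | rfl | rfl | rfl | rfl | rfl | rfl | rfl | rfl | rfl | rfl | rfl | rfl | rfl | rfl | rfl | rfl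
    · exact low (by decide) (by decide +kernel) (by decide +kernel)
    · exact low (by decide) (by decide +kernel) (by decide +kernel)
    · exact low (by decide) (by decide +kernel) (by decide +kernel)
    · exact low (by decide) (by decide +kernel) (by decide +kernel)
    · exact low (by decide) (by decide +kernel) (by decide +kernel)
    · exact low (by decide) (by decide +kernel) (by decide +kernel)
    · simpa [fl_top] using S.sq
    · refine ev_rot _ 4 _ ?_
      exact S.two [1, 0, 3, 2] [3, 0, 1, 0] [0, 2, 1, 0, 1, 2, 0, 2, 1] (by decide) (by decide) (by decide) (by decide +kernel) (by decide +kernel)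
        (by decide +kernel) (by decide +kernel) (by decide +kernel)
    · exact low (by decide) (by decide +kernel) (by decide +kernel)
    · exact low (by decide) (by decide +kernel) (by decide +kernel)
    · exact low (by decide) (by decide +kernel) (by decide +kernel)
    · exact low (by decide) (by decide +kernel) (by decide +kernel)
    · exact low (by decide) (by decide +kernel) (by decide +kernel)
    · refine ev_rot _ 2 _ ?_
      show ev (stepGens F g) (([6] ++ [3, 0]) ++ (([6] ++ [2, 3, 2]) ++ ([6] ++ [0, 2, 1]))) = 1
      simp only [ev_append, show ev (stepGens F g) [6] = g from mul_one g]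
      rw [ev_low F g [3, 0] (by decide), ev_low F g [2, 3, 2] (by decide), ev_low F g [0, 2, 1] (by decide),
        ← (ev_prodN F (List.map (fun l => codes.getD l 0) [3, 0]) (by decide +kernel)).2,
        ← (ev_prodN F (List.map (fun l => codes.getD l 0) [2, 3, 2]) (by decide +kernel)).2,
        ← (ev_prodN F (List.map (fun l => codes.getD l 0) [0, 2, 1]) (by decide +kernel)).2]
      rw [show Mdl.prodN (List.map (fun l => codes.getD l 0) [3, 0]) = 20027623 by decide +kernel,
        show Mdl.prodN (List.map (fun l => codes.getD l 0) [2, 3, 2]) = 20290207 by decide +kernel,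
        show Mdl.prodN (List.map (fun l => codes.getD l 0) [0, 2, 1]) = 18057705 by decide +kernel]
      simpa [mul_assoc] using S.cube
    · exact low (by decide) (by decide +kernel) (by decide +kernel)
    · exact low (by decide) (by decide +kernel) (by decide +kernel)
    · refine ev_rot _ 4 _ ?_
      exact S.two [3, 1] [1, 0, 2, 0, 2, 0, 3, 2] [2, 0, 1, 0, 2, 0, 0, 2] (by decide) (by decide) (by decide) (by decide +kernel) (by decide +kernel)
        (by decide +kernel) (by decide +kernel) (by decide +kernel)
    · exact low (by decide) (by decide +kernel) (by decide +kernel)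
    · exact low (by decide) (by decide +kernel) (by decide +kernel)
    · exact low (by decide) (by decide +kernel) (by decide +kernel)
    · exact low (by decide) (by decide +kernel) (by decide +kernel)
    · exact low (by decide) (by decide +kernel) (by decide +kernel)
    · refine ev_rot _ 2 _ ?_
      exact S.two [0, 1, 2, 3] [0, 1, 2, 0, 3, 0] [0, 0, 1, 2, 1, 0, 0, 1] (by decide) (by decide) (by decide) (by decide +kernel) (by decide +kernel)
        (by decide +kernel) (by decide +kernel) (by decide +kernel)
    · exact low (by decide) (by decide +kernel) (by decide +kernel)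
    · refine ev_rot _ 4 _ ?_
      exact S.two [5, 1] [5, 3, 0, 3, 5, 2, 1, 5] [0, 0, 2, 1, 2, 0, 0, 2] (by decide) (by decide) (by decide) (by decide +kernel) (by decide +kernel)
        (by decide +kernel) (by decide +kernel) (by decide +kernel)
    · exact low (by decide) (by decide +kernel) (by decide +kernel)
    · exact low (by decide) (by decide +kernel) (by decide +kernel)
    · have h := S.five
      show ev (stepGens F g) ([4, 6, 4, 6, 4, 6, 4, 6, 4, 6] ++ [3, 1, 3, 2, 3, 2, 0]) = 1
      rw [ev_append, show ev (stepGens F g) [3, 1, 3, 2, 3, 2, 0] = F.ev 20290264 by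
        rw [ev_low F g [3, 1, 3, 2, 3, 2, 0] (by decide), ← (ev_prodN F (List.map (fun l => codes.getD l 0) [3, 1, 3, 2, 3, 2, 0]) (by decide +kernel)).2]
        exact congrArg F.ev (by decide +kernel)]
      simp only [pow_succ, pow_zero, one_mul, mul_assoc] at h
      simpa [fl_top, mul_assoc, stepGens, codes, fl] using h

/-- The centralizer and the involution generate a copy of the Mathieu group. -/
theorem iso_closure (S : Step F g) (hg : g ≠ 1) :
    Nonempty ((Subgroup.closure {x | x ∈ stepGens F g} : Subgroup G) ≃* ↥Cfsg.M24) :=
  S.rels_stepGens.iso_closure ⟨g, by simp [stepGens], hg⟩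

/-- A frame, such an involution and the order force the Mathieu group. -/
theorem iso_m24 [Finite G] (S : Step F g) (hg : g ≠ 1) (hcard : Nat.card G = 244823040) :
    Nonempty (G ≃* ↥Cfsg.M24) :=
  S.rels_stepGens.iso_m24_of_card ⟨g, by simp [stepGens], hg⟩ hcard

end Step

end CfsgLib.Trichotomy.M24
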