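import Cfsg.Agent.HeldAmal.Cube
import Cfsg.Agent.Trichotomy.M24Step

/-! An action of He type gives the relators of the Held group or of the Mathieu group of degree 24,
and in each case the fusion of one further class of involutions of the centralizer. -/

set_option autoImplicit false
set_option maxRecDepth 100000

namespace CfsgLib.Trichotomy

open CfsgLib.Coset
open CfsgLib.HeldUniq
open CfsgLib.HeldAmal (codes stepGens chk ev_low ev_prodN fiveCodes)

variable {G : Type*} [Group G] {t : G} {F : Frame t} {g : G}

theorem five_inv_chk : Mdl.mem 20290264 = true ∧ Mdl.mulN 20290264 20290264 = Mdl.one := by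
  decide +kernel

/-- An action of He type has the fifth power of the Held group or that of the Mathieu group. -/
theorem step_or_step [Finite G] (A : HeldAmal.Act F g) : HeldAmal.Step F g ∨ M24.Step F g := by
  obtain ⟨c, hc, -, hf⟩ := A.exists_five
  simp only [fiveCodes, List.mem_cons, List.not_mem_nil, or_false] at hc
  rcases hc with rfl | rfl | rfl | rfl
  · refine Or.inl ⟨A, ?_⟩
    rw [hf]; exact (F.eq_one_iff (by decide +kernel)).2 (by decide)
  · exact (A.false_of_collapse HeldAmal.KillA.hR HeldAmal.KillA.hdefs HeldAmal.KillA.hsteps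
      HeldAmal.KillA.htable (A.rel_of_five hf (ext := [0, 3, 2, 0, 2, 3]) (by decide) (by decide +kernel)
        (by decide +kernel) (by decide +kernel) (by decide +kernel)) (by decide +kernel)).elim
  · exact (A.false_of_collapse HeldAmal.KillB.hR HeldAmal.KillB.hdefs HeldAmal.KillB.hsteps
      HeldAmal.KillB.htable (A.rel_of_five hf (ext := [0, 3, 1, 3, 2, 3, 2]) (by decide) (by decide +kernel)
        (by decide +kernel) (by decide +kernel) (by decide +kernel)) (by decide +kernel)).elim
  · refine Or.inr ⟨A.sq, A.act, A.cube, ?_⟩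
    rw [hf, ← F.map_mul _ _ five_inv_chk.1 five_inv_chk.1, five_inv_chk.2, F.ev_one]

/-- A word that is trivial in the Held group is trivial wherever the relators hold. -/
theorem ev_eq_one_he {L : List G} (h : HeldAmal.Rels L) {W : List Nat}
    (hW : HeldAmal.fixesBase [HeldAmal.subst HeldAmal.heWords W] = true) : ev L W = 1 := by
  haveI := HeldAmal.finite_num.1
  haveI := Coset.He.card_le.1
  have hb : Function.Bijective (numHom (rels := HeldAmal.rels) HeldAmal.rels_heGens.len
      HeldAmal.rels_heGens.rel) := by
    refine Function.Surjective.bijective_of_nat_card_le ?_ ?_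
    · rw [← MonoidHom.range_eq_top, range_numHom, HeldAmal.closure_heGens]
    · rw [Coset.He.card_and_injective.1]; exact HeldAmal.finite_num.2
  have h1 : ev (numGens 7 HeldAmal.rels) W = 1 := hb.1 (by
    rw [numHom_ev, map_one]
    show ev (HeldAmal.heWords.map (ev Coset.He.Lg)) W = 1
    rw [HeldAmal.ev_subst]
    exact HeldAmal.ev_eq_one_of_fixes hW _ List.mem_cons_self)
  have := congrArg (numHom (rels := HeldAmal.rels) h.len h.rel) h1
  rwa [numHom_ev, map_one] at this

/-- A word that is trivial on the twenty-four points is trivial wherever the relators hold. -/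
theorem ev_eq_one_m24 {L : List G} (h : M24.Rels L) {W : List Nat}
    (hW : ev M24.models W = 1) : ev L W = 1 := by
  haveI := M24.finite_num.1
  have hi : Function.Injective (numHom (rels := M24.rels) M24.rels_models.len M24.rels_models.rel) := by
    have hr := range_numHom (rels := M24.rels) M24.rels_models.len M24.rels_models.rel
    have hb := (numHom (rels := M24.rels) M24.rels_models.len M24.rels_models.rel).rangeRestrict_surjective.bijective_of_nat_card_le
      (by rw [hr, M24.closure_models, Coset.J4.card_M24m]; exact M24.finite_num.2)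
    exact fun a b e => hb.1 (Subtype.ext e)
  have h1 : ev (numGens 7 M24.rels) W = 1 := hi (by rw [numHom_ev, map_one, hW])
  have := congrArg (numHom (rels := M24.rels) h.len h.rel) h1
  rwa [numHom_ev, map_one] at this

theorem ev_mem_gens (w : List Nat) :
    ev (stepGens F g) w ∈ Subgroup.closure {x | x ∈ stepGens F g} := by
  induction w with
  | nil => exact one_mem _
  | cons a w ih => rw [ev_cons]; exact mul_mem (mem_closure_fl a) ih

theorem ev_reverse {L : List G} (hsq : ∀ x, fl L x * fl L x = 1) (w : List Nat) :
    ev L w.reverse = (ev L w)⁻¹ := by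
  induction w with
  | nil => simp
  | cons a w ih =>
    rw [List.reverse_cons, ev_append, ih, ev_cons, ev_cons, ev_nil, mul_one, mul_inv_rev,
      inv_eq_of_mul_eq_one_right (hsq a)]

theorem conj_of_word {w wa wr : List Nat} {a r : Nat}
    (hsq : ∀ x, fl (stepGens F g) x * fl (stepGens F g) x = 1)
    (h : ev (stepGens F g) (w ++ wa ++ w.reverse ++ wr.reverse) = 1)
    (ha : ∀ l ∈ wa, l < 6) (hca : chk (wa.map fun l => codes.getD l 0) = true)
    (hea : Mdl.prodN (wa.map fun l => codes.getD l 0) = a)
    (hr : ∀ l ∈ wr, l < 6) (hcr : chk (wr.map fun l => codes.getD l 0) = true)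
    (her : Mdl.prodN (wr.map fun l => codes.getD l 0) = r) :
    ∃ v ∈ Subgroup.closure {x | x ∈ stepGens F g}, v * F.ev a * v⁻¹ = F.ev r := by
  refine ⟨ev (stepGens F g) w, ev_mem_gens w, ?_⟩
  have ea : ev (stepGens F g) wa = F.ev a := by
    rw [ev_low F g wa ha, ← (ev_prodN F _ hca).2, hea]
  have er : ev (stepGens F g) wr = F.ev r := by
    rw [ev_low F g wr hr, ← (ev_prodN F _ hcr).2, her]
  rw [ev_append, ev_append, ev_append, ev_reverse hsq, ev_reverse hsq, ea, er] at h
  exact mul_inv_eq_one.mp h

/-- In the Held case the involution `(2, 0, 0, 84)` is conjugate to `t` inside the generated subgroup. -/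
theorem conj_d3_he (S : HeldAmal.Step F g) :
    ∃ w ∈ Subgroup.closure {x | x ∈ stepGens F g}, w * F.ev (Mdl.mk 2 0 0 84 84) * w⁻¹ = t := by
  have hr := S.rels_stepGens
  obtain ⟨v, hv, e⟩ := conj_of_word (F := F) (g := g)
    (w := [6, 4, 6, 4, 5, 6, 4, 5, 6, 3, 4, 6, 4, 6, 5, 0]) (wa := [1, 4, 1, 5, 1, 4, 1])
    (wr := [0, 1, 0, 1]) (a := Mdl.mk 2 0 0 84 84) (r := Mdl.tN) hr.sq
    (ev_eq_one_he hr (by decide +kernel))
    (by decide) (by decide +kernel) (by decide +kernel) (by decide) (by decide +kernel) (by decide +kernel)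
  exact ⟨v, hv, by rw [e, F.ev_t]⟩

/-- In the case of the Mathieu group it is conjugate to the involution `codes[0]` of the class `m`. -/
theorem conj_d3_m24 (S : M24.Step F g) :
    ∃ w ∈ Subgroup.closure {x | x ∈ stepGens F g},
      w * F.ev (Mdl.mk 2 0 0 84 84) * w⁻¹ = F.ev 17926390 := by
  have hr := S.rels_stepGens
  exact conj_of_word (F := F) (g := g) (w := [4, 5, 6, 4, 0, 6, 4, 6, 5]) (wa := [1, 4, 1, 5, 1, 4, 1])
    (wr := [0]) (a := Mdl.mk 2 0 0 84 84) (r := 17926390) hr.sq
    (ev_eq_one_m24 hr (by decide +kernel))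
    (by decide) (by decide +kernel) (by decide +kernel) (by decide) (by decide +kernel) (by decide +kernel)

end CfsgLib.Trichotomy
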