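import Cfsg.Agent.Trichotomy.BranchFuse
import Cfsg.Agent.Trichotomy.ActSplit
import Cfsg.Agent.HeldType.HeSub

/-!
# The branch with the action found in the Held group: the Held group or the Mathieu group
-/

set_option autoImplicit false
set_option linter.unusedSectionVars false
set_option maxRecDepth 100000
set_option Elab.async false

namespace CfsgLib.Trichotomy

open CfsgLib.Coset
open CfsgLib.HeldUniq
open CfsgLib.HeldAmal (stepGens)

variable {G : Type*} [Group G] {t : G} {F : Frame t} {g : G}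

/-- Seven elements satisfying the relators, not all trivial, generate a copy of the Held group. -/
theorem he_iso_closure {L : List G} (h : HeldAmal.Rels L) (hne : ∃ x ∈ L, x ≠ 1) :
    Nonempty ((Subgroup.closure {x | x ∈ L} : Subgroup G) ≃* Cfsg.Spor.He) := by
  obtain ⟨e⟩ := HeldAmal.num_equiv_he
  haveI := Coset.He.isSimple
  haveI : Nontrivial (NumGr 7 HeldAmal.rels) := e.toEquiv.nontrivial
  haveI : IsSimpleGroup (NumGr 7 HeldAmal.rels) :=
    IsSimpleGroup.isSimpleGroup_of_surjective e.symm.toMonoidHom e.symm.surjective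
  have hr := range_numHom (rels := HeldAmal.rels) h.len h.rel
  have hi : Function.Injective (numHom (rels := HeldAmal.rels) h.len h.rel) := by
    rw [← MonoidHom.ker_eq_bot_iff]
    refine (IsSimpleGroup.eq_bot_or_eq_top_of_normal _ inferInstance).resolve_right fun ht => ?_
    obtain ⟨x, hx, hx1⟩ := hne
    have hx2 : x ∈ (numHom (rels := HeldAmal.rels) h.len h.rel).range := hr.symm ▸ Subgroup.subset_closure hx
    obtain ⟨p, rfl⟩ := hx2
    exact hx1 (MonoidHom.mem_ker.mp (ht ▸ Subgroup.mem_top p))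
  exact ⟨(((MonoidHom.ofInjective hi).trans (MulEquiv.subgroupCongr hr)).symm).trans e⟩

/-- The subgroup generated by the centraliser and the involution. -/
def genSub (F : Frame t) (g : G) : Subgroup G := Subgroup.closure {x | x ∈ stepGens F g}

theorem cent_le_genSub : Subgroup.centralizer ({t} : Set G) ≤ genSub F g :=
  cent_le_of_codes F fun a ha => Subgroup.subset_closure
    (List.mem_append_left _ (List.mem_map.2 ⟨a, ha, rfl⟩))

theorem mem_genSub : g ∈ genSub F g :=
  Subgroup.subset_closure (List.mem_append_right _ (List.mem_singleton.2 rfl))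

variable [Finite G]

theorem fused_he (sq : g * g = 1)
    (act : ∀ i < 3, g * F.ev (HeldAmal.actFrom.getD i Mdl.one) * g = F.ev (HeldAmal.actTo.getD i Mdl.one)) :
    Fused F (genSub F g) 0 1 ∧ Fused F (genSub F g) 0 2 ∧ Fused F (genSub F g) 0 4 ∧
      Fused F (genSub F g) 0 6 ∧ Fused F (genSub F g) 3 5 := by
  have e := fun (w : List Nat) (k k' : Nat) (h : edgeOk HeldAmal.actTo w k k' = true) =>
    fused_of_edge (F := F) (H := genSub F g) cent_le_genSub mem_genSub sq act h
  have f2 := e [0, 0, 2, 1, 2, 1, 0, 1, 2, 1, 2] 0 2 (by decide +kernel)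
  have f6 := f2.trans (e [1, 0, 2, 1, 0, 2] 2 6 (by decide +kernel))
  have f4 := f6.trans (e [0, 1, 0, 2, 1] 6 4 (by decide +kernel))
  exact ⟨f4.trans (e [0, 2, 1, 1, 0, 2, 1, 1] 4 1 (by decide +kernel)), f2, f4, f6,
    e [1, 2, 0, 1, 0, 2, 1] 3 5 (by decide +kernel)⟩

theorem rep_seven : repOf 7 = Mdl.mk 2 0 0 84 84 := by decide +kernel

/-- The Held group case. -/
theorem he_of_step {d3 : Bool} (hb : IsPat F (patBoth true d3)) (S : HeldAmal.Step F g) :
    d3 = true ∧ Cfsg.Spor.IsoHe G := by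
  have hd : d3 = true := by
    obtain ⟨w, -, hw⟩ := conj_d3_he S
    have e := congrArg (fun z => w⁻¹ * z * w) hw
    have h := (hb 7 (by decide)).1 (isConj_iff.2 ⟨w⁻¹, by
      rw [rep_seven, inv_inv]; exact e.symm.trans (by group)⟩)
    simpa [patBoth] using h
  refine ⟨hd, ?_⟩
  obtain ⟨e⟩ := he_iso_closure S.rels_stepGens ⟨g, List.mem_append_right _ (List.mem_singleton.2 rfl),
    S.toAct.ne_one⟩
  have hH : Subgroup.closure {x | x ∈ stepGens F g} = ⊤ :=
    HeldEnd.HeF.eq_top_of_he_subgroup e.symm F.orderOf_t (cent_le_genSub (F := F) (g := g)) F.card_cent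
  exact ⟨((MulEquiv.subgroupCongr hH).trans Subgroup.topEquiv).symm.trans e⟩

/-- The Mathieu group case. -/
theorem m24_of_step {d3 : Bool} (hb : IsPat F (patBoth true d3)) (S : M24.Step F g) :
    d3 = false ∧ Nonempty (G ≃* Cfsg.M24) := by
  have hg : g ≠ 1 := (⟨S.sq, S.act, S.cube⟩ : HeldAmal.Act F g).ne_one
  obtain ⟨w, hwH, hw⟩ := conj_d3_m24 S
  have hk : (kind 17926390 = 3) ∧ Mdl.mem 17926390 = true ∧
      Mdl.mulN 17926390 17926390 = Mdl.one ∧ 17926390 ≠ Mdl.one := by decide +kernel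
  obtain ⟨-, n, hn, en⟩ := exists_conj_rep F hk.2.1 hk.2.2.1 hk.2.2.2
  rw [hk.1] at en
  have f7 : Fused F (genSub F g) 3 7 := by
    refine ⟨w⁻¹ * F.ev n, mul_mem (inv_mem hwH)
      (cent_le_genSub (Subgroup.mem_centralizer_singleton_iff.2 (F.mem_cent hn))), ?_⟩
    calc w⁻¹ * F.ev n * F.ev (repOf 3) * (w⁻¹ * F.ev n)⁻¹
        = w⁻¹ * (F.ev n * F.ev (repOf 3) * (F.ev n)⁻¹) * w := by group
      _ = F.ev (repOf 7) := by rw [en, ← hw, rep_seven]; group
  have hd : d3 = false := by
    obtain ⟨x, -, hx⟩ := f7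
    have h3 : ¬ IsConj t (F.ev (repOf 3)) := fun h => by
      have := (hb 3 (by decide)).1 h
      simp [patBoth] at this
    cases d3 with
    | false => rfl
    | true => exact absurd (((hb 7 (by decide)).2 rfl).trans (isConj_iff.2 ⟨x, hx⟩).symm) h3
  refine ⟨hd, ?_⟩
  subst hd
  obtain ⟨f1, f2, f4, f6, f5⟩ := fused_he (F := F) S.sq S.act
  have P : FusesIn F (patBoth true false) (genSub F g) :=
    fusesIn_of_fused cent_le_genSub hb fun k hk => by
      rcases (show k = 0 ∨ k = 1 ∨ k = 2 ∨ k = 3 ∨ k = 4 ∨ k = 5 ∨ k = 6 ∨ k = 7 by omega) with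
        rfl | rfl | rfl | rfl | rfl | rfl | rfl | rfl
      exacts [Fused.refl 0, f1, f2, Fused.refl 3, f4, f5, f6, f7]
  have hH := P.eq_top (r := 5515778) (fuel := 4) (by decide +kernel) (by decide +kernel) (by decide)
    (by decide +kernel) closed_patM24
  obtain ⟨e⟩ := S.iso_closure hg
  exact ⟨((MulEquiv.subgroupCongr (show Subgroup.closure {x | x ∈ stepGens F g} = ⊤ from hH)).trans
    Subgroup.topEquiv).symm.trans e⟩

/-- With the fourth class fused the group is the Held group or the Mathieu group. -/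
theorem he_or_m24 {t : G} (F : Frame t) {d3 : Bool} (hb : IsPat F (patBoth true d3)) :
    (d3 = true ∧ Cfsg.Spor.IsoHe G) ∨ (d3 = false ∧ Nonempty (G ≃* Cfsg.M24)) := by
  obtain ⟨g, -, A⟩ := exists_act_he hb
  rcases step_or_step A with S | S
  · exact Or.inl (he_of_step hb S)
  · exact Or.inr (m24_of_step hb S)

end CfsgLib.Trichotomy
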