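import Mathlib
import Cfsg.Agent.Solvable.Gaschutz

/-!
A group with a self-centralising elementary abelian normal subgroup of order `16`, complemented in a subgroup of
index `15`, of order `322560`: the stabiliser of a nonzero vector in `SL(5, 2)`.
-/

set_option autoImplicit false
set_option linter.style.haveILetI false

namespace CfsgLib.Trichotomy

open Matrix Subgroup

namespace VecIso

/-- The matrix fixing `e₀` with given row and lower block. -/
def block (r : Fin 4 → ZMod 2) (M : Matrix (Fin 4) (Fin 4) (ZMod 2)) : Matrix (Fin 5) (Fin 5) (ZMod 2) :=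
  Matrix.of fun i j =>
    Fin.cases (Fin.cases 1 r j) (fun i' => Fin.cases 0 (fun j' => M i' j') j) i

theorem block_zero_zero (r : Fin 4 → ZMod 2) (M : Matrix (Fin 4) (Fin 4) (ZMod 2)) : block r M 0 0 = 1 := rfl

theorem block_zero_succ (r : Fin 4 → ZMod 2) (M : Matrix (Fin 4) (Fin 4) (ZMod 2)) (j : Fin 4) :
    block r M 0 j.succ = r j := rfl

theorem block_succ_zero (r : Fin 4 → ZMod 2) (M : Matrix (Fin 4) (Fin 4) (ZMod 2)) (i : Fin 4) :
    block r M i.succ 0 = 0 := rfl

theorem block_succ_succ (r : Fin 4 → ZMod 2) (M : Matrix (Fin 4) (Fin 4) (ZMod 2)) (i j : Fin 4) :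
    block r M i.succ j.succ = M i j := rfl

theorem block_mul (r r' : Fin 4 → ZMod 2) (M M' : Matrix (Fin 4) (Fin 4) (ZMod 2)) :
    block r M * block r' M' = block (r ᵥ* M' + r') (M * M') := by
  ext i j
  rw [Matrix.mul_apply, Fin.sum_univ_succ]
  induction i using Fin.cases with
  | zero =>
    induction j using Fin.cases with
    | zero => simp [block_zero_zero, block_zero_succ, block_succ_zero]
    | succ j =>
      simp only [block_zero_zero, block_zero_succ, block_succ_succ, one_mul, Pi.add_apply,
        Matrix.vecMul, dotProduct]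
      exact add_comm _ _
  | succ i =>
    induction j using Fin.cases with
    | zero => simp [block_succ_zero, block_succ_succ]
    | succ j => simp [block_succ_zero, block_succ_succ, Matrix.mul_apply]

theorem block_one : block 0 1 = 1 := by
  ext i j
  induction i using Fin.cases with
  | zero =>
    induction j using Fin.cases with
    | zero => rfl
    | succ j => rw [block_zero_succ, Pi.zero_apply, Matrix.one_apply_ne (Fin.succ_ne_zero j).symm]
  | succ i =>
    induction j using Fin.cases with
    | zero => rw [block_succ_zero, Matrix.one_apply_ne (Fin.succ_ne_zero i)]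
    | succ j =>
      rw [block_succ_succ, Matrix.one_apply, Matrix.one_apply]
      simp [Fin.succ_inj]

/-- The first basis vector. -/
def e0 : Fin 5 → ZMod 2 := Pi.single 0 1

theorem e0_ne : e0 ≠ 0 := fun h => by
  have := congrFun h 0
  simp [e0] at this

theorem block_mulVec (r : Fin 4 → ZMod 2) (M : Matrix (Fin 4) (Fin 4) (ZMod 2)) :
    block r M *ᵥ e0 = e0 := by
  ext i
  rw [e0, Matrix.mulVec_single_one]
  induction i using Fin.cases with
  | zero => simp [block_zero_zero]
  | succ i => simp [block_succ_zero, Fin.succ_ne_zero]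

theorem eq_block_of_fix {N : Matrix (Fin 5) (Fin 5) (ZMod 2)} (h : N *ᵥ e0 = e0) :
    N = block (fun j => N 0 j.succ) (Matrix.of fun i j => N i.succ j.succ) := by
  have hc : ∀ i, N i 0 = e0 i := fun i => by
    have h1 := congrFun h i
    rwa [e0, Matrix.mulVec_single_one] at h1
  ext i j
  induction i using Fin.cases with
  | zero =>
    induction j using Fin.cases with
    | zero => rw [hc, block_zero_zero]; simp [e0]
    | succ j => rw [block_zero_succ]
  | succ i =>
    induction j using Fin.cases with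
    | zero => rw [hc, block_succ_zero]; simp [e0, Fin.succ_ne_zero]
    | succ j => rw [block_succ_succ]; rfl

theorem det_block (r : Fin 4 → ZMod 2) (M : Matrix (Fin 4) (Fin 4) (ZMod 2)) :
    (block r M).det = M.det := by
  rw [Matrix.det_succ_column_zero, Fin.sum_univ_succ]
  have hsub : (block r M).submatrix Fin.succ Fin.succ = M := by
    ext i j
    simp [block_succ_succ]
  simp [block_zero_zero, block_succ_zero, hsub]

theorem zmod2_det {n : ℕ} (M : GL (Fin n) (ZMod 2)) :
    (M : Matrix (Fin n) (Fin n) (ZMod 2)).det = 1 := by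
  have h : ∀ x : ZMod 2, x ≠ 0 → x = 1 := by decide
  exact h _ (M.det_ne_zero)

end VecIso

open VecIso in
theorem iso_stabilizer {G : Type*} [Group G] [Finite G] (E C K : Subgroup G) [E.Normal]
    (hE : Nat.card E = 16) (hsq : ∀ x ∈ E, x * x = 1)
    (hcent : ∀ g : G, (∀ x ∈ E, g * x = x * g) → g ∈ E) (hG : Nat.card G = 322560)
    (hC : Nat.card C = 21504) (hEC : E ≤ C) (hKC : K ≤ C) (hdis : E ⊓ K = ⊥)
    (hjoin : ∀ c ∈ C, ∃ e ∈ E, ∃ k ∈ K, c = e * k) :
    ∃ v : Fin 5 → ZMod 2, v ≠ 0 ∧
      Nonempty (G ≃* MulAction.stabilizer (Matrix.SpecialLinearGroup (Fin 5) (ZMod 2)) v) := by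
  classical
  haveI hcomm : IsMulCommutative E := ⟨⟨fun a b => Subtype.ext (by
    have ha : ∀ x ∈ E, x⁻¹ = x := fun x hx => inv_eq_of_mul_eq_one_right (hsq x hx)
    show (a : G) * b = b * a
    calc (a : G) * b = ((a : G) * b)⁻¹ := (ha _ (mul_mem a.2 b.2)).symm
      _ = b * a := by rw [_root_.mul_inv_rev, ha _ a.2, ha _ b.2])⟩⟩
  -- the complement
  have hidx : C.index = 15 := by
    have h := C.card_mul_index
    rw [hC, hG] at h
    omega
  have hsup : E ⊔ K = C := le_antisymm (sup_le hEC hKC) fun c hc => by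
    obtain ⟨e, he, k, hk, rfl⟩ := hjoin c hc
    exact mul_mem_sup he hk
  obtain ⟨H, hH⟩ := CfsgLib.Gaschutz.exists_complement hEC (by rw [hE, hidx]; norm_num) K hKC
    (by rw [inf_comm]; exact hdis) hsup
  -- coordinates on the normal subgroup
  letI : AddCommGroup (Additive E) := { (inferInstance : AddGroup (Additive E)) with
    add_comm := fun a b => mul_comm' (Additive.toMul a) (Additive.toMul b) }
  letI : Module (ZMod 2) (Additive E) := AddCommGroup.zmodModule (n := 2) fun x =>
    Additive.toMul.injective (by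
      rw [toMul_nsmul, toMul_zero, pow_two]
      exact Subtype.ext (hsq _ (Additive.toMul x).2))
  haveI : Finite (Additive E) := inferInstanceAs (Finite E)
  have hdim : Module.finrank (ZMod 2) (Additive E) = 4 := by
    have h : Nat.card (Additive E) = 2 ^ Module.finrank (ZMod 2) (Additive E) := by
      rw [Module.natCard_eq_pow_finrank (K := ZMod 2), Nat.card_zmod]
    rw [show Nat.card (Additive E) = 16 from hE] at h
    exact (Nat.pow_right_injective le_rfl (show 2 ^ 4 = 2 ^ _ from h)).symm
  let c : Additive E ≃ₗ[ZMod 2] (Fin 4 → ZMod 2) := (Module.finBasisOfFinrankEq _ _ hdim).equivFun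
  -- the action on the normal subgroup, as matrices acting on rows
  let act : G → (Additive E →+ Additive E) := fun g =>
    MonoidHom.toAdditive (MulAut.conjNormal (H := E) g⁻¹).toMonoidHom
  let M₀ : G → Matrix (Fin 4) (Fin 4) (ZMod 2) := fun g => Matrix.of fun i => c (act g (c.symm (Pi.single i 1)))
  have hM : ∀ g (x : E), c (Additive.ofMul x) ᵥ* M₀ g = c (Additive.ofMul (MulAut.conjNormal g⁻¹ x)) := by
    intro g x
    let L : (Fin 4 → ZMod 2) →ₗ[ZMod 2] (Fin 4 → ZMod 2) :=
      (c.toLinearMap.comp ((act g).toZModLinearMap 2)).comp c.symm.toLinearMap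
    have h1 : (Matrix.of fun i => L (Pi.single i 1)).vecMulLinear = L := by
      refine LinearMap.pi_ext' fun i => LinearMap.ext_ring ?_
      simp only [LinearMap.comp_apply, Matrix.vecMulLinear_apply, LinearMap.coe_single,
        Matrix.single_one_vecMul]
      rfl
    have h2 := LinearMap.congr_fun h1 (c (Additive.ofMul x))
    rw [Matrix.vecMulLinear_apply] at h2
    refine h2.trans ?_
    show c (act g (c.symm (c (Additive.ofMul x)))) = _
    rw [c.symm_apply_apply]
    rfl
  have hext : ∀ A B : Matrix (Fin 4) (Fin 4) (ZMod 2),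
      (∀ x : E, c (Additive.ofMul x) ᵥ* A = c (Additive.ofMul x) ᵥ* B) → A = B := fun A B h => by
    refine Matrix.ext_of_single_vecMul fun i => ?_
    have h1 := h (Additive.toMul (c.symm (Pi.single i 1)))
    rwa [ofMul_toMul, c.apply_symm_apply] at h1
  have hmul : ∀ g g', M₀ (g * g') = M₀ g * M₀ g' := fun g g' => hext _ _ fun x => by
    rw [← Matrix.vecMul_vecMul, hM, hM, hM, _root_.mul_inv_rev, map_mul, MulAut.mul_apply]
  have hone : M₀ 1 = 1 := hext _ _ fun x => by
    rw [hM, inv_one, map_one, MulAut.one_apply, Matrix.vecMul_one]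
  let φ : G →* GL (Fin 4) (ZMod 2) := MonoidHom.toHomUnits { toFun := M₀, map_one' := hone, map_mul' := hmul }
  have hker : φ.ker = E := by
    refine le_antisymm (fun g hg => ?_) (fun g hg => ?_)
    · refine hcent g fun x hx => ?_
      have h1 : M₀ g = 1 := congrArg Units.val hg
      have h2 := hM g ⟨x, hx⟩
      rw [h1, Matrix.vecMul_one] at h2
      have h3 := congrArg Subtype.val (Additive.ofMul.injective (c.injective h2))
      rw [MulAut.conjNormal_apply, inv_inv] at h3
      have h4 : g * x = g * (g⁻¹ * x * g) := congrArg (g * ·) h3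
      rw [h4]
      group
    · refine Units.ext (hext _ _ fun x => ?_)
      show c (Additive.ofMul x) ᵥ* M₀ g = _
      rw [hM, Units.val_one, Matrix.vecMul_one,
        CfsgLib.Gaschutz.conjNormal_eq_of_mem x g⁻¹ (inv_mem hg)]
  have hφ : Function.Surjective φ := by
    have h1 := φ.ker.card_mul_index
    rw [Subgroup.index_ker, hker, hE, hG] at h1
    have h2 : Nat.card (GL (Fin 4) (ZMod 2)) = 20160 := by
      rw [Matrix.card_GL_field]
      simp only [ZMod.card, Fin.prod_univ_succ, Finset.univ_eq_empty, Finset.prod_empty]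
      norm_num
    rw [← MonoidHom.range_eq_top]
    exact Subgroup.eq_top_of_card_eq _ (by omega)
  -- the coordinate of the normal part
  have hdec : ∀ g : G, ∃ h ∈ H, h⁻¹ * g ∈ E := fun g => by
    obtain ⟨⟨⟨e, he⟩, ⟨h, hh⟩⟩, hg⟩ := hH.2 g
    refine ⟨h, hh, ?_⟩
    rw [← hg, ← mul_assoc]
    have := (inferInstance : E.Normal).conj_mem e he h⁻¹
    rwa [inv_inv] at this
  choose hof hofH hofE using hdec
  have huniq : ∀ g h, h ∈ H → h⁻¹ * g ∈ E → h = hof g := fun g h hh he => by
    have h1 : h⁻¹ * hof g ∈ E ⊓ H := by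
      refine Subgroup.mem_inf.2 ⟨?_, mul_mem (inv_mem hh) (hofH g)⟩
      have h2 := mul_mem he (inv_mem (hofE g))
      rwa [_root_.mul_inv_rev, inv_inv, mul_assoc, mul_inv_cancel_left] at h2
    rw [disjoint_iff.1 hH.disjoint, Subgroup.mem_bot] at h1
    exact inv_mul_eq_one.1 h1
  let r : G → (Fin 4 → ZMod 2) := fun g => c (Additive.ofMul ⟨(hof g)⁻¹ * g, hofE g⟩)
  have hφhof : ∀ g, M₀ (hof g) = M₀ g := fun g => by
    have h1 : φ ((hof g)⁻¹ * g) = 1 := by
      rw [← MonoidHom.mem_ker, hker]; exact hofE g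
    rw [map_mul, map_inv, inv_mul_eq_one] at h1
    exact congrArg Units.val h1
  have hr : ∀ g g', r (g * g') = r g ᵥ* M₀ g' + r g' := by
    intro g g'
    have e : hof (g * g') = hof g * hof g' := (huniq _ _ (mul_mem (hofH g) (hofH g')) (by
      have h := mul_mem ((inferInstance : E.Normal).conj_mem _ (hofE g) (hof g')⁻¹) (hofE g')
      convert h using 1
      group)).symm
    rw [show r g ᵥ* M₀ g' = r g ᵥ* M₀ (hof g') by rw [hφhof]]
    show c _ = c _ ᵥ* _ + c _
    rw [hM, ← map_add, ← ofMul_mul]
    refine congrArg (fun y : E => c (Additive.ofMul y)) (Subtype.ext ?_)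
    rw [Subgroup.coe_mul, MulAut.conjNormal_apply, inv_inv]
    simp only [e]
    group
  have hdet : ∀ g, (block (r g) (M₀ g)).det = 1 := fun g => by
    rw [det_block]; exact zmod2_det (φ g)
  have hf : ∀ g g', block (r (g * g')) (M₀ (g * g')) = block (r g) (M₀ g) * block (r g') (M₀ g') :=
    fun g g' => by rw [block_mul, hr, hmul]
  let Φ : G →* Matrix.SpecialLinearGroup (Fin 5) (ZMod 2) :=
    MonoidHom.mk' (fun g => ⟨block (r g) (M₀ g), hdet g⟩) fun g g' => Subtype.ext (hf g g')
  have hmem : ∀ g, Φ g ∈ MulAction.stabilizer (Matrix.SpecialLinearGroup (Fin 5) (ZMod 2)) e0 :=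
    fun g => by
      rw [MulAction.mem_stabilizer_iff, Matrix.SpecialLinearGroup.smul_def, Matrix.smul_eq_mulVec]
      exact block_mulVec _ _
  refine ⟨e0, e0_ne, ⟨MulEquiv.ofBijective (Φ.codRestrict _ hmem) ⟨?_, ?_⟩⟩⟩
  · refine (injective_iff_map_eq_one _).2 fun g hg => ?_
    have h1 : block (r g) (M₀ g) = 1 :=
      congrArg (fun u : MulAction.stabilizer (Matrix.SpecialLinearGroup (Fin 5) (ZMod 2)) e0 =>
        ((u : Matrix.SpecialLinearGroup (Fin 5) (ZMod 2)) : Matrix (Fin 5) (Fin 5) (ZMod 2))) hg
    rw [← block_one] at h1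
    have hgE : g ∈ E := by
      rw [← hker]
      refine Units.ext (Matrix.ext fun i j => ?_)
      have h2 := congrFun (congrFun h1 i.succ) j.succ
      rwa [block_succ_succ, block_succ_succ] at h2
    have hr0 : r g = 0 := funext fun j => by
      have h2 := congrFun (congrFun h1 0) j.succ
      rwa [block_zero_succ, block_zero_succ] at h2
    have hh : hof g = 1 := (huniq g 1 (one_mem _) (by rwa [inv_one, one_mul])).symm
    have h3 := congrArg Subtype.val (Additive.ofMul.injective
      ((c.map_eq_zero_iff.1 hr0).trans ofMul_one.symm))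
    simpa [hh] using h3
  · rintro ⟨N, hN⟩
    rw [MulAction.mem_stabilizer_iff, Matrix.SpecialLinearGroup.smul_def, Matrix.smul_eq_mulVec] at hN
    have hNb := eq_block_of_fix hN
    set ρ : Fin 4 → ZMod 2 := fun j => N.1 0 j.succ with hρ
    set A : Matrix (Fin 4) (Fin 4) (ZMod 2) := Matrix.of fun i j => N.1 i.succ j.succ with hA
    have hAdet : A.det ≠ 0 := by
      rw [← det_block ρ A, ← hNb, N.2]; decide
    obtain ⟨g, hg⟩ := hφ (Matrix.GeneralLinearGroup.mkOfDetNeZero A hAdet)
    have hgA : M₀ g = A := congrArg Units.val hg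
    let e : E := Additive.toMul (c.symm ρ)
    refine ⟨hof g * e, Subtype.ext (Subtype.ext ?_)⟩
    show block (r (hof g * e)) (M₀ (hof g * e)) = N.1
    have hh : hof (hof g * e) = hof g :=
      (huniq _ _ (hofH g) (by rw [inv_mul_cancel_left]; exact e.2)).symm
    have hre : r (hof g * e) = ρ := by
      rw [show r (hof g * e) = c (Additive.ofMul e) from congrArg (fun y : E => c (Additive.ofMul y))
        (Subtype.ext (by simp [hh]))]
      exact c.apply_symm_apply ρ
    rw [hre, ← hφhof, hh, hφhof, hgA]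
    exact hNb.symm

end CfsgLib.Trichotomy
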