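import Cfsg.Agent.Trichotomy.PatternMirror
import Cfsg.Agent.Trichotomy.VecIso
import Cfsg.Agent.HeldUniq.FusionArith
import Cfsg.Agent.Invol.Isolated

/-!
# One axis of conjugates of `t`: the stabiliser of a nonzero vector in `SL(5, 2)`

If exactly one of the two axes consists of conjugates of `t`, these conjugates and the identity make up
an elementary abelian subgroup of order 16, which turns out to contain all conjugates of `t`.
-/

set_option autoImplicit false
set_option linter.unusedSectionVars false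
set_option maxRecDepth 100000

namespace CfsgLib.Trichotomy

open CfsgLib.HeldUniq CfsgLib.Invol

namespace AxisEnd

/-- The sixteen codes of the axis. -/
def eList : List Nat :=
  (List.range 16).map fun q => Mdl.mk 0 (q % 8) (q / 8) Mdl.mone Mdl.mone

/-- An involution of the other axis. -/
def uN : Nat := Mdl.mk 1 0 0 Mdl.mone Mdl.mone

/-- The involutions in the translate of the axis by `uN`. -/
def uList : List Nat :=
  (eList.map (Mdl.mulN uN)).filter fun a => Nat.beq (Mdl.mulN a a) Mdl.one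

/-- Three generators of the axis modulo `t`. -/
def gens : List Nat := [1, 2, 4].map fun p => Mdl.mk 0 p 0 Mdl.mone Mdl.mone

theorem eList_ok : (eList.all fun a => Mdl.mem a && Nat.beq (Mdl.mulN a a) Mdl.one &&
    (Nat.beq a Mdl.one || isT patP a)) = true := by decide +kernel

theorem eList_basic : eList.Nodup ∧ Mdl.one ∈ eList ∧ Mdl.tN ∈ eList ∧
    (eList.filter fun a => !Nat.beq a Mdl.one).length = 15 := by decide +kernel

theorem eList_closed :
    (eList.all fun a => eList.all fun b => eList.contains (Mdl.mulN a b)) = true := by decide +kernel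

theorem uList_ok : (uList.all fun a => Mdl.mem a &&
    (eList.all fun e => Mdl.commN a e || Nat.beq (Mdl.mulN a e) (Mdl.mulN (Mdl.mulN Mdl.tN e) a)) &&
    (eList.any fun e => !Mdl.commN a e) &&
    (eList.any fun e => Mdl.commN a e && !Nat.beq e Mdl.one && !Nat.beq e Mdl.tN)) = true := by
  decide +kernel

theorem uN_facts : uN ∈ uList ∧ Mdl.mem uN = true ∧ Mdl.mulN uN uN = Mdl.one ∧ uN ≠ Mdl.one ∧
    isT patP uN = false := by decide +kernel

theorem gens_ok : (gens.all fun e => eList.contains e) = true ∧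
    (Mdl.slPairs.all fun x =>
      !([1, 2, 4].all fun p => Nat.beq (Mdl.rapp p x.2) p) || Nat.beq x.1 Mdl.mone) = true ∧
    ((Mdl.codesOf [(Mdl.mone, Mdl.mone)]).all fun a =>
      !(gens.all fun e => Mdl.commN a e) || eList.contains a) = true := by decide +kernel

theorem invAt_mone : Mdl.invAt Mdl.mone = Mdl.mone := by decide +kernel

theorem pair_mone {a : Nat} (ha : Mdl.mem a = true) (hg : Mdl.gOf a = Mdl.mone) :
    Mdl.hOf a = Mdl.mone := by
  have h := (Mdl.pair_facts ((Mdl.mem_iff_pair a).1 ha)).2.2.2.2.1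
  rw [hg, invAt_mone] at h
  exact h.symm

theorem kind_axis {a : Nat} (h : patP.getD (kind a) false = true) :
    Mdl.gOf a = Mdl.mone ∧ Mdl.vOf a = 0 := by
  unfold kind at h
  cases hg : Nat.beq (Mdl.gOf a) Mdl.mone <;> rw [hg] at h
  · revert h
    cases inImage (Mdl.gOf a) (Mdl.vOf a) <;> cases inImageT (Mdl.hOf a) (Mdl.pOf a) <;>
      simp only [cond_true, cond_false] <;> (try exact fun h => Bool.noConfusion h) <;>
      cases Nat.beq (Nat.xor (Mdl.cOf a) _) 0 <;> exact fun h => Bool.noConfusion h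
  · cases hv : Nat.beq (Mdl.vOf a) 0 <;> rw [hv] at h
    · revert h
      cases Nat.beq (Mdl.pOf a) 0 <;> simp [patP]
    · exact ⟨Nat.eq_of_beq_eq_true hg, Nat.eq_of_beq_eq_true hv⟩

theorem mem_eList {a : Nat} (ha : Mdl.mem a = true) (h : isT patP a = true) : a ∈ eList := by
  simp only [isT, Bool.and_eq_true] at h
  obtain ⟨hg, hv⟩ := kind_axis h.2
  have hh := pair_mone ha hg
  obtain ⟨-, hp, hc, -⟩ := Mdl.fields_lt a
  refine List.mem_map.2 ⟨Mdl.pOf a + 8 * Mdl.cOf a, List.mem_range.2 (by omega), ?_⟩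
  conv_rhs => rw [Mdl.eq_mk a]
  rw [hg, hv, hh, show (Mdl.pOf a + 8 * Mdl.cOf a) % 8 = Mdl.pOf a by omega,
    show (Mdl.pOf a + 8 * Mdl.cOf a) / 8 = Mdl.cOf a by omega]

section

variable {G : Type*} [Group G] [Finite G] {t : G} (F : Frame t)

theorem eList_mem {a : Nat} (ha : a ∈ eList) : Mdl.mem a = true := by
  have h := List.all_eq_true.1 eList_ok a ha
  simp only [Bool.and_eq_true] at h
  exact h.1.1

/-- The axis. -/
def axis : Subgroup G :=
  F.ofList eList eList_basic.2.1 (fun _ ha => eList_mem ha) (Mdl.closed_facts eList_closed)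

theorem ev_axis {a : Nat} (ha : a ∈ eList) : F.ev a ∈ axis F := ⟨a, ha, rfl⟩

theorem t_mem : t ∈ axis F := ⟨_, eList_basic.2.2.1, F.ev_t⟩

theorem axis_sq : ∀ x ∈ axis F, x * x = 1 := by
  rintro _ ⟨a, ha, rfl⟩
  have h := List.all_eq_true.1 eList_ok a ha
  simp only [Bool.and_eq_true, Nat.beq_eq] at h
  rw [← F.map_mul a a h.1.1 h.1.1, h.1.2, F.ev_one]

theorem card_axis : Nat.card (axis F) = 16 :=
  (F.card_of_codes (X := (axis F : Set G)) eList eList_basic.1 (fun _ ha => eList_mem ha)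
    fun _ => Iff.rfl).trans rfl

include F in
theorem orderOf_conj {x : G} (hx : IsConj t x) : orderOf x = 2 := by
  obtain ⟨g, rfl⟩ := isConj_iff.1 hx
  exact (orderOf_conj_eq g t).trans F.orderOf_t

variable {F} (hb : IsPat F patP)

include hb in
/-- The axis is the identity and the conjugates of `t` commuting with `t`. -/
theorem axis_iff (x : G) : x ∈ axis F ↔ x = 1 ∨ IsConj t x ∧ x * t = t * x := by
  constructor
  · rintro ⟨a, ha, rfl⟩
    have h := List.all_eq_true.1 eList_ok a ha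
    simp only [Bool.and_eq_true, Bool.or_eq_true] at h
    rcases h.2 with e | e
    · exact Or.inl (by rw [Nat.eq_of_beq_eq_true e, F.ev_one])
    · exact Or.inr ⟨(isT_iff F hb h.1.1).1 e, F.mem_cent h.1.1⟩
  · rintro (rfl | ⟨hc, hcomm⟩)
    · exact one_mem _
    · obtain ⟨a, ha, rfl⟩ := F.exists_code hcomm
      exact ev_axis F (mem_eList ha ((isT_iff F hb ha).2 hc))

include hb in
theorem axis_conj {x : G} (hx : x ∈ axis F) (h1 : x ≠ 1) : IsConj t x :=
  (((axis_iff hb x).1 hx).resolve_left h1).1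

include hb in
theorem norm_of {g : G} (hg : g * t * g⁻¹ ∈ axis F) :
    g ∈ Subgroup.normalizer (axis F : Set G) := by
  suffices h : g⁻¹ ∈ Subgroup.normalizer (axis F : Set G) from inv_mem_iff.1 h
  refine Frame.conj_mem_iff_of_le fun w hw => ?_
  rw [inv_inv, axis_iff hb]
  rcases (axis_iff hb w).1 hw with rfl | ⟨hc, -⟩
  · exact Or.inl (by group)
  · refine Or.inr ⟨hc.trans (isConj_iff.2 ⟨g⁻¹, by rw [inv_inv]⟩), ?_⟩
    calc g⁻¹ * w * g * t = g⁻¹ * (w * (g * t * g⁻¹)) * g := by group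
      _ = g⁻¹ * (g * t * g⁻¹ * w) * g := by rw [Frame.comm_of_sq (axis_sq F) hw hg]
      _ = t * (g⁻¹ * w * g) := by group

include hb in
theorem comm_mem {e x : G} (he : e ∈ axis F) (he1 : e ≠ 1) (hx : IsConj t x) (hc : Commute e x) :
    x ∈ axis F := by
  obtain ⟨g, rfl⟩ := isConj_iff.1 (axis_conj hb he he1)
  have hy : g⁻¹ * x * g ∈ axis F := by
    refine (axis_iff hb _).2 (Or.inr ⟨hx.trans (isConj_iff.2 ⟨g⁻¹, by rw [inv_inv]⟩), ?_⟩)
    calc g⁻¹ * x * g * t = g⁻¹ * (x * (g * t * g⁻¹)) * g := by group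
      _ = g⁻¹ * (g * t * g⁻¹ * x) * g := by rw [hc.eq]
      _ = t * (g⁻¹ * x * g) := by group
  have := (Subgroup.mem_normalizer_iff.1 (norm_of hb he) _).1 hy
  rwa [show g * (g⁻¹ * x * g) * g⁻¹ = x by group] at this

include hb in
theorem odd_mul {e x : G} (he : e ∈ axis F) (he1 : e ≠ 1) (hx : IsConj t x) (hxE : x ∉ axis F) :
    Odd (orderOf (e * x)) := by
  by_contra hodd
  rw [Nat.not_odd_iff_even] at hodd
  have het := axis_conj hb he he1
  have he2 := orderOf_conj F het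
  have hx2 := orderOf_conj F hx
  obtain ⟨hw2, hwe, hwx⟩ := half_props he2 hx2 hodd
  have hew : IsConj t (e * (e * x) ^ (orderOf (e * x) / 2)) := by
    rcases mul_half_isConj he2 hx2 hodd with h | h
    exacts [het.trans h, hx.trans h]
  have h := comm_mem hb he he1 hew ((Commute.refl e).mul_right hwe.symm)
  have hwE : (e * x) ^ (orderOf (e * x) / 2) ∈ axis F := by
    have := mul_mem he h
    rwa [← mul_assoc, axis_sq F e he, one_mul] at this
  exact hxE (comm_mem hb hwE (ne_one hw2) hx hwx)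

include hb in
/-- The centraliser of an involution of the translated axis centralises `t`. -/
theorem cent_le {a : Nat} (ha : a ∈ uList) {g : G} (hg : Commute g (F.ev a)) : g * t = t * g := by
  have h := List.all_eq_true.1 uList_ok a ha
  simp only [Bool.and_eq_true, List.any_eq_true, List.all_eq_true, Bool.or_eq_true,
    Bool.not_eq_true', Nat.beq_eq] at h
  obtain ⟨⟨⟨hm, hall⟩, e₀, he₀, hne₀⟩, e₁, he₁, ⟨hc₁, hne1⟩, hnet⟩ := h
  set U := F.ev a with hU
  have key : ∀ n ∈ Subgroup.normalizer (axis F : Set G), Commute n U → n * t = t * n := by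
    intro n hn hnU
    obtain ⟨b, hb', hbe⟩ := (Subgroup.mem_normalizer_iff.1 hn (F.ev e₀)).1 (ev_axis F he₀)
    have hm₀ := eList_mem he₀
    have hmb := eList_mem hb'
    have hti := hnU.inv_left
    rcases hall b hb' with hbc | hbc
    · exfalso
      have h1 : U * F.ev b = F.ev b * U := (F.commN_iff hm hmb).1 hbc
      have h2 : U * F.ev e₀ = F.ev e₀ * U := by
        have e : F.ev e₀ = n⁻¹ * F.ev b * n := by rw [hbe]; group
        rw [e]
        exact ((hti.symm.mul_right h1).mul_right hnU.symm).eq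
      rw [(F.commN_iff hm hm₀).2 h2] at hne₀
      exact Bool.noConfusion hne₀
    · have hte := (hall e₀ he₀).resolve_left (by rw [hne₀]; exact Bool.noConfusion)
      have hte' := congrArg F.ev hte
      have hbc' := congrArg F.ev hbc
      rw [F.map_mul _ _ hm hm₀, F.map_mul _ _ (Mdl.mem_mulN Mdl.mem_tN hm₀) hm,
        F.map_mul _ _ Mdl.mem_tN hm₀, F.ev_t, ← hU] at hte'
      rw [F.map_mul _ _ hm hmb, F.map_mul _ _ (Mdl.mem_mulN Mdl.mem_tN hmb) hm,
        F.map_mul _ _ Mdl.mem_tN hmb, F.ev_t, ← hU, hbe] at hbc'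
      have e1 : U * (n * F.ev e₀ * n⁻¹) = n * (U * F.ev e₀) * n⁻¹ := by
        rw [← mul_assoc, ← mul_assoc, ← hnU.eq, mul_assoc n U]
      have e2 : n * (t * F.ev e₀ * U) * n⁻¹ = n * t * n⁻¹ * (n * F.ev e₀ * n⁻¹) * U := by
        rw [show n * (t * F.ev e₀ * U) * n⁻¹ = n * (t * F.ev e₀) * (U * n⁻¹) by group,
          ← hti.eq]
        group
      rw [e1, hte', e2] at hbc'
      exact mul_inv_eq_iff_eq_mul.1 (mul_right_cancel (mul_right_cancel hbc'))
  have hxc : IsConj t (g * t * g⁻¹) := isConj_iff.2 ⟨g, rfl⟩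
  by_cases hxE : g * t * g⁻¹ ∈ axis F
  · exact key g (norm_of hb hxE) hg
  exfalso
  have hm₁ := eList_mem he₁
  set e := F.ev e₁ with he
  have he1 : e ≠ 1 := fun h => by
    rw [Mdl.beq_of_eq ((F.eq_one_iff hm₁).1 h)] at hne1; exact Bool.noConfusion hne1
  obtain ⟨m, hmt⟩ := exists_pow_conj_of_odd F.orderOf_t (orderOf_conj F hxc)
    (odd_mul hb (t_mem F) F.t_ne_one hxc hxE)
  obtain ⟨m', hme⟩ := exists_pow_conj_of_odd (orderOf_conj F (axis_conj hb (ev_axis F he₁) he1))
    (orderOf_conj F hxc) (odd_mul hb (ev_axis F he₁) he1 hxc hxE)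
  set x := g * t * g⁻¹ with hx
  have hUt : Commute U t := F.mem_cent hm
  have hUe : Commute U e := (F.commN_iff hm hm₁).1 hc₁
  have hUx : Commute U x := (hg.symm.mul_right hUt).mul_right hg.symm.inv_right
  set k := ((t * x) ^ m)⁻¹ * (e * x) ^ m' with hk
  have hUk : Commute U k :=
    (((hUt.mul_right hUx).pow_right m).inv_right).mul_right ((hUe.mul_right hUx).pow_right m')
  have hke : k * e * k⁻¹ = t := by
    rw [hk, show ((t * x) ^ m)⁻¹ * (e * x) ^ m' * e * (((t * x) ^ m)⁻¹ * (e * x) ^ m')⁻¹ =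
      ((t * x) ^ m)⁻¹ * ((e * x) ^ m' * e * ((e * x) ^ m')⁻¹) * (t * x) ^ m by group, hme]
    conv_lhs => arg 1; arg 2; rw [← hmt]
    group
  have hte : k⁻¹ * t * k = e := by rw [← hke]; group
  have hN : k⁻¹ ∈ Subgroup.normalizer (axis F : Set G) :=
    norm_of hb (by rw [inv_inv, hte]; exact ev_axis F he₁)
  have h3 := key _ hN hUk.symm.inv_left
  rw [h3, inv_mul_cancel_right] at hte
  rw [Mdl.beq_of_eq ((F.eq_t_iff hm₁).1 hte.symm)] at hnet
  exact Bool.noConfusion hnet

include hb in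
/-- Every conjugate of `t` lies in the axis. -/
theorem all_mem {x : G} (hx : IsConj t x) : x ∈ axis F := by
  obtain ⟨huu, hum, hu2, hu1, huT⟩ := uN_facts
  set U := F.ev uN with hU
  have hUsq : U * U = 1 := by rw [hU, ← F.map_mul _ _ hum hum, hu2, F.ev_one]
  have hUi : U⁻¹ = U := inv_eq_of_mul_eq_one_right hUsq
  have hUne : U ≠ 1 := fun h => hu1 ((F.eq_one_iff hum).1 h)
  have hUo : orderOf U = 2 := orderOf_eq_two hUsq hUne
  have hnot : ¬ IsConj x U := fun h => by
    rw [(isT_iff F hb hum).2 (hx.trans h)] at huT; exact Bool.noConfusion huT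
  have hxo := orderOf_conj F hx
  by_cases hUx : Commute U x
  · exact (axis_iff hb x).2 (Or.inr ⟨hx, cent_le hb huu hUx.symm⟩)
  have hev := even_orderOf_mul_of_not_isConj hxo hUo hnot
  by_cases hev2 : Even (orderOf (x * (U * x * U)))
  · -- `U` fixes a point of the axis through `x`
    obtain ⟨g, hg⟩ := isConj_iff.1 hx
    set y := g⁻¹ * (U * x * U) * g with hy
    have hyc : IsConj t y :=
      (hx.trans (isConj_iff.2 ⟨U, by rw [hUi]⟩)).trans (isConj_iff.2 ⟨g⁻¹, by rw [inv_inv]⟩)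
    have hyE : y ∈ axis F := by
      by_contra hyE
      have ho := odd_mul hb (t_mem F) F.t_ne_one hyc hyE
      rw [show t * y = g⁻¹ * (x * (U * x * U)) * g⁻¹⁻¹ by rw [hy, ← hg]; group,
        orderOf_conj_eq] at ho
      exact Nat.not_odd_iff_even.2 hev2 ho
    set u' := g⁻¹ * U * g with hu'
    have hu'sq : u' * u' = 1 := by
      rw [hu', show g⁻¹ * U * g * (g⁻¹ * U * g) = g⁻¹ * (U * U) * g by group, hUsq]
      group
    have hu'i : u'⁻¹ = u' := inv_eq_of_mul_eq_one_right hu'sq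
    have h1 : u' * t * u' = y := by
      rw [hy, hu', ← hg]; group
    have h2 : u' * y * u' = t :=
      calc u' * y * u' = u' * (u' * t * u') * u' := by rw [h1]
        _ = u' * u' * t * (u' * u') := by simp only [mul_assoc]
        _ = t := by rw [hu'sq, one_mul, mul_one]
    have hz1 : t * y ≠ 1 := fun e => hUx (by
      have e' : y = t := (inv_eq_of_mul_eq_one_right e).symm.trans
        (inv_eq_of_mul_eq_one_right F.t_mul_t)
      have e2 : U * x * U = x :=
        calc U * x * U = g * y * g⁻¹ := by rw [hy]; group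
          _ = x := by rw [e', hg]
      have e3 : U * x * U * U = x * U := by rw [e2]
      rw [mul_assoc, hUsq, mul_one] at e3
      exact e3)
    have hzE : t * y ∈ axis F := mul_mem (t_mem F) hyE
    have hfix : Commute u' (t * y) := by
      have e : u' * (t * y) * u'⁻¹ = t * y := by
        rw [show u' * (t * y) * u'⁻¹ = (u' * t * u'⁻¹) * (u' * y * u'⁻¹) by group, hu'i, h1, h2]
        exact Frame.comm_of_sq (axis_sq F) hyE (t_mem F)
      exact mul_inv_eq_iff_eq_mul.1 e
    have hY : Commute (g * (t * y) * g⁻¹) U := by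
      have e := congrArg (fun z => g * z * g⁻¹) hfix.symm.eq
      simp only [hu'] at e
      show g * (t * y) * g⁻¹ * U = U * (g * (t * y) * g⁻¹)
      refine Eq.trans ?_ (e.trans ?_) <;> group
    have hYc : IsConj t (g * (t * y) * g⁻¹) :=
      (axis_conj hb hzE hz1).trans (isConj_iff.2 ⟨g, rfl⟩)
    have hYE : g * (t * y) * g⁻¹ ∈ axis F :=
      (axis_iff hb _).2 (Or.inr ⟨hYc, cent_le hb huu hY⟩)
    refine comm_mem hb hYE (fun e => hz1 (conj_eq_one_iff.1 e)) hx ?_
    have e := Frame.comm_of_sq (axis_sq F) hzE (t_mem F)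
    have e' := congrArg (fun z => g * z * g⁻¹) e
    show g * (t * y) * g⁻¹ * x = x * (g * (t * y) * g⁻¹)
    rw [← hg]
    refine Eq.trans ?_ (e'.trans ?_) <;> group
  · -- otherwise `U` times the central involution is conjugate to `x`
    rw [Nat.not_even_iff_odd] at hev2
    obtain ⟨hw2, hwx, hwU⟩ := half_props hxo hUo hev
    set n := orderOf (x * U) with hn
    set w := (x * U) ^ (n / 2) with hw
    have hsqx : x * (U * x * U) = (x * U) ^ 2 := by rw [sq]; group
    rw [hsqx] at hev2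
    have hm : orderOf ((x * U) ^ 2) = n / 2 := by
      rw [orderOf_pow' _ (two_ne_zero), ← hn, Nat.gcd_eq_right hev.two_dvd]
    have hwne : w ≠ U := fun e => hUx (e ▸ hwx)
    have hUw : orderOf (U * w) = 2 := by
      refine orderOf_eq_two ?_ fun e => hwne ?_
      · rw [mul_assoc, ← mul_assoc w, hwU.eq, mul_assoc, mul_self_eq_one hw2, mul_one, hUsq]
      · rw [← inv_eq_of_mul_eq_one_right e, hUi]
    have hodd : Odd (orderOf (x * (U * w))) := by
      obtain ⟨j, hj⟩ := hm ▸ hev2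
      have e : x * (U * w) = ((x * U) ^ 2) ^ (j + 1) := by
        rw [← mul_assoc, hw, ← pow_succ', hj, ← pow_mul]
        ring_nf
      rw [e]
      exact hev2.of_dvd_nat (orderOf_pow_dvd _)
    have hUwc : IsConj t (U * w) := hx.trans (isConj_of_odd hxo hUw hodd)
    have hUwU : Commute (U * w) U := (Commute.refl U).mul_left hwU
    obtain ⟨a, ha, hae⟩ := (axis_iff hb _).2 (Or.inr ⟨hUwc, cent_le hb huu hUwU⟩)
    have ham := eList_mem ha
    have hbw : F.ev (Mdl.mulN uN a) = w := by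
      rw [F.map_mul _ _ hum ham, hae, ← hU, ← mul_assoc, hUsq, one_mul]
    have hbm := Mdl.mem_mulN hum ham
    have hb2 : Mdl.mulN (Mdl.mulN uN a) (Mdl.mulN uN a) = Mdl.one :=
      (F.eq_one_iff (Mdl.mem_mulN hbm hbm)).1 (by
        rw [F.map_mul _ _ hbm hbm, hbw, mul_self_eq_one hw2])
    have hmemU : Mdl.mulN uN a ∈ uList :=
      List.mem_filter.2 ⟨List.mem_map_of_mem ha, Mdl.beq_of_eq hb2⟩
    exact (axis_iff hb x).2 (Or.inr ⟨hx, cent_le hb hmemU (hbw.symm ▸ hwx.symm)⟩)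

include hb in
theorem axis_normal : (axis F).Normal :=
  ⟨fun x hx g => (Subgroup.mem_normalizer_iff.1
    (norm_of hb (all_mem hb (isConj_iff.2 ⟨g, rfl⟩))) x).1 hx⟩

include hb in
theorem card_group : Nat.card G = 322560 := by
  have h := Frame.card_orbit (⊤ : Subgroup G) t
  rw [Subgroup.card_top, top_inf_eq, F.card_cent] at h
  have hX : Nat.card {g : G | ∃ n ∈ (⊤ : Subgroup G), n * t * n⁻¹ = g} = 15 := by
    rw [F.card_of_codes (eList.filter fun a => !Nat.beq a Mdl.one) (eList_basic.1.filter _)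
      (fun a ha => eList_mem (List.mem_filter.1 ha).1) fun g => ?_]
    · exact eList_basic.2.2.2
    constructor
    · rintro ⟨n, -, rfl⟩
      obtain ⟨a, ha, hae⟩ := all_mem hb (isConj_iff.2 ⟨n, rfl⟩)
      refine ⟨a, List.mem_filter.2 ⟨ha, ?_⟩, hae⟩
      cases h : Nat.beq a Mdl.one with
      | false => rfl
      | true =>
        rw [Nat.eq_of_beq_eq_true h, F.ev_one] at hae
        exact absurd (conj_eq_one_iff.1 hae.symm) F.t_ne_one
    · rintro ⟨a, ha, rfl⟩
      obtain ⟨ha, hne⟩ := List.mem_filter.1 ha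
      obtain ⟨n, hn⟩ := isConj_iff.1 (axis_conj hb (ev_axis F ha) fun e => by
        rw [Mdl.beq_of_eq ((F.eq_one_iff (eList_mem ha)).1 e)] at hne
        exact Bool.noConfusion hne)
      exact ⟨n, Subgroup.mem_top n, hn⟩
  rw [hX] at h
  exact h

theorem axis_self_centralising {g : G} (hg : ∀ x ∈ axis F, g * x = x * g) : g ∈ axis F := by
  obtain ⟨a, ha, rfl⟩ := F.exists_code (hg t (t_mem F))
  obtain ⟨h1, h2, h3⟩ := gens_ok
  have hc : ∀ e ∈ gens, Mdl.commN a e = true := fun e he => by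
    have he' := List.contains_iff_mem.1 (List.all_eq_true.1 h1 e he)
    exact (F.commN_iff ha (eList_mem he')).2 (hg _ (ev_axis F he'))
  have hx := (Mdl.mem_iff_pair a).1 ha
  have hfix : ([1, 2, 4].all fun p => Nat.beq (Mdl.rapp p (Mdl.hOf a)) p) = true := by
    refine List.all_eq_true.2 fun p hp => Mdl.beq_of_eq ?_
    have hp8 : p < 8 := by fin_cases hp <;> norm_num
    have h := hc (Mdl.mk 0 p 0 Mdl.mone Mdl.mone) (List.mem_map.2 ⟨p, hp, rfl⟩)
    rw [Mdl.commN, Nat.beq_eq] at h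
    have e := congrArg Mdl.pOf h
    obtain ⟨-, m2, -, m4, m5⟩ := Mdl.mk_fields (v := 0) (p := p) (c := 0) (g := Mdl.mone)
      (h := Mdl.mone) (by norm_num) hp8 (by norm_num) (by decide)
    rw [(Mdl.mulN_fields _ _).2.1, (Mdl.mulN_fields _ _).2.1, m2, m5] at e
    have i1 : ∀ w < 8, Mdl.rapp w Mdl.mone = w := by decide
    rw [i1 _ (Mdl.fields_lt a).2.1] at e
    have e' : Mdl.pOf a ^^^ Mdl.rapp p (Mdl.hOf a) = p ^^^ Mdl.pOf a := e
    rw [Nat.xor_comm p] at e'
    have := congrArg (Mdl.pOf a ^^^ ·) e'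
    simpa [← Nat.xor_assoc] using this
  have hg1 := List.all_eq_true.1 h2 _ hx
  rw [hfix, Bool.not_true, Bool.false_or] at hg1
  have hgm : Mdl.gOf a = Mdl.mone := Nat.eq_of_beq_eq_true hg1
  have hh := pair_mone ha hgm
  have hmem : a ∈ Mdl.codesOf [(Mdl.mone, Mdl.mone)] :=
    (Mdl.mem_codesOf (fun x hx => by rw [List.mem_singleton.1 hx]; decide) a).2
      (by rw [hgm, hh]; exact List.mem_singleton_self _)
  have h4 := List.all_eq_true.1 h3 a hmem
  rw [List.all_eq_true.2 hc, Bool.not_true, Bool.false_or] at h4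
  exact ev_axis F (List.contains_iff_mem.1 h4)

variable (F) in
/-- The elements with neither a part in the axis nor a central bit. -/
def compl : Subgroup G :=
  Frame.ofClosed {g | ∃ a, Mdl.mem a = true ∧ Mdl.pOf a = 0 ∧ Mdl.cOf a = 0 ∧ F.ev a = g}
    ⟨Mdl.one, Mdl.mem_one, by decide +kernel, by decide +kernel, F.ev_one⟩
    fun g hg k hk => by
      obtain ⟨a, ha, ha1, ha2, rfl⟩ := hg
      obtain ⟨b, hb, hb1, hb2, rfl⟩ := hk
      refine ⟨Mdl.mulN a b, Mdl.mem_mulN ha hb, ?_, ?_, F.map_mul a b ha hb⟩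
      · rw [(Mdl.mulN_fields a b).2.1, ha1, hb1]
        have : ∀ g < 512, Nat.xor 0 (Mdl.rapp 0 g) = 0 := by decide +kernel
        exact this _ (Mdl.pair_facts ((Mdl.mem_iff_pair a).1 ha)).2.2.2.1
      · rw [Mdl.mulN]
        obtain ⟨hv, hp, hc, -⟩ := Mdl.fields_lt a
        rw [(Mdl.mk_fields (Mdl.xor_lt8 hv (Mdl.app_lt _ _)) (Mdl.xor_lt8 hp (Mdl.rapp_lt _ _))
          (Mdl.xor_lt2 (Mdl.xor_lt2 hc (Mdl.fields_lt b).2.2.1) (Mdl.dot_lt _ _))
          (Mdl.mmul_lt _ _)).2.2.1, ha2, hb2, ha1]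
        have : ∀ w < 8, Nat.xor (Nat.xor 0 0) (Mdl.dot 0 w) = 0 := by decide
        exact this _ (Mdl.app_lt _ _)

variable (F) in
theorem compl_le : compl F ≤ Subgroup.centralizer ({t} : Set G) := by
  rintro _ ⟨a, ha, -, -, rfl⟩
  exact (F.mem_iff _).2 ⟨a, ha, rfl⟩

theorem inf_compl : axis F ⊓ compl F = ⊥ := by
  rw [Subgroup.eq_bot_iff_forall]
  rintro _ ⟨⟨a, ha, rfl⟩, b, hb, hb1, hb2, hbe⟩
  rw [F.inj b a hb (eList_mem ha) hbe] at hb1 hb2
  have key : (eList.all fun a =>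
      !(Nat.beq (Mdl.pOf a) 0 && Nat.beq (Mdl.cOf a) 0) || Nat.beq a Mdl.one) = true := by
    decide +kernel
  have h := List.all_eq_true.1 key a ha
  rw [Mdl.beq_of_eq hb1, Mdl.beq_of_eq hb2, Bool.and_self, Bool.not_true, Bool.false_or] at h
  rw [Nat.eq_of_beq_eq_true h, F.ev_one]

theorem split {c : G} (hc : c ∈ Subgroup.centralizer ({t} : Set G)) :
    ∃ e ∈ axis F, ∃ k ∈ compl F, c = e * k := by
  obtain ⟨a, ha, rfl⟩ := (F.mem_iff c).1 hc
  obtain ⟨-, -, hg, -, -, e6, e7⟩ := Mdl.pair_facts ((Mdl.mem_iff_pair a).1 ha)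
  obtain ⟨hv, hp, hcb, -⟩ := Mdl.fields_lt a
  set k := Mdl.mk (Mdl.vOf a) 0 0 (Mdl.gOf a) (Mdl.hOf a) with hk
  set c' := Nat.xor (Mdl.cOf a) (Mdl.dot (Mdl.pOf a) (Mdl.vOf a)) with hc'
  have hc2 : c' < 2 := Mdl.xor_lt2 hcb (Mdl.dot_lt _ _)
  set e := Mdl.mk 0 (Mdl.pOf a) c' Mdl.mone Mdl.mone with he
  obtain ⟨k1, k2, k3, k4, k5⟩ := Mdl.mk_fields (h := Mdl.hOf a) hv (by norm_num : 0 < 8)
    (by norm_num : 0 < 2) hg
  obtain ⟨f1, f2, f3, f4, f5⟩ := Mdl.mk_fields (h := Mdl.mone) (by norm_num : 0 < 8) hp hc2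
    (by decide : Mdl.mone < 512)
  rw [← hk] at k1 k2 k3 k4 k5
  rw [← he] at f1 f2 f3 f4 f5
  have hkm : Mdl.mem k = true := by
    rw [Mdl.mem_iff_pair, k4, k5]; exact (Mdl.mem_iff_pair a).1 ha
  have heE : e ∈ eList := List.mem_map.2 ⟨Mdl.pOf a + 8 * c', List.mem_range.2 (by omega), by
    rw [show (Mdl.pOf a + 8 * c') % 8 = Mdl.pOf a by omega,
      show (Mdl.pOf a + 8 * c') / 8 = c' by omega]⟩
  refine ⟨F.ev e, ev_axis F heE, F.ev k, ⟨k, hkm, k2, k3, rfl⟩, ?_⟩
  rw [← F.map_mul e k (eList_mem heE) hkm]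
  congr 1
  have h0 : ∀ w < 8, Mdl.app Mdl.mone w = w ∧ Nat.xor 0 w = w ∧
      Nat.xor w (Mdl.rapp 0 Mdl.mone) = w := by decide
  have h1 : ∀ c < 2, ∀ d < 2, Nat.xor (Nat.xor (Nat.xor c d) 0) d = c := by decide
  rw [Mdl.mulN]
  rw [f1, f2, f3, f4, f5, k1, k2, k3, k4, k5, (h0 _ hv).1, (h0 _ hv).2.1, (h0 _ hp).2.2, e6, e7,
    hc', h1 _ hcb _ (Mdl.dot_lt _ _)]
  exact Mdl.eq_mk a

include hb in
theorem main : ∃ v : Fin 5 → ZMod 2, v ≠ 0 ∧
    Nonempty (G ≃* MulAction.stabilizer (Matrix.SpecialLinearGroup (Fin 5) (ZMod 2)) v) := by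
  have := axis_normal hb
  exact iso_stabilizer (axis F) (Subgroup.centralizer ({t} : Set G)) (compl F) (card_axis F)
    (axis_sq F) (fun _ hg => axis_self_centralising hg) (card_group hb) F.card_cent
    (fun x hx => Subgroup.mem_centralizer_singleton_iff.2
      (Frame.comm_of_sq (axis_sq F) hx (t_mem F)))
    (compl_le F) inf_compl fun _ hc => split hc

end

end AxisEnd

/-- If exactly one axis consists of conjugates of `t`, the group is the stabiliser of a nonzero vector
in `SL(5, 2)`. -/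
theorem stabilizer_of_axis {G : Type*} [Group G] [Finite G] {t : G} (F : Frame t)
    (h : IsPat F patV ∨ IsPat F patP) : ∃ v : Fin 5 → ZMod 2, v ≠ 0 ∧
      Nonempty (G ≃* MulAction.stabilizer (Matrix.SpecialLinearGroup (Fin 5) (ZMod 2)) v) := by
  rcases h with h | h
  · have h' := h.mirror Mdl.one Mdl.mem_one
    rw [(mirPat_vals false false).1] at h'
    exact AxisEnd.main h'
  · exact AxisEnd.main h

end CfsgLib.Trichotomy
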