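import Cfsg.Agent.Trichotomy.BranchHe
import Cfsg.Agent.Trichotomy.AxisEnd
import Cfsg.Agent.Trichotomy.PatternMirror

/-!
# The four groups, given the linear branch
-/

set_option autoImplicit false
set_option linter.unusedSectionVars false
set_option maxRecDepth 100000

namespace CfsgLib.Trichotomy

open CfsgLib.HeldUniq

variable {G : Type*} [Group G] [Finite G] {t : G}

/-- The four groups, when both axes without further fusion give the linear group. -/
theorem main_of_lin (F : Frame t)
    (hlin : IsPat F (patBoth false false) → Nonempty (G ≃* Matrix.SpecialLinearGroup (Fin 5) (ZMod 2)))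
    (h : ¬ IsPat F patNone) :
    (∃ v : Fin 5 → ZMod 2, v ≠ 0 ∧
        Nonempty (G ≃* MulAction.stabilizer (Matrix.SpecialLinearGroup (Fin 5) (ZMod 2)) v)) ∨
      Nonempty (G ≃* Matrix.SpecialLinearGroup (Fin 5) (ZMod 2)) ∨ Nonempty (G ≃* Cfsg.M24) ∨
      Cfsg.Spor.IsoHe G := by
  obtain ⟨d0, d3, hp | hp | hp | hp⟩ := patOf_cases F
  · exact absurd hp h
  · exact Or.inl (stabilizer_of_axis F (Or.inl hp))
  · exact Or.inl (stabilizer_of_axis F (Or.inr hp))
  cases d0 with
  | true =>
    rcases he_or_m24 F hp with ⟨-, e⟩ | ⟨-, e⟩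
    exacts [Or.inr (Or.inr (Or.inr e)), Or.inr (Or.inr (Or.inl e))]
  | false =>
    cases d3 with
    | false => exact Or.inr (Or.inl (hlin hp))
    | true =>
      have hm : IsPat (F.mirror Mdl.one Mdl.mem_one) (patBoth true false) := by
        have := hp.mirror Mdl.one Mdl.mem_one
        rwa [(mirPat_vals false true).2.2.2] at this
      rcases he_or_m24 (F.mirror Mdl.one Mdl.mem_one) hm with ⟨-, e⟩ | ⟨-, e⟩
      exacts [Or.inr (Or.inr (Or.inr e)), Or.inr (Or.inr (Or.inl e))]

end CfsgLib.Trichotomy
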