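import Cfsg.Agent.Trichotomy.GenData
import Cfsg.Agent.HeldUniq.FusionBasic
import Cfsg.Agent.HeldAmal.Step

/-!
# The six codes generate the centraliser
-/

set_option autoImplicit false
set_option linter.unusedSectionVars false
set_option maxRecDepth 100000

namespace CfsgLib.Trichotomy

open CfsgLib.HeldUniq
open CfsgLib.HeldAmal (codes chk ev_prodN)

theorem genTab_ok : (genTab.all fun x =>
    (x.2.all fun l => Nat.blt l 6) && chk (x.2.map fun l => codes.getD l 0) &&
      Nat.beq (Mdl.prodN (x.2.map fun l => codes.getD l 0)) x.1) = true := by decide +kernel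

theorem genTab_cover : (((List.range 8).all fun v => (genTab.map Prod.fst).contains (Mdl.mk v 0 0 Mdl.mone Mdl.mone)) &&
    ((List.range 8).all fun p => (genTab.map Prod.fst).contains (Mdl.mk 0 p 0 Mdl.mone Mdl.mone)) &&
    ((List.range 2).all fun c => (genTab.map Prod.fst).contains (Mdl.mk 0 0 c Mdl.mone Mdl.mone)) &&
    Mdl.slPairs.all fun x => (genTab.map Prod.fst).contains (Mdl.atPair x 0)) = true := by decide +kernel

variable {G : Type*} [Group G] {t : G} (F : Frame t)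

theorem cent_le_of_codes {H : Subgroup G} (h : ∀ a ∈ codes, F.ev a ∈ H) :
    Subgroup.centralizer ({t} : Set G) ≤ H := by
  intro g hg
  obtain ⟨a, ha, rfl⟩ := (F.mem_iff g).1 hg
  have base : ∀ b ∈ genTab.map Prod.fst, Mdl.mem b = true ∧ F.ev b ∈ H := by
    intro b hb
    obtain ⟨x, hx, rfl⟩ := List.mem_map.1 hb
    have hk := List.all_eq_true.1 genTab_ok x hx
    simp only [Bool.and_eq_true, List.all_eq_true, Nat.blt_eq, Nat.beq_eq] at hk
    obtain ⟨hm, he⟩ := ev_prodN F _ hk.1.2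
    rw [← hk.2]
    refine ⟨hm, he ▸ list_prod_mem ?_⟩
    intro y hy
    obtain ⟨c, hc, rfl⟩ := List.mem_map.1 hy
    obtain ⟨l, hl, rfl⟩ := List.mem_map.1 hc
    refine h _ ?_
    have hlt : l < codes.length := hk.1.1 l hl
    rw [List.getD_eq_getElem _ _ hlt]
    exact List.getElem_mem hlt
  obtain ⟨e1, e2⟩ := Mdl.split_code ha
  obtain ⟨hv, hp, hc, -⟩ := Mdl.fields_lt a
  have hc' := genTab_cover
  simp only [Bool.and_eq_true, List.all_eq_true, List.mem_range, List.contains_iff_mem] at hc'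
  obtain ⟨m0, i0⟩ := base _ (hc'.1.1.1 _ hv)
  obtain ⟨m1, i1⟩ := base _ (hc'.1.1.2 _ hp)
  obtain ⟨m2, i2⟩ := base _ (hc'.1.2 _ hc)
  obtain ⟨mg, ig⟩ := base _ (hc'.2 _ ((Mdl.mem_iff_pair a).1 ha))
  rw [e1, e2, F.map_mul _ _ (Mdl.mem_mulN m0 (Mdl.mem_mulN m1 m2)) mg,
    F.map_mul _ _ m0 (Mdl.mem_mulN m1 m2), F.map_mul _ _ m1 m2]
  exact mul_mem (mul_mem i0 (mul_mem i1 i2)) ig

end CfsgLib.Trichotomy
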