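import Cfsg.Agent.Trichotomy.Pattern
import Cfsg.Agent.Invol.Isolated

/-!
# A subgroup containing the centraliser of `t` and with the fusion of the pattern is everything

The centraliser of a representative of the other class is inside the subgroup: this is a finite
recursion over the centraliser of `t`, along elementary subgroups free of conjugates of `t`.
-/

set_option autoImplicit false
set_option linter.unusedSectionVars false
set_option maxRecDepth 100000

namespace CfsgLib.Trichotomy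

open CfsgLib.HeldUniq

/-- The involutions of the model commuting with every member of a list. -/
def invCent (U : List Nat) : List Nat :=
  (invTab.map Prod.fst).filter fun a => U.all fun v => Mdl.commN a v

/-- The classes of the translates of an element. -/
def transl (b : List Bool) (U : List Nat) (e : Nat) : List Bool :=
  U.map fun v => isT b (Mdl.mulN e v)

/-- A count for telling apart two elements with the same translates. -/
def nearCount (b : List Bool) (K : List Nat) (e v : Nat) : Nat :=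
  (K.filter fun f => isT b f && isT b (Mdl.mulN e f) && !isT b (Mdl.mulN f v)).length

/-- The certificate that the centraliser of a list lies in the subgroup. -/
def closedB (b : List Bool) : Nat → List Nat → Bool
  | 0, _ => false
  | k + 1, U =>
    let K := invCent U
    let pt := transl b U Mdl.tN
    ((K.any fun e => isT b e && (transl b U e != pt) && U.all fun c =>
        !isT b (Mdl.mulN Mdl.tN c) ||
          ((transl b U e != transl b U (Mdl.mulN Mdl.tN c)) &&
            ((transl b U (Mdl.mulN Mdl.tN c) != pt) || U.any fun v =>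
              !Nat.beq (nearCount b K (Mdl.mulN Mdl.tN c) v) (nearCount b K Mdl.tN v)))) &&
      (K.all fun c => U.contains c || isT b c || !isT b (Mdl.mulN Mdl.tN c) ||
          (U.any fun v => isT b (Mdl.mulN c v)) ||
          closedB b k (U ++ c :: U.map (Mdl.mulN c)))) &&
      U.all fun v => Mdl.mem v && Nat.beq (Mdl.mulN v v) Mdl.one && !Nat.beq v Mdl.one

section

variable {G : Type*} [Group G] {t : G}

theorem commute_closure {x y u d : G} (hx : Commute x u) (hy : Commute y u)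
    (hd : d ∈ Subgroup.closure ({x, y} : Set G)) : Commute d u := by
  have h : Subgroup.closure ({x, y} : Set G) ≤ Subgroup.centralizer ({u} : Set G) := by
    rw [Subgroup.closure_le]
    rintro z (rfl | rfl)
    · exact Subgroup.mem_centralizer_singleton_iff.2 hx.eq
    · exact Subgroup.mem_centralizer_singleton_iff.2 hy.eq
  exact Subgroup.mem_centralizer_singleton_iff.1 (h hd)

theorem half_conj_pair [Finite G] {x y : G} (hx : orderOf x = 2) (hy : orderOf y = 2)
    (heven : Even (orderOf (x * y))) :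
    ∃ d ∈ Subgroup.closure ({x, y} : Set G),
      d * x * d⁻¹ = x * (x * y) ^ (orderOf (x * y) / 2) ∨
      d * y * d⁻¹ = x * (x * y) ^ (orderOf (x * y) / 2) := by
  set L := Subgroup.closure ({x, y} : Set G) with hL
  let x' : L := ⟨x, Subgroup.subset_closure (by simp)⟩
  let y' : L := ⟨y, Subgroup.subset_closure (by simp)⟩
  have ho : orderOf (x' * y') = orderOf (x * y) := (Subgroup.orderOf_coe (x' * y')).symm
  rcases Invol.mul_half_isConj (x := x') (y := y') ((Subgroup.orderOf_coe x').symm.trans hx)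
      ((Subgroup.orderOf_coe y').symm.trans hy) (ho ▸ heven) with h | h <;>
    obtain ⟨d, hd⟩ := isConj_iff.1 h <;>
    refine ⟨d, d.2, ?_⟩ <;>
    have e := congrArg Subtype.val hd <;>
    simp only [Subgroup.coe_mul, Subgroup.coe_inv, SubgroupClass.coe_pow, ho] at e
  · exact Or.inl e
  · exact Or.inr e

variable (F : Frame t)

/-- The fusion of the pattern happens inside `H`. -/
structure FusesIn (b : List Bool) (H : Subgroup G) : Prop where
  le : Subgroup.centralizer ({t} : Set G) ≤ H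
  pat : IsPat F b
  yes : ∀ k < 8, b.getD k false = true → ∃ h ∈ H, h * t * h⁻¹ = F.ev (repOf k)
  no : ∀ k < 8, b.getD k false = false →
    ∃ h ∈ H, h * F.ev (repOf 3) * h⁻¹ = F.ev (repOf k)

namespace FusesIn

variable [Finite G] {F} {b : List Bool} {H : Subgroup G} (P : FusesIn F b H)

include P

theorem memt : t ∈ H := P.le (Subgroup.mem_centralizer_singleton_iff.2 rfl)

theorem ev_mem {a : Nat} (ha : Mdl.mem a = true) : F.ev a ∈ H :=
  P.le (Subgroup.mem_centralizer_singleton_iff.2 (F.mem_cent ha))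

/-- Every involution of `H` is conjugate in `H` to a code. -/
theorem exists_code_conj {x : G} (hx : x ∈ H) (ho : x * x = 1) :
    ∃ h ∈ H, ∃ a, Mdl.mem a = true ∧ Mdl.mulN a a = Mdl.one ∧ h * x * h⁻¹ = F.ev a := by
  haveI : Fact (Nat.Prime 2) := ⟨Nat.prime_two⟩
  have hS : F.syl ≤ H := F.syl_le.trans P.le
  have hp : IsPGroup 2 (Subgroup.zpowers (⟨x, hx⟩ : H)) := by
    refine IsPGroup.of_card_dvd_pow (n := 1) ?_
    rw [Nat.card_zpowers, pow_one]
    refine orderOf_dvd_of_pow_eq_one (Subtype.ext ?_)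
    rw [pow_two]; exact ho
  obtain ⟨Q, hQ⟩ := hp.exists_le_sylow
  obtain ⟨h, e⟩ := MulAction.exists_smul_eq H Q
    (F.sylowGen.subtype (show (F.sylowGen : Subgroup G) ≤ H from F.coe_sylowGen.symm ▸ hS))
  have hm : h * (⟨x, hx⟩ : H) * h⁻¹ ∈
      (F.sylowGen.subtype (show (F.sylowGen : Subgroup G) ≤ H from F.coe_sylowGen.symm ▸ hS) :
        Subgroup H) := by
    rw [← e, Sylow.coe_subgroup_smul]
    exact Subgroup.smul_mem_pointwise_smul (⟨x, hx⟩ : H) (MulAut.conj h) _
      (hQ (Subgroup.mem_zpowers _))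
  have hm' : (h : G) * x * (h : G)⁻¹ ∈ F.syl := by
    rw [← F.coe_sylowGen]; exact hm
  obtain ⟨a, ha, ea⟩ := hm'
  have hm := Frame.mem_of_pair Mdl.u_ok ha
  refine ⟨h, h.2, a, hm, (F.eq_one_iff (Mdl.mem_mulN hm hm)).1 ?_, ea.symm⟩
  rw [F.map_mul _ _ hm hm, ea]
  calc (h : G) * x * (h : G)⁻¹ * ((h : G) * x * (h : G)⁻¹) = (h : G) * (x * x) * (h : G)⁻¹ := by group
    _ = 1 := by rw [ho]; group

/-- Every involution of `H` is conjugate in `H` to `t` or is outside its class, conjugate in `H`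
to the representative of the other class. -/
theorem classes {x : G} (hx : x ∈ H) (ho : x * x = 1) (h1 : x ≠ 1) :
    (∃ h ∈ H, h * t * h⁻¹ = x) ∨
      (¬ IsConj t x ∧ ∃ h ∈ H, h * F.ev (repOf 3) * h⁻¹ = x) := by
  obtain ⟨h, hh, a, ha, hsq, e⟩ := P.exists_code_conj hx ho
  have hne : a ≠ Mdl.one := fun e' => h1 (by
    rw [e', F.ev_one] at e; exact conj_eq_one_iff.1 e)
  obtain ⟨hk, n, hn, en⟩ := exists_conj_rep F ha hsq hne
  have back : ∀ z k : G, k * z * k⁻¹ = F.ev (repOf (kind a)) →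
      (h⁻¹ * (F.ev n * k)) * z * (h⁻¹ * (F.ev n * k))⁻¹ = x := fun z k hk' => by
    calc (h⁻¹ * (F.ev n * k)) * z * (h⁻¹ * (F.ev n * k))⁻¹
        = h⁻¹ * (F.ev n * (k * z * k⁻¹) * (F.ev n)⁻¹) * h := by group
      _ = x := by rw [hk', en, ← e]; group
  cases hb : b.getD (kind a) false with
  | true =>
    obtain ⟨k, hkH, hk'⟩ := P.yes _ hk hb
    exact Or.inl ⟨_, mul_mem (inv_mem hh) (mul_mem (P.ev_mem hn) hkH), back _ _ hk'⟩
  | false =>
    obtain ⟨k, hkH, hk'⟩ := P.no _ hk hb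
    refine Or.inr ⟨fun hc => ?_, _, mul_mem (inv_mem hh) (mul_mem (P.ev_mem hn) hkH), back _ _ hk'⟩
    have h2 : IsConj t (F.ev (repOf (kind a))) := (hc.trans (isConj_iff.2 ⟨h, e⟩)).trans
      (isConj_iff.2 ⟨_, en⟩).symm
    rw [(P.pat _ hk).1 h2] at hb
    exact Bool.noConfusion hb

/-- `H` controls the fusion of `t`. -/
theorem mem_of_conj {g : G} (hg : g * t * g⁻¹ ∈ H) : g ∈ H := by
  rcases P.classes hg (by
      calc g * t * g⁻¹ * (g * t * g⁻¹) = g * (t * t) * g⁻¹ := by group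
        _ = 1 := by rw [F.t_mul_t]; group) (fun e => F.t_ne_one (conj_eq_one_iff.1 e)) with
    ⟨h, hh, e⟩ | ⟨hn, -⟩
  · have hc : (h⁻¹ * g) * t = t * (h⁻¹ * g) := by
      refine mul_inv_eq_iff_eq_mul.1 ?_
      calc (h⁻¹ * g) * t * (h⁻¹ * g)⁻¹ = h⁻¹ * (g * t * g⁻¹) * h := by group
        _ = t := by rw [← e]; group
    simpa using mul_mem hh (P.le (Subgroup.mem_centralizer_singleton_iff.2 hc))
  · exact absurd (isConj_iff.2 ⟨g, rfl⟩) hn

/-- Centralisers of conjugates of `t` in `H` lie in `H`. -/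
theorem mem_of_commute {x y : G} (hx : x ∈ H) (hc : IsConj t x) (h : Commute y x) : y ∈ H := by
  obtain ⟨g, rfl⟩ := isConj_iff.1 hc
  have hg := P.mem_of_conj hx
  have h1 : g⁻¹ * y * g ∈ H := P.le (Subgroup.mem_centralizer_singleton_iff.2 (by
    calc (g⁻¹ * y * g) * t = g⁻¹ * (y * (g * t * g⁻¹)) * g := by group
      _ = g⁻¹ * ((g * t * g⁻¹) * y) * g := by rw [h.eq]
      _ = t * (g⁻¹ * y * g) := by group))
  simpa [mul_assoc] using mul_mem (mul_mem hg h1) (inv_mem hg)

theorem transl_eq_of_conj {U : List Nat} (hU : ∀ v ∈ U, Mdl.mem v = true) {a a' : Nat}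
    (ha : Mdl.mem a = true) (ha' : Mdl.mem a' = true) {k : G}
    (hk : ∀ v ∈ U, Commute k (F.ev v)) (he : k * F.ev a * k⁻¹ = F.ev a') :
    transl b U a = transl b U a' := by
  refine List.map_congr_left fun v hv => Bool.eq_iff_iff.2 ?_
  rw [isT_iff F P.pat (Mdl.mem_mulN ha (hU v hv)), isT_iff F P.pat (Mdl.mem_mulN ha' (hU v hv)),
    F.map_mul _ _ ha (hU v hv), F.map_mul _ _ ha' (hU v hv)]
  have e : k * (F.ev a * F.ev v) * k⁻¹ = F.ev a' * F.ev v := by
    calc k * (F.ev a * F.ev v) * k⁻¹ = k * F.ev a * k⁻¹ * (k * F.ev v * k⁻¹) := by group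
      _ = _ := by rw [he, (hk v hv).eq, mul_inv_cancel_right]
  exact ⟨fun h => h.trans (isConj_iff.2 ⟨k, e⟩), fun h => h.trans (isConj_iff.2 ⟨k, e⟩).symm⟩

theorem mem_invCent {U : List Nat} (hU : ∀ v ∈ U, Mdl.mem v = true) {a : Nat}
    (ha : Mdl.mem a = true) (hsq : Mdl.mulN a a = Mdl.one) (hne : a ≠ Mdl.one)
    (hc : ∀ v ∈ U, Commute (F.ev a) (F.ev v)) : a ∈ invCent U := by
  refine List.mem_filter.2 ⟨?_, List.all_eq_true.2 fun v hv => (F.commN_iff ha (hU v hv)).2 (hc v hv).eq⟩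
  have h1 := List.all_eq_true.1 invTab_complete a (sq_code_mem ha hsq)
  rw [Bool.or_eq_true, List.contains_iff_mem, Nat.beq_eq] at h1
  exact h1.resolve_left hne

theorem invCent_facts {U : List Nat} (hU : ∀ v ∈ U, Mdl.mem v = true) {a : Nat}
    (h : a ∈ invCent U) : Mdl.mem a = true ∧ ∀ v ∈ U, Commute (F.ev a) (F.ev v) := by
  obtain ⟨h1, h2⟩ := List.mem_filter.1 h
  obtain ⟨x, hx, rfl⟩ := List.mem_map.1 h1
  have h3 := List.all_eq_true.1 invTab_ok x hx
  simp only [Bool.and_eq_true, Nat.beq_eq] at h3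
  exact ⟨h3.1.1, fun v hv => (F.commN_iff h3.1.1 (hU v hv)).1 (List.all_eq_true.1 h2 v hv)⟩

theorem nearCount_eq {U : List Nat} (hU : ∀ v ∈ U, Mdl.mem v = true) {c v : Nat} (hc : c ∈ U)
    (hv : v ∈ U) {k : G} (hk : ∀ v ∈ U, Commute k (F.ev v))
    (he : k * t * k⁻¹ = F.ev (Mdl.mulN Mdl.tN c)) :
    nearCount b (invCent U) (Mdl.mulN Mdl.tN c) v = nearCount b (invCent U) Mdl.tN v := by
  have hnd : (invCent U).Nodup := List.Nodup.filter _ (by
    have : (invTab.map Prod.fst).Nodup := by decide +kernel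
    exact this)
  let S : G → Set G := fun e => {f | Commute f t ∧ (∀ v ∈ U, Commute f (F.ev v)) ∧ IsConj t f ∧
    IsConj t (e * f) ∧ ¬ IsConj t (f * F.ev v)}
  have hcard : ∀ e, Mdl.mem e = true →
      Nat.card (S (F.ev e)) = nearCount b (invCent U) e v := by
    intro e hem
    refine F.card_of_codes _ (hnd.filter _)
      (fun a ha => (invCent_facts P hU (List.mem_filter.1 ha).1).1) fun f => ⟨?_, ?_⟩
    · rintro ⟨hft, hfU, h1, h2, h3⟩
      obtain ⟨a, ha, rfl⟩ := F.exists_code hft.eq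
      have hT := (isT_iff F P.pat ha).2 h1
      have hsq : Mdl.mulN a a = Mdl.one ∧ a ≠ Mdl.one := by
        simp only [isT, Bool.and_eq_true, Bool.not_eq_true', Nat.beq_eq] at hT
        exact ⟨hT.1.2, fun e' => by rw [e'] at hT; exact absurd hT.1.1 (by decide)⟩
      rw [← F.map_mul _ _ hem ha, ← isT_iff F P.pat (Mdl.mem_mulN hem ha)] at h2
      rw [← F.map_mul _ _ ha (hU v hv), ← isT_iff F P.pat (Mdl.mem_mulN ha (hU v hv)),
        Bool.not_eq_true] at h3
      refine ⟨a, List.mem_filter.2 ⟨mem_invCent P hU ha hsq.1 hsq.2 hfU, ?_⟩, rfl⟩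
      rw [hT, h2, h3]; rfl
    · rintro ⟨a, ha, rfl⟩
      obtain ⟨h0, h1⟩ := List.mem_filter.1 ha
      obtain ⟨ham, haU⟩ := invCent_facts P hU h0
      simp only [Bool.and_eq_true, Bool.not_eq_true'] at h1
      refine ⟨F.mem_cent ham, haU, (isT_iff F P.pat ham).1 h1.1.1, ?_, fun h => ?_⟩
      · rw [← F.map_mul _ _ hem ham]
        exact (isT_iff F P.pat (Mdl.mem_mulN hem ham)).1 h1.1.2
      · rw [← F.map_mul _ _ ham (hU v hv)] at h
        rw [(isT_iff F P.pat (Mdl.mem_mulN ham (hU v hv))).2 h] at h1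
        exact Bool.noConfusion h1.2
  have hm : Mdl.mem (Mdl.mulN Mdl.tN c) = true := Mdl.mem_mulN Mdl.mem_tN (hU c hc)
  rw [← hcard _ hm, ← hcard _ Mdl.mem_tN, F.ev_t]
  refine (Nat.card_congr ((MulAut.conj k).toEquiv.subtypeEquiv fun f => ?_)).symm
  have hcc : ∀ x y, (Commute x y ↔ Commute (k * x * k⁻¹) (k * y * k⁻¹)) := fun x y =>
    (Commute.conj_iff k).symm
  have hkv : ∀ v ∈ U, k * F.ev v * k⁻¹ = F.ev v := fun v hv => by
    rw [(hk v hv).eq, mul_inv_cancel_right]
  have hconj : ∀ x, (IsConj t x ↔ IsConj t (k * x * k⁻¹)) := fun x =>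
    ⟨fun h => h.trans (isConj_iff.2 ⟨k, rfl⟩), fun h => h.trans (isConj_iff.2 ⟨k, rfl⟩).symm⟩
  show (Commute f t ∧ (∀ v ∈ U, Commute f (F.ev v)) ∧ IsConj t f ∧ IsConj t (t * f) ∧
      ¬ IsConj t (f * F.ev v)) ↔
    (Commute (k * f * k⁻¹) t ∧ (∀ v ∈ U, Commute (k * f * k⁻¹) (F.ev v)) ∧ IsConj t (k * f * k⁻¹) ∧
      IsConj t (F.ev (Mdl.mulN Mdl.tN c) * (k * f * k⁻¹)) ∧
      ¬ IsConj t (k * f * k⁻¹ * F.ev v))
  have e1 : F.ev (Mdl.mulN Mdl.tN c) = t * F.ev c := by
    rw [F.map_mul _ _ Mdl.mem_tN (hU c hc), F.ev_t]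
  have hUk : (∀ v ∈ U, Commute f (F.ev v)) ↔ ∀ v ∈ U, Commute (k * f * k⁻¹) (F.ev v) :=
    forall₂_congr fun v hv => by rw [hcc f (F.ev v), hkv v hv]
  have hct : (∀ v ∈ U, Commute f (F.ev v)) →
      (Commute f t ↔ Commute (k * f * k⁻¹) t) := by
    intro hf
    rw [hcc f t, he, e1]
    have hfc : Commute (k * f * k⁻¹) (F.ev c) := hUk.1 hf c hc
    refine ⟨fun h => ?_, fun h => h.mul_right hfc⟩
    have h' := h.mul_right hfc.inv_right
    rwa [mul_inv_cancel_right] at h'
  rw [show F.ev (Mdl.mulN Mdl.tN c) * (k * f * k⁻¹) = k * (t * f) * k⁻¹ by rw [← he]; group,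
    show k * f * k⁻¹ * F.ev v = k * (f * F.ev v) * k⁻¹ by
      conv_lhs => rw [← hkv v hv]
      group, ← hconj, ← hconj, ← hconj]
  constructor
  · rintro ⟨h1, h2, h3, h4, h5⟩
    exact ⟨(hct h2).1 h1, hUk.1 h2, h3, h4, h5⟩
  · rintro ⟨h1, h2, h3, h4, h5⟩
    exact ⟨(hct (hUk.2 h2)).2 h1, hUk.2 h2, h3, h4, h5⟩

/-- The certificate is sound. -/
theorem cent_le_of_closed : ∀ (fuel : Nat) (U : List Nat), closedB b fuel U = true →
    ∀ g : G, (∀ v ∈ U, Commute g (F.ev v)) → g ∈ H := by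
  intro fuel
  induction fuel with
  | zero => intro U h; exact Bool.noConfusion h
  | succ n ih =>
    intro U h g hg
    simp only [closedB, Bool.and_eq_true, List.any_eq_true, List.all_eq_true, bne_iff_ne,
      Bool.or_eq_true, Bool.not_eq_true', Nat.beq_eq, List.contains_iff_mem] at h
    obtain ⟨⟨⟨e, he, ⟨heT, hept⟩, hin⟩, hout⟩, hU0⟩ := h
    have hU : ∀ v ∈ U, Mdl.mem v = true := fun v hv => (hU0 v hv).1.1
    obtain ⟨hem, heU⟩ := P.invCent_facts hU he
    obtain ⟨k, hk⟩ := isConj_iff.1 ((isT_iff F P.pat hem).1 heT)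
    have hkH : k ∈ H := P.mem_of_conj (hk ▸ P.ev_mem hem)
    set x := g * F.ev e * g⁻¹ with hx
    have hgu : ∀ v ∈ U, g * F.ev v * g⁻¹ = F.ev v := fun v hv => by
      rw [(hg v hv).eq, mul_inv_cancel_right]
    have hxU : ∀ v ∈ U, Commute x (F.ev v) := fun v hv => by
      rw [← hgu v hv]; exact (Commute.conj_iff g).2 (heU v hv)
    suffices hxH : x ∈ H by
      have : g * k ∈ H := P.mem_of_conj (by
        rwa [show g * k * t * (g * k)⁻¹ = g * (k * t * k⁻¹) * g⁻¹ by group, hk])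
      simpa [mul_assoc] using mul_mem this (inv_mem hkH)
    by_contra hxH
    have hxt : IsConj t x := ((isT_iff F P.pat hem).1 heT).trans (isConj_iff.2 ⟨g, rfl⟩)
    have ox : orderOf x = 2 := by
      obtain ⟨l, hl⟩ := isConj_iff.1 hxt
      rw [← hl, Invol.orderOf_conj_eq]; exact F.orderOf_t
    have htU : ∀ v ∈ U, Commute t (F.ev v) := fun v hv => (F.mem_cent (hU v hv)).symm
    -- an element of the centraliser of the list carrying `t` or `t c` to `x` keeps the translates
    have hsame : ∀ (a : Nat) (d : G), Mdl.mem a = true → (∀ v ∈ U, Commute d (F.ev v)) →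
        d * F.ev a * d⁻¹ = x → transl b U e = transl b U a := by
      intro a d ha hd hdx
      refine (P.transl_eq_of_conj hU ha hem (k := g⁻¹ * d)
        (fun v hv => (hg v hv).inv_left.mul_left (hd v hv)) ?_).symm
      rw [show g⁻¹ * d * F.ev a * (g⁻¹ * d)⁻¹ = g⁻¹ * (d * F.ev a * d⁻¹) * g by group, hdx, hx]
      group
    rcases Nat.even_or_odd (orderOf (t * x)) with hev | hodd
    swap
    · obtain ⟨d, hd, hdx⟩ := Invol.exists_conj_of_odd F.orderOf_t ox hodd
      exact hept (hsame Mdl.tN d Mdl.mem_tN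
        (fun v hv => commute_closure (htU v hv) (hxU v hv) hd) (by rw [F.ev_t]; exact hdx))
    obtain ⟨oc, hct, hcx⟩ := Invol.half_props F.orderOf_t ox hev
    set c := (t * x) ^ (orderOf (t * x) / 2) with hc
    obtain ⟨a, ha, hac⟩ := F.exists_code hct.eq
    have hasq : Mdl.mulN a a = Mdl.one := (F.eq_one_iff (Mdl.mem_mulN ha ha)).1 (by
      rw [F.map_mul _ _ ha ha, hac, Invol.mul_self_eq_one oc])
    have hane : a ≠ Mdl.one := fun e' => Invol.ne_one oc (by rw [← hac, e', F.ev_one])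
    have hcU : ∀ v ∈ U, Commute c (F.ev v) := fun v hv =>
      ((htU v hv).mul_left (hxU v hv)).pow_left _
    have haK : a ∈ invCent U := P.mem_invCent hU ha hasq hane fun v hv => hac ▸ hcU v hv
    have hout_of : ∀ y : Nat, Mdl.mem y = true → isT b y = true → Commute x (F.ev y) → False :=
      fun y hy hyT hxy => hxH (P.mem_of_commute (P.ev_mem hy) ((isT_iff F P.pat hy).1 hyT) hxy)
    have hxc : Commute x (F.ev a) := hac.symm ▸ hcx.symm
    have htcm : Mdl.mem (Mdl.mulN Mdl.tN a) = true := Mdl.mem_mulN Mdl.mem_tN ha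
    have htc : F.ev (Mdl.mulN Mdl.tN a) = t * c := by
      rw [F.map_mul _ _ Mdl.mem_tN ha, F.ev_t, hac]
    obtain ⟨d, hd, hdd⟩ := half_conj_pair F.orderOf_t ox hev
    rw [← hc, ← htc] at hdd
    have hdU : ∀ v ∈ U, Commute d (F.ev v) := fun v hv =>
      commute_closure (htU v hv) (hxU v hv) hd
    have htcT : isT b (Mdl.mulN Mdl.tN a) = true := (isT_iff F P.pat htcm).2 (by
      rcases hdd with h | h
      · exact isConj_iff.2 ⟨d, h⟩
      · exact hxt.trans (isConj_iff.2 ⟨d, h⟩))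
    rcases hout a haK with (((haU | haT) | hno) | ⟨v, hv, hvT⟩) | hrec
    · rcases hin a haU with h | ⟨hne1, h2⟩
      · rw [htcT] at h; exact Bool.noConfusion h
      rcases hdd with h | h
      · rcases h2 with h2 | ⟨v, hv, h2⟩
        · exact h2 (P.transl_eq_of_conj hU Mdl.mem_tN htcm hdU (by rw [F.ev_t]; exact h)).symm
        · rw [Mdl.beq_of_eq (P.nearCount_eq hU haU hv hdU h)] at h2
          exact Bool.noConfusion h2
      · refine hne1 (hsame (Mdl.mulN Mdl.tN a) d⁻¹ htcm (fun v hv => (hdU v hv).inv_left) ?_)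
        rw [← h]; group
    · exact hout_of a ha haT hxc
    · rw [htcT] at hno; exact Bool.noConfusion hno
    · exact hout_of (Mdl.mulN a v) (Mdl.mem_mulN ha (hU v hv)) hvT (by
        rw [F.map_mul _ _ ha (hU v hv)]
        exact hxc.mul_right (hxU v hv))
    · refine hxH (ih _ hrec x fun v hv => ?_)
      rcases List.mem_append.1 hv with hv | hv
      · exact hxU v hv
      rcases List.mem_cons.1 hv with rfl | hv
      · exact hxc
      obtain ⟨w, hw, rfl⟩ := List.mem_map.1 hv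
      rw [F.map_mul _ _ ha (hU w hw)]
      exact hxc.mul_right (hxU w hw)

/-- A subgroup with the fusion of the pattern is everything, given the certificate for one
representative of the other class. -/
theorem eq_top {r : Nat} (hr : Mdl.mem r = true) (hr2 : Mdl.mulN r r = Mdl.one)
    (hrne : r ≠ Mdl.one) (hrT : isT b r = false) {fuel : Nat}
    (hcl : closedB b fuel [r] = true) : H = ⊤ := by
  set u := F.ev r with hu
  have huH : u ∈ H := P.ev_mem hr
  have hu2 : u * u = 1 := by rw [hu, ← F.map_mul _ _ hr hr, hr2, F.ev_one]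
  have hu1 : u ≠ 1 := fun e => hrne ((F.eq_one_iff hr).1 e)
  have htu : ¬ IsConj t u := fun h => by
    rw [(isT_iff F P.pat hr).2 h] at hrT; exact Bool.noConfusion hrT
  have hcu : ∀ g : G, Commute g u → g ∈ H := fun g hg =>
    P.cent_le_of_closed fuel [r] hcl g fun v hv => by rw [List.mem_singleton.1 hv]; exact hg
  obtain ⟨-, k, hk, ek⟩ := (P.classes huH hu2 hu1).resolve_left fun ⟨h, _, e⟩ =>
    htu (isConj_iff.2 ⟨h, e⟩)
  have hclass : ∀ x ∈ H, x * x = 1 → x ≠ 1 → ¬ IsConj t x → ∃ h ∈ H, h * u * h⁻¹ = x := by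
    intro x hx h2 h1 hn
    obtain ⟨-, l, hl, el⟩ := (P.classes hx h2 h1).resolve_left fun ⟨h, _, e⟩ =>
      hn (isConj_iff.2 ⟨h, e⟩)
    refine ⟨l * k⁻¹, mul_mem hl (inv_mem hk), ?_⟩
    rw [← ek, ← el]; group
  have hall : ∀ g : G, g * u * g⁻¹ ∈ H := by
    intro g
    set x := g * u * g⁻¹ with hx
    have ou : orderOf u = 2 := Invol.orderOf_eq_two hu2 hu1
    have ox : orderOf x = 2 := by rw [hx, Invol.orderOf_conj_eq, ou]
    have hux : IsConj u x := isConj_iff.2 ⟨g, rfl⟩
    obtain ⟨oc, hct, hcx⟩ := Invol.half_props F.orderOf_t ox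
      (Invol.even_orderOf_mul_of_not_isConj F.orderOf_t ox fun h => htu (h.trans hux.symm))
    set c := (t * x) ^ (orderOf (t * x) / 2)
    have hcH : c ∈ H := P.le (Subgroup.mem_centralizer_singleton_iff.2 hct.eq)
    by_cases hT : IsConj t c
    · exact P.mem_of_commute hcH hT hcx.symm
    obtain ⟨h, hh, e⟩ := hclass c hcH (Invol.mul_self_eq_one oc) (Invol.ne_one oc) hT
    have h1 : h⁻¹ * x * h ∈ H := hcu _ (by
      have h0 := (Commute.conj_iff h⁻¹).2 hcx.symm
      rw [inv_inv] at h0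
      rwa [← e, show h⁻¹ * (h * u * h⁻¹) * h = u by group] at h0)
    simpa [mul_assoc] using mul_mem (mul_mem hh h1) (inv_mem hh)
  refine eq_top_iff.2 fun g _ => ?_
  obtain ⟨h, hh, e⟩ := hclass _ (hall g)
    (by calc g * u * g⁻¹ * (g * u * g⁻¹) = g * (u * u) * g⁻¹ := by group
          _ = 1 := by rw [hu2]; group)
    (fun e => hu1 (conj_eq_one_iff.1 e))
    (fun hc => htu (hc.trans (isConj_iff.2 ⟨g, rfl⟩).symm))
  have h1 : h⁻¹ * g ∈ H := hcu _ (mul_inv_eq_iff_eq_mul.1 (by
    calc h⁻¹ * g * u * (h⁻¹ * g)⁻¹ = h⁻¹ * (g * u * g⁻¹) * h := by group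
      _ = u := by rw [← e]; group))
  simpa using mul_mem hh h1

end FusesIn

end

theorem closed_patL5 : closedB (patBoth false false) 4 [5515792] = true := by decide +kernel

theorem closed_patM24 : closedB (patBoth true false) 4 [5515778] = true := by decide +kernel

end CfsgLib.Trichotomy
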