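import Cfsg.Agent.Trichotomy.CaseAct
import Cfsg.Agent.Trichotomy.CentGen
import Cfsg.Agent.Trichotomy.EndGameFin

/-!
# Fusion of the classes inside a subgroup, from the action of an involution
-/

set_option autoImplicit false
set_option linter.unusedSectionVars false
set_option maxRecDepth 100000

namespace CfsgLib.Trichotomy

open CfsgLib.HeldUniq

variable {G : Type*} [Group G] {t : G} {F : Frame t}

/-- Two classes are fused inside a subgroup. -/
def Fused (F : Frame t) (H : Subgroup G) (k k' : Nat) : Prop :=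
  ∃ h ∈ H, h * F.ev (repOf k) * h⁻¹ = F.ev (repOf k')

theorem Fused.refl {H : Subgroup G} (k : Nat) : Fused F H k k := ⟨1, one_mem _, by group⟩

theorem Fused.symm {H : Subgroup G} {k k' : Nat} (h : Fused F H k k') : Fused F H k' k := by
  obtain ⟨x, hx, e⟩ := h
  exact ⟨x⁻¹, inv_mem hx, by rw [← e]; group⟩

theorem Fused.trans {H : Subgroup G} {k k' k'' : Nat} (h : Fused F H k k') (h' : Fused F H k' k'') :
    Fused F H k k'' := by
  obtain ⟨x, hx, e⟩ := h
  obtain ⟨y, hy, e'⟩ := h'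
  exact ⟨y * x, mul_mem hy hx, by rw [← e', ← e]; group⟩

/-- The kinds of an element of the two-point centraliser and of its image. -/
def edgeOk (im : List Nat) (w : List Nat) (k k' : Nat) : Bool :=
  let a := Mdl.evalW Mdl.dGens w
  let a' := Mdl.evalW im w
  (w.all fun i => Nat.blt i 3) && ((List.range 3).all fun i => Mdl.mem (im.getD i Mdl.one)) &&
    Nat.beq (Mdl.mulN a a) Mdl.one && !Nat.beq a Mdl.one &&
    Nat.beq (kind a) k && Nat.beq (kind a') k'

theorem fused_of_edge [Finite G] {H : Subgroup G} (hle : Subgroup.centralizer ({t} : Set G) ≤ H) {g : G}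
    (hg : g ∈ H) (sq : g * g = 1) {im : List Nat}
    (hact : ∀ i < 3, g * F.ev (HeldAmal.actFrom.getD i Mdl.one) * g = F.ev (im.getD i Mdl.one))
    {w : List Nat} {k k' : Nat} (h : edgeOk im w k k' = true) : Fused F H k k' := by
  simp only [edgeOk, Bool.and_eq_true, List.all_eq_true, Nat.blt_eq, List.mem_range, Nat.beq_eq,
    Bool.not_eq_true'] at h
  obtain ⟨⟨⟨⟨⟨hw, him⟩, hsq⟩, hne⟩, hk⟩, hk'⟩ := h
  have hi : g⁻¹ = g := inv_eq_of_mul_eq_one_right sq
  have he := F.conj_evalW (n := g) (b := im) (w := w) fun i hi' =>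
    ⟨him i (hw i hi'), by rw [hi, he_table.2]; exact hact i (hw i hi')⟩
  have ha : Mdl.mem (Mdl.evalW Mdl.dGens w) = true :=
    Frame.mem_evalW (fun i _ => (Frame.gens_facts i).1) hw
  have ha' : Mdl.mem (Mdl.evalW im w) = true := Frame.mem_evalW him hw
  have hne' : Mdl.evalW Mdl.dGens w ≠ Mdl.one := fun e => by
    rw [Mdl.beq_of_eq e] at hne; exact Bool.noConfusion hne
  have hsq' : Mdl.mulN (Mdl.evalW im w) (Mdl.evalW im w) = Mdl.one := by
    refine (F.eq_one_iff (Mdl.mem_mulN ha' ha')).1 ?_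
    rw [F.map_mul _ _ ha' ha', ← he]
    calc g * F.ev (Mdl.evalW Mdl.dGens w) * g⁻¹ * (g * F.ev (Mdl.evalW Mdl.dGens w) * g⁻¹)
        = g * (F.ev (Mdl.evalW Mdl.dGens w) * F.ev (Mdl.evalW Mdl.dGens w)) * g⁻¹ := by group
      _ = 1 := by rw [← F.map_mul _ _ ha ha, hsq, F.ev_one]; group
  have hne'' : Mdl.evalW im w ≠ Mdl.one := fun e => hne' ((F.eq_one_iff ha).1 (by
    rw [e, F.ev_one] at he; exact conj_eq_one_iff.1 he))
  obtain ⟨-, n, hn, en⟩ := exists_conj_rep F ha hsq hne'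
  obtain ⟨-, n', hn', en'⟩ := exists_conj_rep F ha' hsq' hne''
  rw [hk] at en
  rw [hk'] at en'
  have hc : ∀ m : Nat, Mdl.mem m = true → F.ev m ∈ H := fun m hm =>
    hle (Subgroup.mem_centralizer_singleton_iff.2 (F.mem_cent hm))
  refine ⟨(F.ev n')⁻¹ * g * F.ev n, mul_mem (mul_mem (inv_mem (hc _ hn')) hg) (hc _ hn), ?_⟩
  calc (F.ev n')⁻¹ * g * F.ev n * F.ev (repOf k) * ((F.ev n')⁻¹ * g * F.ev n)⁻¹
      = (F.ev n')⁻¹ * (g * (F.ev n * F.ev (repOf k) * (F.ev n)⁻¹) * g⁻¹) * F.ev n' := by group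
    _ = F.ev (repOf k') := by rw [en, he, ← en']; group

theorem repOf_zero : repOf 0 = Mdl.tN := rfl

/-- A fused pattern from classes fused to that of `t` and to the class `3`. -/
theorem fusesIn_of_fused {b : List Bool} {H : Subgroup G}
    (hle : Subgroup.centralizer ({t} : Set G) ≤ H) (hb : IsPat F b)
    (h : ∀ k < 8, Fused F H (if b.getD k false then 0 else 3) k) : FusesIn F b H where
  le := hle
  pat := hb
  yes k hk hbk := by
    obtain ⟨x, hx, e⟩ := h k hk
    rw [hbk, if_pos rfl, repOf_zero, F.ev_t] at e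
    exact ⟨x, hx, e⟩
  no k hk hbk := by
    obtain ⟨x, hx, e⟩ := h k hk
    rw [hbk] at e
    exact ⟨x, hx, e⟩

end CfsgLib.Trichotomy
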