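import Cfsg.Agent.Trichotomy.L5Iso
import Cfsg.Agent.HeldAmal.Step

/-! The relators of a vector stabiliser of `SL(5, 2)`, and of `SL(5, 2)`, from a frame and one or two
involutions outside the centralizer. -/

set_option autoImplicit false
set_option maxRecDepth 100000

namespace CfsgLib.Trichotomy.L5

open CfsgLib.Coset
open CfsgLib.HeldUniq
open CfsgLib.HeldAmal (codes actFrom chk stepGens ev_low ev_prodN prod_eq_one ev_one)

/-- The images of `HeldAmal.actFrom` under the first involution. -/
def actTo : List Nat := [27744956, 11784948, 26331266]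

/-- The mirror images of `HeldAmal.actFrom`: generators of the centralizer of `t` and its second partner. -/
def actFromSnd : List Nat := [15856800, 31546595, 20552837]

/-- Their images under the second involution: the mirror images of `actTo`. -/
def actToSnd : List Nat := [15856871, 31546534, 20027536]

/-- The hypotheses on the involution giving the stabiliser of a vector. -/
structure StepV {G : Type*} [Group G] {t : G} (F : Frame t) (g : G) : Prop where
  sq : g * g = 1
  act : ∀ i < 3, g * F.ev (actFrom.getD i Mdl.one) * g = F.ev (actTo.getD i Mdl.one)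
  cube : (g * F.ev 17466688) ^ 3 = 1

/-- Two involutions with the prescribed actions. -/
structure ActL {G : Type*} [Group G] {t : G} (F : Frame t) (g h : G) : Prop where
  sq : g * g = 1
  act : ∀ i < 3, g * F.ev (actFrom.getD i Mdl.one) * g = F.ev (actTo.getD i Mdl.one)
  sq_snd : h * h = 1
  act_snd : ∀ i < 3, h * F.ev (actFromSnd.getD i Mdl.one) * h = F.ev (actToSnd.getD i Mdl.one)

/-- The hypotheses on the two involutions giving the linear group. -/
structure StepL {G : Type*} [Group G] {t : G} (F : Frame t) (g h : G) : Prop extends StepV F g where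
  sq_snd : h * h = 1
  act_snd : ∀ i < 3, h * F.ev (actFromSnd.getD i Mdl.one) * h = F.ev (actToSnd.getD i Mdl.one)
  cube_snd : (h * F.ev 17466688) ^ 3 = 1
  comm : (g * (F.ev 5515783 * h * F.ev 5515783)) ^ 2 = F.ev 20421078

variable {G : Type*} [Group G] {t : G} (F : Frame t)

/-- The eight elements. -/
def gens8 (g h : G) : List G := codes.map F.ev ++ [g, h]

theorem ev_word (g : G) (w : List Nat) {e : Nat} (hw : ∀ l ∈ w, l < 6)
    (hc : chk (w.map fun l => codes.getD l 0) = true) (he : Mdl.prodN (w.map fun l => codes.getD l 0) = e) :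
    ev (stepGens F g) w = F.ev e := by
  rw [ev_low F g w hw, ← (ev_prodN F _ hc).2, he]

theorem ev_eight (g h : G) : ∀ w : List Nat, (∀ l ∈ w, l < 6) → ev (gens8 F g h) w = ev (stepGens F g) w
  | [], _ => rfl
  | l :: w, hh => by
    rw [ev_cons, ev_cons, ev_eight g h w fun x hx => hh x (List.mem_cons_of_mem _ hx)]
    have hl : l < 6 := hh l List.mem_cons_self
    congr 1
    interval_cases l <;> rfl

theorem ev_word8 (g h : G) (w : List Nat) {e : Nat} (hw : ∀ l ∈ w, l < 6)
    (hc : chk (w.map fun l => codes.getD l 0) = true) (he : Mdl.prodN (w.map fun l => codes.getD l 0) = e) :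
    ev (gens8 F g h) w = F.ev e := by
  rw [ev_eight F g h w hw, ev_word F g w hw hc he]

theorem low (g : G) {r : List Nat} (hr : ∀ l ∈ r, l < 6) (hc : chk (r.map fun l => codes.getD l 0) = true)
    (h1 : Mdl.prodN (r.map fun l => codes.getD l 0) = Mdl.one) : ev (stepGens F g) r = 1 := by
  rw [ev_word F g r hr hc h1, ev_one F]

theorem low8 (g h : G) {r : List Nat} (hr : ∀ l ∈ r, l < 6) (hc : chk (r.map fun l => codes.getD l 0) = true)
    (h1 : Mdl.prodN (r.map fun l => codes.getD l 0) = Mdl.one) : ev (gens8 F g h) r = 1 := by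
  rw [ev_word8 F g h r hr hc h1, ev_one F]

theorem conj_cancel (x : G) {a b c : Nat} (h : x * F.ev a * x = F.ev b)
    (hb : Mdl.mem b = true) (hc : Mdl.mem c = true) (h1 : Mdl.mulN b c = Mdl.one) :
    x * F.ev a * x * F.ev c = 1 := by
  rw [h, ← F.map_mul b c hb hc, h1, ev_one F]

variable {F} {g h : G}

/-- The relators of the vector stabiliser hold. -/
theorem StepV.rels_stepGens (S : StepV F g) : RelsV (stepGens F g) where
  len := rfl
  rel := by
    intro w hw
    simp only [relsV, List.mem_cons, List.not_mem_nil, or_false] at hw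
    rcases hw with rfl | rfl | rfl | rfl | rfl | rfl | rfl | rfl | rfl | rfl | rfl | rfl | rfl | rfl | rfl | rfl | rfl | rfl | rfl | rfl | rfl | rfl | rfl | rfl | rfl | rfl | rfl
    · exact low F g (by decide) (by decide +kernel) (by decide +kernel)
    · exact low F g (by decide) (by decide +kernel) (by decide +kernel)
    · exact low F g (by decide) (by decide +kernel) (by decide +kernel)
    · exact low F g (by decide) (by decide +kernel) (by decide +kernel)
    · exact low F g (by decide) (by decide +kernel) (by decide +kernel)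
    · exact low F g (by decide) (by decide +kernel) (by decide +kernel)
    · exact low F g (by decide) (by decide +kernel) (by decide +kernel)
    · exact low F g (by decide) (by decide +kernel) (by decide +kernel)
    · exact low F g (by decide) (by decide +kernel) (by decide +kernel)
    · exact low F g (by decide) (by decide +kernel) (by decide +kernel)
    · exact low F g (by decide) (by decide +kernel) (by decide +kernel)
    · exact low F g (by decide) (by decide +kernel) (by decide +kernel)
    · exact low F g (by decide) (by decide +kernel) (by decide +kernel)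
    · exact low F g (by decide) (by decide +kernel) (by decide +kernel)
    · exact low F g (by decide) (by decide +kernel) (by decide +kernel)
    · exact low F g (by decide) (by decide +kernel) (by decide +kernel)
    · exact low F g (by decide) (by decide +kernel) (by decide +kernel)
    · exact low F g (by decide) (by decide +kernel) (by decide +kernel)
    · exact low F g (by decide) (by decide +kernel) (by decide +kernel)
    · exact low F g (by decide) (by decide +kernel) (by decide +kernel)
    · exact low F g (by decide) (by decide +kernel) (by decide +kernel)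
    · simpa [ev, stepGens, gens8, codes, fl] using S.sq
    · show ev (stepGens F g) ([6] ++ [5, 2, 0, 3, 0] ++ [6] ++ [0, 3, 2, 1, 5, 1]) = 1
      simp only [ev_append]
      rw [show ev (stepGens F g) [6] = g from mul_one _, ev_word F g [5, 2, 0, 3, 0] (e := 27744900) (by decide) (by decide +kernel) (by decide +kernel),
        ev_word F g [0, 3, 2, 1, 5, 1] (e := 11916262) (by decide) (by decide +kernel) (by decide +kernel)]
      exact conj_cancel F g (S.act 0 (by decide)) (by decide +kernel) (by decide +kernel) (by decide +kernel)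
    · show ev (stepGens F g) ([6] ++ [3, 0, 1, 5, 1, 2] ++ [6] ++ [0, 2, 5, 0, 3]) = 1
      simp only [ev_append]
      rw [show ev (stepGens F g) [6] = g from mul_one _, ev_word F g [3, 0, 1, 5, 1, 2] (e := 11784924) (by decide) (by decide +kernel) (by decide +kernel),
        ev_word F g [0, 2, 5, 0, 3] (e := 27613594) (by decide) (by decide +kernel) (by decide +kernel)]
      exact conj_cancel F g (S.act 1 (by decide)) (by decide +kernel) (by decide +kernel) (by decide +kernel)
    · show ev (stepGens F g) ([6] ++ [0, 3, 5, 3, 2, 1] ++ [6] ++ [2, 1, 5, 3, 5, 2, 0]) = 1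
      simp only [ev_append]
      rw [show ev (stepGens F g) [6] = g from mul_one _, ev_word F g [0, 3, 5, 3, 2, 1] (e := 26462632) (by decide) (by decide +kernel) (by decide +kernel),
        ev_word F g [2, 1, 5, 3, 5, 2, 0] (e := 26331266) (by decide) (by decide +kernel) (by decide +kernel)]
      exact conj_cancel F g (S.act 2 (by decide)) (by decide +kernel) (by decide +kernel) (by decide +kernel)
    · show ev (stepGens F g) ([6] ++ [0, 4, 0] ++ [6] ++ [0, 4, 0] ++ [6] ++ [0, 4, 0]) = 1
      simp only [ev_append]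
      rw [show ev (stepGens F g) [6] = g from mul_one _, ev_word F g [0, 4, 0] (e := 17466688) (by decide) (by decide +kernel) (by decide +kernel)]
      simpa [pow_succ, mul_assoc] using S.cube
    · exact low F g (by decide) (by decide +kernel) (by decide +kernel)

/-- The relators involving one of the two involutions twice. -/
def upperA : List (List Nat) := [[6, 6], [7, 7], [6, 5, 2, 0, 3, 0, 6, 0, 3, 2, 1, 5, 1], [6, 3, 0, 1, 5, 1, 2, 6, 0, 2, 5, 0, 3], [6, 0, 3, 5, 3, 2, 1, 6, 2, 1, 5, 3, 5, 2, 0], [7, 0, 4, 3, 5, 4, 3, 5, 2, 0, 7, 3, 2, 4, 5, 3, 5, 4, 2], [7, 2, 5, 2, 3, 0, 4, 2, 7, 3, 4, 2, 1, 4, 1, 5], [7, 4, 0, 3, 2, 3, 4, 7, 2, 1, 2, 3, 0]]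

theorem relsA_cases : (relsA.all fun w => ((w.all fun l => decide (l < 6)) &&
    chk (w.map fun l => codes.getD l 0) && Nat.beq (Mdl.prodN (w.map fun l => codes.getD l 0)) Mdl.one) ||
    upperA.contains w) = true := by decide +kernel

theorem fl_six (F : Frame t) (g h : G) : fl (gens8 F g h) 6 = g := rfl

theorem fl_seven (F : Frame t) (g h : G) : fl (gens8 F g h) 7 = h := rfl

theorem ev_letter {X : Type*} [Group X] (L : List X) (k : Nat) : ev L [k] = fl L k := mul_one _

/-- The checks for a word `k s₀ k s₁`. -/
def actOk (s₀ s₁ : List Nat) (a b : Nat) : Bool :=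
  chk (s₀.map fun l => codes.getD l 0) && Nat.beq (Mdl.prodN (s₀.map fun l => codes.getD l 0)) a &&
    chk (s₁.map fun l => codes.getD l 0) && Mdl.mem b &&
    Nat.beq (Mdl.mulN b (Mdl.prodN (s₁.map fun l => codes.getD l 0))) Mdl.one

theorem act_word {x : G} {k a b : Nat} {s₀ s₁ w : List Nat} (hk : fl (gens8 F g h) k = x)
    (hx : x * F.ev a * x = F.ev b) (hw : w = [k] ++ s₀ ++ [k] ++ s₁) (h₀ : ∀ l ∈ s₀, l < 6)
    (h₁ : ∀ l ∈ s₁, l < 6) (hok : actOk s₀ s₁ a b = true) : ev (gens8 F g h) w = 1 := by
  simp only [actOk, Bool.and_eq_true, Nat.beq_eq] at hok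
  obtain ⟨⟨⟨⟨c₀, e₀⟩, c₁⟩, hb⟩, h1⟩ := hok
  rw [hw, ev_append, ev_append, ev_append, ev_letter, hk, ev_word8 F g h s₀ h₀ c₀ e₀,
    ev_word8 F g h s₁ h₁ c₁ rfl]
  exact conj_cancel F x hx hb (ev_prodN F _ c₁).1 h1

/-- The relators of the centralizer and the two actions hold. -/
theorem ActL.rels (A : ActL F g h) : ∀ w ∈ relsA, ev (gens8 F g h) w = 1 := by
  intro w hw
  have h1 := List.all_eq_true.mp relsA_cases w hw
  simp only [Bool.or_eq_true, Bool.and_eq_true, List.all_eq_true, decide_eq_true_eq, Nat.beq_eq,
    List.contains_iff_mem] at h1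
  rcases h1 with ⟨⟨hl, hc⟩, he⟩ | hu
  · exact low8 F g h hl hc he
  · simp only [upperA, List.mem_cons, List.not_mem_nil, or_false] at hu
    rcases hu with rfl | rfl | rfl | rfl | rfl | rfl | rfl | rfl
    · simpa [ev, gens8, codes, fl] using A.sq
    · simpa [ev, gens8, codes, fl] using A.sq_snd
    · exact act_word (w := [6] ++ [5, 2, 0, 3, 0] ++ [6] ++ [0, 3, 2, 1, 5, 1]) (fl_six F g h) (A.act 0 (by decide)) rfl (by decide) (by decide) (by decide +kernel)
    · exact act_word (w := [6] ++ [3, 0, 1, 5, 1, 2] ++ [6] ++ [0, 2, 5, 0, 3]) (fl_six F g h) (A.act 1 (by decide)) rfl (by decide) (by decide) (by decide +kernel)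
    · exact act_word (w := [6] ++ [0, 3, 5, 3, 2, 1] ++ [6] ++ [2, 1, 5, 3, 5, 2, 0]) (fl_six F g h) (A.act 2 (by decide)) rfl (by decide) (by decide) (by decide +kernel)
    · exact act_word (w := [7] ++ [0, 4, 3, 5, 4, 3, 5, 2, 0] ++ [7] ++ [3, 2, 4, 5, 3, 5, 4, 2]) (fl_seven F g h) (A.act_snd 0 (by decide)) rfl (by decide) (by decide) (by decide +kernel)
    · exact act_word (w := [7] ++ [2, 5, 2, 3, 0, 4, 2] ++ [7] ++ [3, 4, 2, 1, 4, 1, 5]) (fl_seven F g h) (A.act_snd 1 (by decide)) rfl (by decide) (by decide) (by decide +kernel)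
    · exact act_word (w := [7] ++ [4, 0, 3, 2, 3, 4] ++ [7] ++ [2, 1, 2, 3, 0]) (fl_seven F g h) (A.act_snd 2 (by decide)) rfl (by decide) (by decide) (by decide +kernel)

/-- A word spelling a power of `x` times a power of the centralizer. -/
theorem ev_cubeG (h₀ : G) : ev (gens8 F g h₀) cubeG1 = (g * F.ev 17466688) ^ 3 := by
  rw [show cubeG1 = [6] ++ [0, 4, 0] ++ ([6] ++ [0, 4, 0]) ++ ([6] ++ [0, 4, 0]) from rfl]
  simp only [ev_append]
  rw [ev_letter, fl_six, ev_word8 F g h₀ [0, 4, 0] (e := 17466688) (by decide) (by decide +kernel) (by decide +kernel)]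
  simp [pow_succ, mul_assoc]

theorem ev_cubeH : ev (gens8 F g h) cubeH1 = (h * F.ev 17466688) ^ 3 := by
  rw [show cubeH1 = [7] ++ [0, 4, 0] ++ ([7] ++ [0, 4, 0]) ++ ([7] ++ [0, 4, 0]) from rfl]
  simp only [ev_append]
  rw [ev_letter, fl_seven, ev_word8 F g h [0, 4, 0] (e := 17466688) (by decide) (by decide +kernel) (by decide +kernel)]
  simp [pow_succ, mul_assoc]

/-- The word of the square of the product. -/
def sqWord : List Nat :=
  [6] ++ ([4, 5, 4] ++ [7] ++ [4, 5, 4]) ++ ([6] ++ ([4, 5, 4] ++ [7] ++ [4, 5, 4]))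

theorem ev_sqWord : ev (gens8 F g h) sqWord = (g * (F.ev 5515783 * h * F.ev 5515783)) ^ 2 := by
  simp only [sqWord, ev_append]
  rw [ev_letter, ev_letter, fl_six, fl_seven,
    ev_word8 F g h [4, 5, 4] (e := 5515783) (by decide) (by decide +kernel) (by decide +kernel)]
  simp [pow_succ, mul_assoc]

theorem StepL.actL (S : StepL F g h) : ActL F g h := ⟨S.sq, S.act, S.sq_snd, S.act_snd⟩

/-- The relators of the linear group hold. -/
theorem StepL.rels_gens8 (S : StepL F g h) : RelsL (gens8 F g h) where
  len := rfl
  rel := by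
    intro w hw
    rcases List.mem_append.mp hw with hA | hw
    · exact S.actL.rels w hA
    simp only [List.mem_cons, List.not_mem_nil, or_false] at hw
    rcases hw with rfl | rfl | rfl
    · rw [ev_cubeG]; exact S.cube
    · rw [ev_cubeH]; exact S.cube_snd
    · rw [show comm4 = sqWord ++ [0, 1, 3, 0, 1, 2, 1] from rfl, ev_append, ev_sqWord, S.comm,
        ev_word8 F g h [0, 1, 3, 0, 1, 2, 1] (by decide) (by decide +kernel) rfl,
        ← F.map_mul _ _ (by decide +kernel) (by decide +kernel),
        show Mdl.mulN 20421078 (Mdl.prodN ([0, 1, 3, 0, 1, 2, 1].map fun l => codes.getD l 0)) = Mdl.one by decide +kernel]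
      exact ev_one F

end CfsgLib.Trichotomy.L5
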