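import Cfsg.Agent.Trichotomy.Pattern
import Cfsg.Agent.Trichotomy.FusionSwap
import Cfsg.Agent.HeldUniq.ActClass
import Cfsg.Agent.HeldAmal.Cube
import Cfsg.Agent.Trichotomy.L5Step

/-!
# The action of an exchanger is decided by the pattern
-/

set_option autoImplicit false
set_option linter.unusedSectionVars false
set_option maxRecDepth 100000

namespace CfsgLib.Trichotomy

open CfsgLib.HeldUniq

/-- Words distinguishing the patterns from the actions. -/
def killWords : List (List Nat) := [[2], [0, 2, 0, 2], [0, 2, 1, 0, 2, 1], [2, 0, 1, 1, 2, 1, 2, 0]]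

/-- An action contradicts a pattern. -/
def killed (b : List Bool) (k : Nat) : Bool :=
  killWords.any fun w => isT b (Mdl.evalW Mdl.dGens w) != isT b (Mdl.evalW (Mdl.actTable.getD k []) w)

theorem killed_chk : ∀ d3 : Bool,
    (killed (patBoth true d3) 0 && killed (patBoth true d3) 2 && killed (patBoth true d3) 3 &&
      killed (patBoth false d3) 0 && killed (patBoth false d3) 1 && killed (patBoth false d3) 2) = true := by
  decide +kernel

theorem killWords_lt : ∀ w ∈ killWords, ∀ i ∈ w, i < 3 := by decide +kernel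

/-- The inner adjustment for the third action. -/
def fixC : Nat := 20421078

theorem fixC_ok : Mdl.mem fixC = true ∧ Mdl.commN fixC Mdl.swX = true ∧
    Mdl.evalW Mdl.dGens [1, 1, 0, 2, 1, 0, 0] = fixC ∧
    Mdl.mulN fixC (Mdl.evalW (Mdl.actTable.getD 3 []) [1, 1, 0, 2, 1, 0, 0]) = Mdl.one ∧
    (List.range 3).all (fun i => Mdl.mem ((L5.actTo).getD i Mdl.one) &&
      Nat.beq (Mdl.mulN fixC ((Mdl.actTable.getD 3 []).getD i Mdl.one))
        (Mdl.mulN ((L5.actTo).getD i Mdl.one) fixC)) = true := by decide +kernel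

theorem he_table : Mdl.actTable.getD 1 [] = HeldAmal.actTo ∧ Mdl.dGens = HeldAmal.actFrom := by
  decide +kernel

variable {G : Type*} [Group G] [Finite G] {t : G} {F : Frame t}

theorem act_mem {k : Nat} (hk : k < 4) {i : Nat} (hi : i < 3) :
    Mdl.mem ((Mdl.actTable.getD k []).getD i Mdl.one) = true := by
  have hr : Mdl.actTable.getD k [] ∈ Mdl.actTable := by
    have hl : k < Mdl.actTable.length := Nat.lt_of_lt_of_eq hk (by decide +kernel)
    rw [List.getD_eq_getElem _ _ hl]
    exact List.getElem_mem hl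
  have h := List.all_eq_true.1 (List.all_eq_true.1 Mdl.act_mem _ hr) i (List.mem_range.2 hi)
  rw [Bool.and_eq_true] at h
  exact h.1

theorem conj_word {k : Nat} (hk : k < 4) {n : G} (hn : n * n = 1)
    (hact : ∀ i < 3, n * F.ev (Mdl.dGens.getD i Mdl.one) * n = F.ev ((Mdl.actTable.getD k []).getD i Mdl.one))
    {w : List Nat} (hw : ∀ i ∈ w, i < 3) :
    Mdl.mem (Mdl.evalW Mdl.dGens w) = true ∧ Mdl.mem (Mdl.evalW (Mdl.actTable.getD k []) w) = true ∧
      n * F.ev (Mdl.evalW Mdl.dGens w) * n = F.ev (Mdl.evalW (Mdl.actTable.getD k []) w) := by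
  have hi : n⁻¹ = n := inv_eq_of_mul_eq_one_right hn
  refine ⟨Frame.mem_evalW (fun i _ => (Frame.gens_facts i).1) hw,
    Frame.mem_evalW (fun i hi' => act_mem hk hi') hw, ?_⟩
  have h := F.conj_evalW (n := n) (b := Mdl.actTable.getD k []) (w := w)
    fun i hi' => ⟨act_mem hk (hw i hi'), by rw [hi]; exact hact i (hw i hi')⟩
  rwa [hi] at h

theorem false_of_killed {b : List Bool} (hb : IsPat F b) {k : Nat} (hk : k < 4) {n : G} (hn : n * n = 1)
    (hact : ∀ i < 3, n * F.ev (Mdl.dGens.getD i Mdl.one) * n = F.ev ((Mdl.actTable.getD k []).getD i Mdl.one))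
    (h : killed b k = true) : False := by
  simp only [killed, List.any_eq_true, bne_iff_ne] at h
  obtain ⟨w, hw, hne⟩ := h
  obtain ⟨h1, h2, e⟩ := conj_word hk hn hact (killWords_lt w hw)
  refine hne (Bool.eq_iff_iff.2 ?_)
  rw [isT_iff F hb h1, isT_iff F hb h2]
  have e' : n * F.ev (Mdl.evalW Mdl.dGens w) * n⁻¹ = F.ev (Mdl.evalW (Mdl.actTable.getD k []) w) := by
    rw [inv_eq_of_mul_eq_one_right hn]; exact e
  exact ⟨fun h => h.trans (isConj_iff.2 ⟨n, e'⟩), fun h => h.trans (isConj_iff.2 ⟨n, e'⟩).symm⟩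

theorem exists_act_both {d0 d3 : Bool} (hb : IsPat F (patBoth d0 d3)) :
    ∃ k < 4, ∃ n : G, n * n = 1 ∧ F.Swaps n ∧ ∀ i < 3,
      n * F.ev (Mdl.dGens.getD i Mdl.one) * n = F.ev ((Mdl.actTable.getD k []).getD i Mdl.one) := by
  have hc : IsConj t (F.ev Mdl.qy0) := by
    have h := (hb 2 (by decide)).2 rfl
    rwa [show repOf 2 = Mdl.qy0 from rfl] at h
  obtain ⟨s, hs, hst⟩ := F.gen_exists_swap Mdl.r2_ok Mdl.cent2 (by decide) hc
  exact F.exists_act (s := s) hs hst

/-- With the fourth class fused, an involution has the action found in the Held group. -/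
theorem exists_act_he {d3 : Bool} (hb : IsPat F (patBoth true d3)) :
    ∃ g : G, F.Swaps g ∧ HeldAmal.Act F g := by
  obtain ⟨k, hk, n, hn, hsw, hact⟩ := exists_act_both hb
  have h := killed_chk d3
  simp only [Bool.and_eq_true] at h
  obtain ⟨⟨⟨⟨⟨h0, h2⟩, h3⟩, -⟩, -⟩, -⟩ := h
  have hk1 : k = 1 := by
    rcases (show k = 0 ∨ k = 1 ∨ k = 2 ∨ k = 3 by omega) with rfl | rfl | rfl | rfl
    exacts [(false_of_killed hb hk hn hact h0).elim, rfl, (false_of_killed hb hk hn hact h2).elim,
      (false_of_killed hb hk hn hact h3).elim]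
  subst hk1
  rw [he_table.1, he_table.2] at hact
  exact ⟨n, hsw, ⟨hn, hact, HeldAmal.cube_of_act hn hact⟩⟩

/-- Without it, an involution has the action found in `SL(5, 2)`. -/
theorem exists_act_lin {d3 : Bool} (hb : IsPat F (patBoth false d3)) :
    ∃ g : G, F.Swaps g ∧ g * g = 1 ∧
      ∀ i < 3, g * F.ev (HeldAmal.actFrom.getD i Mdl.one) * g = F.ev (L5.actTo.getD i Mdl.one) := by
  obtain ⟨k, hk, n, hn, hsw, hact⟩ := exists_act_both hb
  have h := killed_chk d3
  simp only [Bool.and_eq_true] at h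
  obtain ⟨⟨⟨-, h0⟩, h1⟩, h2⟩ := h
  have hk3 : k = 3 := by
    rcases (show k = 0 ∨ k = 1 ∨ k = 2 ∨ k = 3 by omega) with rfl | rfl | rfl | rfl
    exacts [(false_of_killed hb hk hn hact h0).elim, (false_of_killed hb hk hn hact h1).elim,
      (false_of_killed hb hk hn hact h2).elim, rfl]
  subst hk3
  obtain ⟨he, hex, hev, hmul, hto⟩ := fixC_ok
  obtain ⟨-, hm, hconj⟩ := conj_word hk hn hact (w := [1, 1, 0, 2, 1, 0, 0]) (by decide)
  rw [hev] at hconj
  have hni : n⁻¹ = n := inv_eq_of_mul_eq_one_right hn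
  have hsq : F.ev fixC * n * (F.ev fixC * n) = 1 := by
    rw [show F.ev fixC * n * (F.ev fixC * n) = F.ev fixC * (n * F.ev fixC * n) by simp only [mul_assoc],
      hconj, ← F.map_mul _ _ he hm, hmul, F.ev_one]
  refine ⟨F.ev fixC * n, F.swaps_mul hsw he hex, hsq, fun i hi => ?_⟩
  have h := List.all_eq_true.1 hto i (List.mem_range.2 hi)
  simp only [Bool.and_eq_true, Nat.beq_eq] at h
  rw [← he_table.2]
  nth_rewrite 2 [← inv_eq_of_mul_eq_one_right hsq]
  exact F.conj_mulN he (act_mem hk hi) h.1 (by rw [hni]; exact hact i hi) h.2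

end CfsgLib.Trichotomy
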