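import Mathlib.Data.List.Basic

/-! Relators of the frame with one or two involutions giving the stabiliser of a vector of `SL(5, 2)`
and `SL(5, 2)` itself. -/

set_option autoImplicit false
set_option maxRecDepth 100000

namespace CfsgLib.Trichotomy.L5

/-- The relators of the centralizer and the first involution. -/
def relsV : List (List Nat) := [[0, 0], [1, 1], [2, 2], [3, 3], [4, 4], [5, 5], [3, 0, 1, 3, 0, 3, 1, 0, 3, 0], [3, 0, 2, 1, 2, 3, 2, 1, 2, 0], [3, 0, 2, 3, 0, 3, 2, 0, 3, 0], [5, 1, 0, 2, 5, 4, 3, 0, 4, 0], [2, 1, 4, 3, 2, 4, 2, 1, 0, 3, 4], [2, 4, 0, 1, 3, 4, 1, 3, 2, 3, 0], [2, 0, 3, 2, 3, 1, 0, 1, 2, 3, 2, 3], [2, 1, 0, 1, 3, 0, 2, 0, 2, 3, 2, 0], [2, 1, 0, 3, 0, 4, 0, 1, 4, 3, 2, 0], [2, 3, 1, 2, 3, 1, 2, 3, 1, 2, 3, 1], [2, 3, 2,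 3, 2, 0, 2, 3, 2, 3, 2, 0], [3, 0, 1, 2, 3, 1, 3, 0, 1, 2, 3, 1], [4, 1, 0, 1, 3, 2, 0, 2, 0, 3, 4, 1], [5, 4, 0, 1, 5, 2, 1, 2, 4, 5, 4, 1], [5, 4, 5, 4, 5, 3, 2, 0, 2, 3, 4, 0], [6, 6], [6, 5, 2, 0, 3, 0, 6, 0, 3, 2, 1, 5, 1], [6, 3, 0, 1, 5, 1, 2, 6, 0, 2, 5, 0, 3], [6, 0, 3, 5, 3, 2, 1, 6, 2, 1, 5, 3, 5, 2, 0], [6, 0, 4, 0, 6, 0, 4, 0, 6, 0, 4, 0], [0, 3, 1, 3, 5, 3, 1, 3, 5]]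

/-- The relators of the centralizer and the two actions. -/
def relsA : List (List Nat) := [[0, 0], [1, 1], [2, 2], [3, 3], [4, 4], [5, 5], [3, 0, 1, 3, 0, 3, 1, 0, 3, 0], [3, 0, 2, 1, 2, 3, 2, 1, 2, 0], [3, 0, 2, 3, 0, 3, 2, 0, 3, 0], [5, 1, 0, 2, 5, 4, 3, 0, 4, 0], [2, 1, 4, 3, 2, 4, 2, 1, 0, 3, 4], [2, 4, 0, 1, 3, 4, 1, 3, 2, 3, 0], [2, 0, 3, 2, 3, 1, 0, 1, 2, 3, 2, 3], [2, 1, 0, 1, 3, 0, 2, 0, 2, 3, 2, 0], [2, 1, 0, 3, 0, 4, 0, 1, 4, 3, 2, 0], [2, 3, 1, 2, 3, 1, 2, 3, 1, 2, 3, 1], [2, 3, 2, 3, 2, 0, 2, 3, 2, 3, 2, 0], [3, 0, 1, 2, 3, 1, 3, 0, 1, 2, 3, 1], [4, 1, 0, 1, 3, 2, 0, 2, 0, 3, 4, 1], [5, 4, 0, 1, 5, 2, 1, 2, 4, 5, 4, 1], [5, 4, 5, 4, 5, 3, 2, 0, 2, 3, 4, 0], [6, 6], [6, 5, 2, 0, 3, 0, 6, 0, 3, 2, 1, 5, 1], [6, 3, 0, 1, 5, 1, 2, 6, 0,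 2, 5, 0, 3], [6, 0, 3, 5, 3, 2, 1, 6, 2, 1, 5, 3, 5, 2, 0], [0, 3, 1, 3, 5, 3, 1, 3, 5], [7, 7], [7, 0, 4, 3, 5, 4, 3, 5, 2, 0, 7, 3, 2, 4, 5, 3, 5, 4, 2], [7, 2, 5, 2, 3, 0, 4, 2, 7, 3, 4, 2, 1, 4, 1, 5], [7, 4, 0, 3, 2, 3, 4, 7, 2, 1, 2, 3, 0]]

/-- The first cube. -/
def cubeG1 : List Nat := [6, 0, 4, 0, 6, 0, 4, 0, 6, 0, 4, 0]

/-- The first cube, twisted. -/
def cubeGz : List Nat := [6, 0, 4, 0, 6, 0, 4, 0, 6, 0, 4, 0, 4, 0, 1, 4, 1, 0]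

/-- The second cube. -/
def cubeH1 : List Nat := [7, 0, 4, 0, 7, 0, 4, 0, 7, 0, 4, 0]

/-- The second cube, twisted. -/
def cubeHz : List Nat := [7, 0, 4, 0, 7, 0, 4, 0, 7, 0, 4, 0, 2, 0, 2, 1]

/-- The square of the product, twisted. -/
def comm2 : List Nat := [6, 4, 5, 4, 7, 4, 5, 4, 6, 4, 5, 4, 7, 4, 5, 4, 1, 0, 2, 0, 3]

/-- The square of the product. -/
def comm4 : List Nat := [6, 4, 5, 4, 7, 4, 5, 4, 6, 4, 5, 4, 7, 4, 5, 4, 0, 1, 3, 0, 1, 2, 1]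

/-- All relators. -/
def relsL : List (List Nat) := relsA ++ [cubeG1, cubeH1, comm4]

end CfsgLib.Trichotomy.L5
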