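import Cfsg.Agent.Coset.Table
import Cfsg.Agent.Trichotomy.L5TVData

set_option autoImplicit false
set_option maxRecDepth 100000

namespace CfsgLib.Trichotomy.L5.TV

open CfsgLib.Coset

theorem hR : checkRules rels subs R = true := by decide +kernel
theorem hdefs : checkDefs E 7 8 134 = true := by decide +kernel
theorem hsteps : checkChunks E id R 7 3 134 6 C = true := by decide +kernel
theorem htable : checkTable E id (134 + chunk * 6) 15 7 4 3 Rep Ref Tb = true := by decide +kernel

end CfsgLib.Trichotomy.L5.TV
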