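import Cfsg.Agent.Coset.Chain
import Mathlib.Tactic.IntervalCases
import Cfsg.Agent.HeldAmal.T0
import Cfsg.Agent.HeldAmal.T1
import Cfsg.Agent.Trichotomy.L5Rels
import Cfsg.Agent.Trichotomy.L5TC
import Cfsg.Agent.Trichotomy.L5TV
import Cfsg.Agent.Trichotomy.L5TL

/-! Order bounds from the coset tables. -/

set_option autoImplicit false
set_option maxRecDepth 100000

namespace CfsgLib.Trichotomy.L5

open CfsgLib.Coset

/-- Seven elements satisfying the relators of the vector stabiliser. -/
structure RelsV {G : Type*} [Group G] (L : List G) : Prop where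
  len : L.length = 7
  rel : ∀ w ∈ relsV, ev L w = 1

/-- Eight elements satisfying the relators of the linear group. -/
structure RelsL {G : Type*} [Group G] (L : List G) : Prop where
  len : L.length = 8
  rel : ∀ w ∈ relsL, ev L w = 1

variable {G : Type*} [Group G] {L : List G}

theorem sq_of_rels {k : Nat} {rels : List (List Nat)} (hlen : L.length = k) (hrel : ∀ w ∈ rels, ev L w = 1)
    (hsq : ((List.range k).all fun l => rels.contains [l, l]) = true) (x : Nat) : fl L x * fl L x = 1 := by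
  rcases lt_or_ge x k with hx | hx
  · have h1 := hrel _ (List.contains_iff_mem.mp (List.all_eq_true.mp hsq x (List.mem_range.mpr hx)))
    simpa using h1
  · rw [fl_of_le L (by omega), one_mul]

theorem level {k : Nat} {rels : List (List Nat)} (hlen : L.length = k) (hrel : ∀ w ∈ rels, ev L w = 1)
    (hsq : ((List.range k).all fun l => rels.contains [l, l]) = true)
    (n : Nat) {S S' : List Nat} {rs subs : List (List Nat)} {E Rep Tb : Nat → Nat}
    {R : Tr (List Nat × Nat)} {d d' N nC dn dk : Nat} {C Ref : Nat → Nat} (j : Nat) (hj : S.length = j)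
    (hc : checkLevel rels k S S' rs subs = true)
    (hR : checkRules rs subs R = true) (hd : checkDefs E j d' N = true)
    (hs : checkChunks E id R j d N nC C = true)
    (ht : checkTable E id (N + chunk * nC) n j dn dk Rep Ref Tb = true) :
    TableOK (lv L S) (genBy L S') E id n Rep Tb := by
  have hl : (lv L S).length = j := by simp [lv, hj]
  exact tableOK_of_check (inv_lv (sq_of_rels hlen hrel hsq) S) hR (hl.symm ▸ hd) (hl.symm ▸ hs) (hl.symm ▸ ht)
    (level_rels hlen hc hrel) (level_subs hlen hc)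

theorem card_cent {k : Nat} {rels : List (List Nat)} (hlen : L.length = k) (hrel : ∀ w ∈ rels, ev L w = 1)
    (hsq : ((List.range k).all fun l => rels.contains [l, l]) = true)
    (c0 : checkLevel rels k [0, 1, 2, 3] [] HeldAmal.T0.rels HeldAmal.T0.subs = true)
    (c1 : checkLevel rels k [0, 1, 2, 3, 4] [0, 1, 2, 3] HeldAmal.T1.rels HeldAmal.T1.subs = true)
    (c2 : checkLevel rels k [0, 1, 2, 3, 4, 5] [0, 1, 2, 3, 4] TC.rels TC.subs = true) :
    Finite (genBy L [0, 1, 2, 3, 4, 5]) ∧ Nat.card (genBy L [0, 1, 2, 3, 4, 5]) ≤ 21504 := by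
  have h0 := level_card (level hlen hrel hsq 1024 4 rfl c0 HeldAmal.T0.hR HeldAmal.T0.hdefs HeldAmal.T0.hsteps
    HeldAmal.T0.htable) (by decide) c0 card_genBy_nil
  have h1 := level_card (level hlen hrel hsq 3 5 rfl c1 HeldAmal.T1.hR HeldAmal.T1.hdefs HeldAmal.T1.hsteps
    HeldAmal.T1.htable) (by decide) c1 h0
  exact level_card (level hlen hrel hsq 7 6 rfl c2 TC.hR TC.hdefs TC.hsteps TC.htable) (by decide) c2 h1

theorem sqV : ((List.range 7).all fun l => relsV.contains [l, l]) = true := by decide +kernel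

theorem sqL : ((List.range 8).all fun l => relsL.contains [l, l]) = true := by decide +kernel

theorem RelsV.card_all (h : RelsV L) :
    Finite (genBy L [0, 1, 2, 3, 4, 5, 6]) ∧ Nat.card (genBy L [0, 1, 2, 3, 4, 5, 6]) ≤ 322560 := by
  have c : checkLevel relsV 7 [0, 1, 2, 3, 4, 5, 6] [0, 1, 2, 3, 4, 5] TV.rels TV.subs = true := by decide +kernel
  exact level_card (level h.len h.rel sqV 15 7 rfl c TV.hR TV.hdefs TV.hsteps TV.htable) (by decide) c
    (card_cent h.len h.rel sqV (by decide +kernel) (by decide +kernel) (by decide +kernel))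

theorem RelsV.card_le (h : RelsV L) (hgen : Subgroup.closure {x | x ∈ L} = ⊤) :
    Finite G ∧ Nat.card G ≤ 322560 := by
  have e : genBy L [0, 1, 2, 3, 4, 5, 6] = ⊤ := by
    have := genBy_range hgen
    rwa [h.len] at this
  obtain ⟨h1, h2⟩ := h.card_all
  rw [e] at h1 h2
  exact ⟨Finite.of_equiv _ Subgroup.topEquiv.toEquiv, (Nat.card_congr Subgroup.topEquiv.toEquiv).symm.le.trans h2⟩

theorem RelsL.checkTop : checkLevel relsL 8 [0, 1, 2, 3, 4, 5, 6, 7] [0, 1, 2, 3, 4, 5, 6] TL.rels TL.subs = true := by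
  decide +kernel

theorem RelsL.top_le (h : RelsL L) {m : Nat}
    (hm : Finite (genBy L [0, 1, 2, 3, 4, 5, 6]) ∧ Nat.card (genBy L [0, 1, 2, 3, 4, 5, 6]) ≤ m) :
    Finite (genBy L [0, 1, 2, 3, 4, 5, 6, 7]) ∧ Nat.card (genBy L [0, 1, 2, 3, 4, 5, 6, 7]) ≤ 31 * m :=
  level_card (level h.len h.rel sqL 31 8 rfl RelsL.checkTop TL.hR TL.hdefs TL.hsteps TL.htable) (by decide)
    RelsL.checkTop hm

theorem RelsL.card_all (h : RelsL L) :
    Finite (genBy L [0, 1, 2, 3, 4, 5, 6, 7]) ∧ Nat.card (genBy L [0, 1, 2, 3, 4, 5, 6, 7]) ≤ 9999360 := by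
  have c : checkLevel relsL 8 [0, 1, 2, 3, 4, 5, 6] [0, 1, 2, 3, 4, 5] TV.rels TV.subs = true := by decide +kernel
  exact h.top_le (level_card (level h.len h.rel sqL 15 7 rfl c TV.hR TV.hdefs TV.hsteps TV.htable) (by decide) c
    (card_cent h.len h.rel sqL (by decide +kernel) (by decide +kernel) (by decide +kernel)))

theorem RelsL.card_le (h : RelsL L) (hgen : Subgroup.closure {x | x ∈ L} = ⊤) :
    Finite G ∧ Nat.card G ≤ 9999360 := by
  have e : genBy L [0, 1, 2, 3, 4, 5, 6, 7] = ⊤ := by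
    have := genBy_range hgen
    rwa [h.len] at this
  obtain ⟨h1, h2⟩ := h.card_all
  rw [e] at h1 h2
  exact ⟨Finite.of_equiv _ Subgroup.topEquiv.toEquiv, (Nat.card_congr Subgroup.topEquiv.toEquiv).symm.le.trans h2⟩

end CfsgLib.Trichotomy.L5
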