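import Cfsg.Agent.Trichotomy.L5Move

/-! Conjugation chains for the cubes and the square of the product. -/

set_option autoImplicit false
set_option maxRecDepth 100000

namespace CfsgLib.Trichotomy.L5

/-- Chains for the first cube. -/
def chG : List (List Move) := [[(17926336, 17926280, [0, 0, 2, 1, 2, 1, 0, 1, 2, 1, 2], []), (17926280, 17926288, [0, 1, 1, 0, 2, 0, 1, 2], []), (17926288, 17926336, [0, 0, 2, 1, 2, 0, 0, 2, 1, 2], [])],
  [(20290288, 20027564, [0, 2, 0, 0, 2, 1, 2], []), (20027564, 18189052, [2, 0, 0, 2, 0, 1, 2, 0, 2], []), (18189052, 20290288, [2, 0, 2, 0, 1, 0, 2, 1], [])],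
  [(18188936, 20027536, [0, 0, 2, 0, 2, 1, 2, 1], []), (20027536, 17926340, [0, 0, 2, 0, 2, 1, 1, 2, 1, 2], []), (17926340, 18188936, [2, 1, 2, 1], [])],
  [(18189004, 20290200, [0, 0, 2, 0], []), (20290200, 20027604, [1, 2, 1, 1], []), (20027604, 18189004, [0, 0, 2, 0, 1, 2, 1, 1], [])],
  [(17926372, 18188960, [0, 2, 0, 2, 1, 0, 0, 1], []), (18188960, 20027552, [2, 1, 1, 2, 0, 0, 2], []), (20027552, 17926372, [1, 1, 2, 1, 0, 0, 2], [])]]

/-- Candidates for the first cube not fixed by one step. -/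
def badG : List Move := [(17926336, 17926280, [0, 0, 2, 1, 2, 1, 0, 1, 2, 1, 2], []),
  (17926344, 17926296, [0, 1, 1, 2, 1, 0, 2, 0], []),
  (17926288, 17926336, [0, 0, 2, 1, 2, 0, 0, 2, 1, 2], []),
  (17926352, 17926344, [0, 1, 0, 1], []),
  (17926296, 17926352, [1, 2, 1, 0, 2, 0, 0, 1], []),
  (17926280, 17926288, [0, 1, 1, 0, 2, 0, 1, 2], [])]

/-- Candidates for the first cube. -/
def goodG : List Nat := [17926272, 17926360]

/-- Chains for the second cube. -/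
def chH : List (List Move) := [[(17926336, 17926273, [0, 0, 2, 1, 2, 1, 0, 1, 2, 1, 2], []), (17926273, 17926274, [0, 1, 1, 0, 2, 0, 1, 2], []), (17926274, 17926336, [0, 0, 2, 1, 2, 0, 0, 2, 1, 2], [])],
  [(30533761, 26331298, [1, 0, 0, 2, 1, 2, 0, 0, 2], []), (26331298, 22128864, [0, 0, 1, 2, 1, 0, 2, 1], []), (22128864, 30533761, [0, 1, 2, 0, 1, 2, 1, 2, 0], [])],
  [(26331264, 17926304, [0, 0, 1, 2, 0, 0, 1, 2], []), (17926304, 22128768, [0, 1, 2, 1, 2, 0, 0], []), (22128768, 26331264, [0, 1, 2, 0, 2, 1, 2, 1, 0], [])],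
  [(30533796, 30533796, [0, 2, 1, 1, 2, 1, 2, 0], []), (30533796, 30533796, [0, 2, 1, 1, 2, 1, 2, 0], []), (30533796, 30533796, [0, 2, 1, 1, 2, 1, 2, 0], [])],
  [(26331333, 17926311, [0, 2, 1, 1, 2, 1, 0], []), (17926311, 22128838, [2, 0, 1, 0, 0, 2, 0, 0], []), (22128838, 26331333, [2, 0, 1, 0, 2, 0, 0, 2], [])]]

/-- Candidates for the second cube not fixed by one step. -/
def badH : List Move := [(17926336, 17926273, [0, 0, 2, 1, 2, 1, 0, 1, 2, 1, 2], []),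
  (17926273, 17926274, [0, 1, 1, 0, 2, 0, 1, 2], []),
  (17926275, 17926338, [1, 2, 1, 0, 2, 0, 0, 1], []),
  (17926274, 17926336, [0, 0, 2, 1, 2, 0, 0, 2, 1, 2], []),
  (17926338, 17926337, [0, 1, 0, 1], []),
  (17926337, 17926275, [0, 1, 1, 2, 1, 0, 2, 0], [])]

/-- Candidates for the second cube. -/
def goodH : List Nat := [17926272, 17926339]

/-- Chains for the product. -/
def chP : List (List Move) := [[(17926336, 18188928, [0, 0, 2, 1, 2, 1, 0, 1, 2, 1, 2], [0, 1, 2, 1, 2, 0, 0]), (18188928, 17926336, [0, 0, 2, 0, 2, 1, 1, 2, 1, 2], [0, 0, 2, 1, 2, 0, 0, 2, 1, 2])],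
  [(18057614, 18057670, [0, 0, 1, 0, 2, 1, 0, 0], [1, 0, 0, 2, 0, 2]), (18057670, 18320322, [0, 2, 0, 2, 1, 2, 1, 1], [0, 1, 2, 0, 1, 1, 2, 1])],
  [(18320278, 20159366, [1, 0, 0, 2, 0, 1, 1, 0], [1, 0, 2, 1, 1, 2, 1, 2]), (20159366, 18057618, [2, 0, 1, 0, 0], [1, 2, 1, 2, 0, 0, 2, 1, 2])],
  [(20421016, 20290266, [1, 2, 0, 0, 2, 0, 2], [1, 2, 0, 0, 1, 2, 0, 2, 0]), (20290266, 20421084, [2, 0, 1, 1, 0, 2], [1, 1, 2])],
  [(20027524, 17926288, [0, 2, 1, 1, 0, 2, 1, 1], [0, 1, 1, 0, 2, 0, 1, 2]), (17926288, 20290176, [1, 2, 1, 1, 2, 1], [0, 1, 1, 2, 1, 0, 0])]]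

/-- Candidates for the square of the product not fixed by one step. -/
def badP : List Move := [(20421074, 20421086, [0, 2, 1, 2, 0, 0, 2], [1, 2, 0, 0, 2, 0, 1, 2, 1]),
  (20159390, 20159378, [1, 1, 2, 0, 0, 2, 1, 2], [1, 2, 1, 0, 0, 2, 0, 1, 2]),
  (20421010, 20159454, [0, 0, 2, 0, 1, 0], [2, 0, 2, 0, 1, 0, 0, 2]),
  (20421018, 20159450, [1, 0, 2, 1, 1, 2, 1, 2], [0, 1, 2, 0, 1, 2, 0, 0, 2, 0]),
  (20421086, 20421074, [0, 0, 2, 1, 2, 1, 1, 2], [2, 0, 2, 0, 0, 2, 1, 0]),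
  (20159446, 20421014, [2, 1, 2, 0, 1, 0, 2, 0], [0, 1, 2, 0, 2, 1, 1, 2, 1]),
  (20159454, 20421010, [0, 1, 0, 1, 1, 2, 0], [0, 2, 1, 2, 0, 2, 0, 0]),
  (20159378, 20159390, [1, 2, 0, 2, 1, 2, 1], [0, 1, 2, 0, 2, 1, 2]),
  (20159442, 20421022, [2, 1, 1, 0, 1, 2, 1, 2], [0, 0, 1, 0, 2, 0, 0, 1]),
  (20421014, 20159446, [0, 2, 1, 2, 1, 0, 1, 2], [1, 2, 0, 0, 2, 0, 2]),
  (20421022, 20159442, [1, 2, 1, 2, 0, 0, 1, 2], [0, 1, 0, 0, 2, 1, 0, 0]),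
  (20159450, 20421018, [0, 1, 0, 2, 0, 0, 2, 1, 2], [2, 0, 0, 2, 0, 2, 1, 1])]

/-- Candidates for the square of the product. -/
def goodP : List Nat := [20421082, 20159382, 20159386, 20421078]

/-- The move of the element changing the second involution. -/
def moveS : Move := (17926340, 18188936, [0, 1, 0, 1], [2, 1, 2, 1])

end CfsgLib.Trichotomy.L5
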