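import Cfsg.Agent.Trichotomy.L5Step
import Cfsg.Agent.HeldUniq.FusionBasic

/-! Moving codes across an involution times an element of the centralizer. -/

set_option autoImplicit false
set_option maxRecDepth 100000

namespace CfsgLib.Trichotomy.L5

open CfsgLib.Coset
open CfsgLib.HeldUniq
open CfsgLib.HeldAmal (actFrom chk ev_prodN)

/-- A code, the code it moves to, and words for the intermediate conjugates. -/
abbrev Move := Nat × Nat × List Nat × List Nat

/-- The word `ws` in the generators `fr` is `a`, and in `im` it is `b`. -/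
def witOk (fr im : List Nat) (ws : List Nat) (a b : Nat) : Bool :=
  (ws.all fun i => decide (i < 3)) && chk (ws.map fun i => fr.getD i Mdl.one) &&
    Nat.beq (Mdl.prodN (ws.map fun i => fr.getD i Mdl.one)) a &&
    chk (ws.map fun i => im.getD i Mdl.one) && Nat.beq (Mdl.prodN (ws.map fun i => im.getD i Mdl.one)) b

/-- Checks for a move across `x · v`. -/
def oneOk (fr im : List Nat) (v : Nat) (e : Move) : Bool :=
  let a := Mdl.mulN (Mdl.mulN v e.1) v
  Mdl.mem v && Mdl.mem e.1 && Mdl.mem e.2.1 && Mdl.mem (Mdl.mulN v e.1) && Mdl.mem a &&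
    Nat.beq (Mdl.mulN v e.1) (Mdl.mulN a v) && witOk fr im e.2.2.1 a e.2.1

/-- Checks for a move across `g · (c h c)`. -/
def prodOk (c : Nat) (e : Move) : Bool :=
  let a := Mdl.mulN (Mdl.mulN c e.1) c
  let a' := Mdl.prodN (e.2.2.1.map fun i => actToSnd.getD i Mdl.one)
  let b := Mdl.mulN (Mdl.mulN c a') c
  Mdl.mem c && Mdl.mem e.1 && Mdl.mem e.2.1 && Mdl.mem a && Mdl.mem a' && Mdl.mem b &&
    Nat.beq (Mdl.mulN c e.1) (Mdl.mulN a c) && Nat.beq (Mdl.mulN c a') (Mdl.mulN b c) &&
    witOk actFromSnd actToSnd e.2.2.1 a a' && witOk actFrom actTo e.2.2.2 b e.2.1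

/-- A chain of moves. -/
def linked : List Move → Bool
  | [] => true
  | [_] => true
  | e :: e' :: l => Nat.beq e.2.1 e'.1 && linked (e' :: l)

/-- The start of a chain. -/
def startOf (l : List Move) : Nat := (l.headD (0, 0, [], [])).1

/-- The end of a chain. -/
def endOf (l : List Move) : Nat := (l.getLastD (0, 0, [], [])).2.1

/-- Every code commuting like the chains prescribe is listed. -/
def centOk (chs : List (List Move)) (bad : List Move) (good : List Nat) : Bool :=
  (Mdl.codesOf Mdl.slPairs).all fun d =>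
    !(chs.all fun l => Nat.beq (Mdl.mulN d (startOf l)) (Mdl.mulN (endOf l) d)) ||
      good.contains d || bad.any fun e => Nat.beq e.1 d && !Nat.beq e.2.1 d

variable {G : Type*} [Group G] {t : G} {F : Frame t}

/-- An involution with prescribed images moves the words in their sources. -/
theorem wit_move {x : G} {fr im : List Nat} (sq : x * x = 1)
    (act : ∀ i < 3, x * F.ev (fr.getD i Mdl.one) * x = F.ev (im.getD i Mdl.one))
    {ws : List Nat} {a b : Nat} (h : witOk fr im ws a b = true) : x * F.ev a = F.ev b * x := by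
  simp only [witOk, Bool.and_eq_true, Nat.beq_eq, List.all_eq_true, decide_eq_true_eq] at h
  obtain ⟨⟨⟨⟨hi, h1⟩, rfl⟩, h2⟩, rfl⟩ := h
  rw [(ev_prodN F _ h1).2, (ev_prodN F _ h2).2]
  clear h1 h2
  induction ws with
  | nil => simp
  | cons i ws ih =>
    have hc : x * F.ev (fr.getD i Mdl.one) = F.ev (im.getD i Mdl.one) * x := by
      rw [← act i (hi i List.mem_cons_self), mul_assoc _ x x, sq, mul_one]
    simp only [List.map_cons, List.prod_cons]
    rw [← mul_assoc, hc, mul_assoc, ih fun j hj => hi j (List.mem_cons_of_mem _ hj), mul_assoc]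

theorem oneOk_move {x : G} {fr im : List Nat} (sq : x * x = 1)
    (act : ∀ i < 3, x * F.ev (fr.getD i Mdl.one) * x = F.ev (im.getD i Mdl.one))
    {v : Nat} {e : Move} (h : oneOk fr im v e = true) :
    Mdl.mem e.1 = true ∧ Mdl.mem e.2.1 = true ∧ x * F.ev v * F.ev e.1 = F.ev e.2.1 * (x * F.ev v) := by
  simp only [oneOk, Bool.and_eq_true, Nat.beq_eq] at h
  obtain ⟨⟨⟨⟨⟨⟨hv, hw⟩, hw'⟩, -⟩, ha⟩, hm⟩, hk⟩ := h
  refine ⟨hw, hw', ?_⟩
  rw [mul_assoc, ← F.map_mul _ _ hv hw, hm, F.map_mul _ _ ha hv, ← mul_assoc, wit_move sq act hk, mul_assoc]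

theorem prodOk_move {g h : G} (A : ActL F g h) {c : Nat} {e : Move} (he : prodOk c e = true) :
    Mdl.mem e.1 = true ∧ Mdl.mem e.2.1 = true ∧
      g * (F.ev c * h * F.ev c) * F.ev e.1 = F.ev e.2.1 * (g * (F.ev c * h * F.ev c)) := by
  simp only [prodOk, Bool.and_eq_true, Nat.beq_eq] at he
  obtain ⟨⟨⟨⟨⟨⟨⟨⟨⟨hc, hw⟩, hw'⟩, ha⟩, ha'⟩, hb⟩, hm⟩, hm'⟩, hk⟩, hk'⟩ := he
  refine ⟨hw, hw', ?_⟩
  have e1 := F.map_mul _ _ hc hw
  rw [hm, F.map_mul _ _ ha hc] at e1
  have e2 := wit_move A.sq_snd A.act_snd hk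
  have e3 := F.map_mul _ _ hc ha'
  rw [hm', F.map_mul _ _ hb hc] at e3
  have e4 := wit_move A.sq A.act hk'
  simp only [mul_assoc]
  rw [← e1, ← mul_assoc h, e2, mul_assoc, ← mul_assoc (F.ev c), ← e3, mul_assoc, ← mul_assoc g, e4, mul_assoc]

/-- A chain moves its start to its end across a power. -/
theorem chain_move {x : G} (mv : Move → Bool)
    (hmv : ∀ e, mv e = true → Mdl.mem e.1 = true ∧ Mdl.mem e.2.1 = true ∧ x * F.ev e.1 = F.ev e.2.1 * x) :
    ∀ l : List Move, l ≠ [] → linked l = true → l.all mv = true →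
      Mdl.mem (startOf l) = true ∧ Mdl.mem (endOf l) = true ∧
        x ^ l.length * F.ev (startOf l) = F.ev (endOf l) * x ^ l.length
  | [], h, _, _ => absurd rfl h
  | [e], _, _, hall => by
    obtain ⟨h1, h2, h3⟩ := hmv e (by simpa using hall)
    exact ⟨h1, h2, by simpa [startOf, endOf] using h3⟩
  | e :: e' :: l, _, hlink, hall => by
    simp only [linked, Bool.and_eq_true, Nat.beq_eq] at hlink
    rw [List.all_cons, Bool.and_eq_true] at hall
    obtain ⟨h1, h2, h3⟩ := hmv e hall.1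
    obtain ⟨-, i2, i3⟩ := chain_move mv hmv (e' :: l) (by simp) hlink.2 hall.2
    have hend : endOf (e :: e' :: l) = endOf (e' :: l) := by simp [endOf, List.getLast?_cons_cons]
    have hst : startOf (e' :: l) = e.2.1 := hlink.1.symm
    refine ⟨h1, hend ▸ i2, ?_⟩
    rw [hst] at i3
    show x ^ ((e' :: l).length + 1) * F.ev e.1 = _
    rw [pow_succ, mul_assoc, h3, ← mul_assoc, i3, hend, mul_assoc, ← pow_succ]
    rfl

/-- The power is one of the fixed candidates. -/
theorem power_mem {x : G} (mv : Move → Bool) {n : Nat} {chs : List (List Move)} {bad : List Move} {good : List Nat}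
    (hmv : ∀ e, mv e = true → Mdl.mem e.1 = true ∧ Mdl.mem e.2.1 = true ∧ x * F.ev e.1 = F.ev e.2.1 * x)
    (hchk : (chs.all fun l => !l.isEmpty && decide (l.length = n) && linked l && l.all mv) = true)
    (hbad : bad.all mv = true)
    (ht : (chs.any fun l => Nat.beq (startOf l) Mdl.tN && Nat.beq (endOf l) Mdl.tN) = true)
    (hcent : centOk chs bad good = true) : ∃ d ∈ good, Mdl.mem d = true ∧ x ^ n = F.ev d := by
  have key : ∀ l ∈ chs, Mdl.mem (startOf l) = true ∧ Mdl.mem (endOf l) = true ∧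
      x ^ n * F.ev (startOf l) = F.ev (endOf l) * x ^ n := by
    intro l hl
    have h := List.all_eq_true.mp hchk l hl
    simp only [Bool.and_eq_true, Bool.not_eq_true', decide_eq_true_eq] at h
    obtain ⟨⟨⟨h1, h2⟩, h3⟩, h4⟩ := h
    exact h2 ▸ chain_move mv hmv l (by rintro rfl; simp at h1) h3 h4
  obtain ⟨l, hl, hlt⟩ := List.any_eq_true.mp ht
  simp only [Bool.and_eq_true, Nat.beq_eq] at hlt
  have hcomm := (key l hl).2.2
  rw [hlt.1, hlt.2, F.ev_t] at hcomm
  obtain ⟨d, hd, hde⟩ := F.exists_code hcomm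
  have hlt' : ∀ x ∈ Mdl.slPairs, x.1 < 512 := fun x hx => (Mdl.pair_facts hx).2.2.1
  have hm := List.all_eq_true.mp hcent d ((Mdl.mem_codesOf hlt' d).2 ((Mdl.mem_iff_pair d).1 hd))
  simp only [Bool.or_eq_true, Bool.not_eq_true', List.contains_iff_mem] at hm
  rcases hm with (hf | hg) | hb
  · have hall : (chs.all fun l => Nat.beq (Mdl.mulN d (startOf l)) (Mdl.mulN (endOf l) d)) = true := by
      refine List.all_eq_true.mpr fun l hl => ?_
      obtain ⟨h1, h2, e⟩ := key l hl
      rw [← hde, ← F.map_mul _ _ hd h1, ← F.map_mul _ _ h2 hd] at e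
      rw [Nat.beq_eq]
      exact F.inj _ _ (Mdl.mem_mulN hd h1) (Mdl.mem_mulN h2 hd) e
    rw [hall] at hf
    exact Bool.noConfusion hf
  · exact ⟨d, hg, hd, hde.symm⟩
  · obtain ⟨e, he, hed⟩ := List.any_eq_true.mp hb
    simp only [Bool.and_eq_true, Nat.beq_eq, Bool.not_eq_true'] at hed
    obtain ⟨rfl, hne⟩ := hed
    obtain ⟨h1, h2, h3⟩ := hmv e (List.all_eq_true.mp hbad e he)
    have e2 : F.ev e.2.1 * x = F.ev e.1 * x := by
      rw [← h3, hde, ← pow_succ', ← pow_succ]
    have : e.2.1 = e.1 := F.inj _ _ h2 h1 (mul_right_cancel e2)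
    simp [this] at hne

end CfsgLib.Trichotomy.L5
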