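import Mathlib.Data.List.Basic

/-! Relators of the centralizer frame and one involution giving the Mathieu group of degree 24: the
relators of `HeldAmal` with the fifth power of `g₄ g₆` now an involution of the centralizer. -/

set_option autoImplicit false
set_option maxRecDepth 100000

namespace CfsgLib.Trichotomy.M24

/-- The relators. -/
def rels : List (List Nat) := [[0, 0], [1, 1], [2, 2], [3, 3], [4, 4], [5, 5], [6, 6], [3, 0, 1, 0, 6, 1, 0, 3, 2, 6], [3, 0, 1, 3, 0, 3, 1, 0, 3, 0], [3, 0, 2, 1, 2, 3, 2, 1, 2, 0], [3, 0, 2, 3, 0, 3, 2, 0, 3, 0], [5, 1, 0, 2, 5, 4, 3, 0, 4, 0], [2, 1, 4, 3, 2, 4, 2, 1, 0, 3, 4], [2, 1, 6, 3, 0, 6, 2, 3, 2, 6, 0], [2, 4, 0, 1, 3, 4, 1, 3, 2, 3, 0], [2, 0, 3, 2, 3, 1, 0, 1, 2, 3, 2, 3], [2, 0, 3, 2, 6, 3, 1, 6, 1, 0, 2, 0], [2, 1,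 0, 1, 3, 0, 2, 0, 2, 3, 2, 0], [2, 1, 0, 3, 0, 4, 0, 1, 4, 3, 2, 0], [2, 3, 1, 2, 3, 1, 2, 3, 1, 2, 3, 1], [2, 3, 2, 3, 2, 0, 2, 3, 2, 3, 2, 0], [3, 0, 1, 2, 3, 1, 3, 0, 1, 2, 3, 1], [3, 0, 6, 0, 1, 2, 3, 6, 0, 1, 2, 0], [4, 1, 0, 1, 3, 2, 0, 2, 0, 3, 4, 1], [5, 2, 1, 5, 6, 5, 1, 6, 5, 3, 0, 3], [5, 4, 0, 1, 5, 2, 1, 2, 4, 5, 4, 1], [5, 4, 5, 4, 5, 3, 2, 0, 2, 3, 4, 0], [4, 6, 4, 6, 4, 6, 4, 6, 4, 6, 3, 1, 3, 2, 3, 2, 0]]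

end CfsgLib.Trichotomy.M24
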