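import Cfsg.Agent.Coset.Chain
import Mathlib.Tactic.IntervalCases
import Cfsg.Agent.HeldAmal.T0
import Cfsg.Agent.HeldAmal.T1
import Cfsg.Agent.Trichotomy.M24Rels
import Cfsg.Agent.Trichotomy.M24T2
import Cfsg.Agent.Trichotomy.M24T3

/-! The order bound from the four coset tables. -/

set_option autoImplicit false
set_option maxRecDepth 100000
set_option Elab.async false

namespace CfsgLib.Trichotomy.M24

open CfsgLib.Coset

/-- Seven elements of a group satisfying the relators. -/
structure Rels {G : Type*} [Group G] (L : List G) : Prop where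
  len : L.length = 7
  rel : ∀ w ∈ rels, ev L w = 1

variable {G : Type*} [Group G] {L : List G}

theorem Rels.sq (h : Rels L) (x : Nat) : fl L x * fl L x = 1 := by
  by_cases hx : x < 7
  · have h1 := h.rel [x, x] (by interval_cases x <;> decide)
    simpa using h1
  · rw [fl_of_le L (by rw [h.len]; omega), one_mul]

theorem Rels.level (h : Rels L) (n : Nat) {S S' : List Nat} {rs subs : List (List Nat)} {E Rep Tb : Nat → Nat}
    {R : Tr (List Nat × Nat)} {d d' N nC dn dk : Nat} {C Ref : Nat → Nat} (k : Nat) (hk : S.length = k)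
    (hc : checkLevel rels 7 S S' rs subs = true)
    (hR : checkRules rs subs R = true) (hd : checkDefs E k d' N = true)
    (hs : checkChunks E id R k d N nC C = true)
    (ht : checkTable E id (N + chunk * nC) n k dn dk Rep Ref Tb = true) :
    TableOK (lv L S) (genBy L S') E id n Rep Tb := by
  have hl : (lv L S).length = k := by simp [lv, hk]
  exact tableOK_of_check (inv_lv h.sq S) hR (hl.symm ▸ hd) (hl.symm ▸ hs) (hl.symm ▸ ht)
    (level_rels h.len hc h.rel) (level_subs h.len hc)

theorem Rels.card_sylow (h : Rels L) : Finite (genBy L [0, 1, 2, 3]) ∧ Nat.card (genBy L [0, 1, 2, 3]) ≤ 1024 := by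
  have c : checkLevel rels 7 [0, 1, 2, 3] [] HeldAmal.T0.rels HeldAmal.T0.subs = true := by decide +kernel
  exact level_card (h.level 1024 4 rfl c HeldAmal.T0.hR HeldAmal.T0.hdefs HeldAmal.T0.hsteps HeldAmal.T0.htable)
    (by decide) c card_genBy_nil

theorem Rels.card_parabolic (h : Rels L) :
    Finite (genBy L [0, 1, 2, 3, 4]) ∧ Nat.card (genBy L [0, 1, 2, 3, 4]) ≤ 3072 := by
  have c : checkLevel rels 7 [0, 1, 2, 3, 4] [0, 1, 2, 3] HeldAmal.T1.rels HeldAmal.T1.subs = true := by
    decide +kernel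
  exact level_card (h.level 3 5 rfl c HeldAmal.T1.hR HeldAmal.T1.hdefs HeldAmal.T1.hsteps HeldAmal.T1.htable)
    (by decide) c h.card_sylow

theorem Rels.card_first (h : Rels L) :
    Finite (genBy L [0, 1, 2, 3, 4, 6]) ∧ Nat.card (genBy L [0, 1, 2, 3, 4, 6]) ≤ 138240 := by
  have c : checkLevel rels 7 [0, 1, 2, 3, 4, 6] [0, 1, 2, 3, 4] T2.rels T2.subs = true := by decide +kernel
  exact level_card (h.level 45 6 rfl c T2.hR T2.hdefs T2.hsteps T2.htable) (by decide) c h.card_parabolic

theorem Rels.card_all (h : Rels L) :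
    Finite (genBy L [0, 1, 2, 3, 4, 5, 6]) ∧ Nat.card (genBy L [0, 1, 2, 3, 4, 5, 6]) ≤ 244823040 := by
  have c : checkLevel rels 7 [0, 1, 2, 3, 4, 5, 6] [0, 1, 2, 3, 4, 6] T3.rels T3.subs = true := by decide +kernel
  exact level_card (h.level 1771 7 rfl c T3.hR T3.hdefs T3.hsteps T3.htable) (by decide) c h.card_first

/-- The order bound for the group generated by the seven elements. -/
theorem Rels.card_le (h : Rels L) (hgen : Subgroup.closure {x | x ∈ L} = ⊤) :
    Finite G ∧ Nat.card G ≤ 244823040 := by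
  have e : genBy L [0, 1, 2, 3, 4, 5, 6] = ⊤ := by
    have := genBy_range hgen
    rwa [h.len] at this
  obtain ⟨h1, h2⟩ := h.card_all
  rw [e] at h1 h2
  exact ⟨Finite.of_equiv _ Subgroup.topEquiv.toEquiv, (Nat.card_congr Subgroup.topEquiv.toEquiv).symm.le.trans h2⟩

end CfsgLib.Trichotomy.M24
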