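import Cfsg.Agent.Trichotomy.M24Bound
import Cfsg.Agent.Coset.Presented
import Cfsg.Agent.J4Type.Gens
import Cfsg.Agent.Golay.Mathieu

/-! The relators present the Mathieu group of degree 24. -/

set_option autoImplicit false
set_option maxRecDepth 100000
set_option Elab.async false

namespace CfsgLib.Trichotomy.M24

open CfsgLib.Coset

/-- A generator. -/
def p0 : Equiv.Perm (Fin 24) := J4.permOf 679136617984447250816334977000588404 679136617984447250816334977000588404 (by decide +kernel) (by decide +kernel)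

/-- A generator. -/
def p1 : Equiv.Perm (Fin 24) := J4.permOf 191655708376366470178181467889435106 191655708376366470178181467889435106 (by decide +kernel) (by decide +kernel)

/-- A generator. -/
def p2 : Equiv.Perm (Fin 24) := J4.permOf 969072734287823113062887638213691794 969072734287823113062887638213691794 (by decide +kernel) (by decide +kernel)

/-- A generator. -/
def p3 : Equiv.Perm (Fin 24) := J4.permOf 594812265452916420760117774434730402 594812265452916420760117774434730402 (by decide +kernel) (by decide +kernel)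

/-- A generator. -/
def p4 : Equiv.Perm (Fin 24) := J4.permOf 795119553994937241163876171721745637 795119553994937241163876171721745637 (by decide +kernel) (by decide +kernel)

/-- A generator. -/
def p5 : Equiv.Perm (Fin 24) := J4.permOf 179665826049592355762842263755573249 179665826049592355762842263755573249 (by decide +kernel) (by decide +kernel)

/-- A generator. -/
def p6 : Equiv.Perm (Fin 24) := J4.permOf 501512418733778303640289318386817485 501512418733778303640289318386817485 (by decide +kernel) (by decide +kernel)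

/-- The seven permutations. -/
def models : List (Equiv.Perm (Fin 24)) := [p0, p1, p2, p3, p4, p5, p6]

/-- Words in the generators of the model. -/
def fwdWords : List (List Nat) := [[0, 2, 0, 1, 0, 1, 0, 1, 0, 2, 0, 2, 0, 1, 0, 1, 0, 1, 0, 1, 0, 2, 0, 2, 0, 2, 0, 1, 0, 1, 0, 2, 0, 2, 0, 2, 0, 2, 0, 2, 0, 1, 0, 1, 0, 1, 0, 2, 0, 1, 0, 1, 0, 2], [0, 1, 0, 1, 0, 1, 0, 1, 0, 2, 0, 2, 0, 1, 0, 1, 0, 2, 0, 1, 0, 1, 0, 1, 0, 2, 0, 2, 0, 2, 0, 1, 0, 2, 0, 2, 0, 1, 0, 1, 0, 2, 0, 2, 0, 2, 0, 2, 0], [1, 0, 1, 0, 2, 0, 1, 0, 2, 0, 1, 0, 2, 0, 2, 0, 1, 0, 1, 0, 1, 0, 1, 0, 1, 0, 2, 0, 1, 0, 1, 0, 1], [2, 0, 2, 0, 1, 0, 1, 0, 2, 0, 1, 0, 1, 0, 2, 0, 2, 0, 1, 0, 1, 0, 2, 0, 1, 0, 2, 0, 1, 0, 2, 0, 2, 0, 1, 0, 1, 0, 2, 0, 2, 0, 1, 0, 2, 0, 2, 0, 1, 0, 1], [0, 2, 0, 2, 0, 1, 0, 1, 0, 2, 0, 1, 0, 1, 0, 1, 0, 2, 0, 1, 0, 2, 0, 1, 0, 2, 0, 2, 0, 2, 0, 1, 0, 2, 0, 2, 0, 1, 0, 1, 0], [2, 0, 1, 0, 1, 0, 1, 0, 2, 0, 1, 0, 1, 0, 2, 0, 1, 0, 2, 0, 1, 0, 2, 0, 2, 0, 2, 0, 2,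 0, 1, 0, 1, 0, 1, 0, 1, 0, 1, 0, 1, 0, 2, 0, 2, 0, 1, 0, 2, 0, 2, 0, 1, 0, 1, 0, 1, 0, 1], [0, 1, 0, 1, 0, 1, 0, 1, 0, 1, 0, 2, 0, 2, 0, 1, 0, 2, 0, 2, 0, 1, 0, 1, 0, 1, 0, 1, 0, 2, 0, 2, 0, 2, 0, 2, 0, 2, 0, 2]]

/-- The generators of the model as words in the seven. -/
def backWords : List (List Nat) := [[6, 4, 3, 6, 5, 4, 6, 4, 5, 6, 4, 2, 6, 5, 4, 5, 4, 6, 4, 2], [6, 5, 4, 6, 3, 5, 4, 0, 6, 4, 0, 6, 5, 4, 6, 4, 6, 5, 4]]

theorem rels_models : Rels models where
  len := rfl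
  rel := by decide +kernel

theorem eq_fwd : models = fwdWords.map (ev J4.GsM) := by decide +kernel

theorem eq_back : [J4.Xp, J4.Yp] = backWords.map (ev models) := by decide +kernel

theorem closure_models : Subgroup.closure {x | x ∈ models} = J4.M24m := by
  have key : ∀ (H : Subgroup (Equiv.Perm (Fin 24))) (L : List (Equiv.Perm (Fin 24))),
      (∀ l, fl L l ∈ H) → ∀ w, ev L w ∈ H := by
    intro H L hL w
    induction w with
    | nil => exact one_mem _
    | cons a w ih => rw [ev_cons]; exact mul_mem (hL a) ih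
  apply le_antisymm
  · rw [Subgroup.closure_le]
    intro x hx
    rw [Set.mem_setOf_eq, eq_fwd] at hx
    obtain ⟨w, -, rfl⟩ := List.mem_map.mp hx
    exact key _ _ J4.gsM_mem w
  · rw [J4.M24m, Subgroup.closure_le]
    have hm : ∀ x ∈ [J4.Xp, J4.Yp], x ∈ Subgroup.closure {x | x ∈ models} := by
      intro x hx
      rw [eq_back] at hx
      obtain ⟨w, -, rfl⟩ := List.mem_map.mp hx
      exact key _ _ mem_closure_fl w
    rintro x (rfl | rfl)
    · exact hm _ List.mem_cons_self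
    · exact hm _ (List.mem_cons_of_mem _ List.mem_cons_self)

theorem finite_num : Finite (NumGr 7 rels) ∧ Nat.card (NumGr 7 rels) ≤ 244823040 :=
  (Rels.mk length_numGens ev_numGens).card_le closure_numGens

/-- The presented group is the Mathieu group. -/
theorem num_equiv : Nonempty (NumGr 7 rels ≃* ↥Cfsg.M24) := by
  have := finite_num.1
  refine ⟨((numEquiv rels_models.len rels_models.rel ?_).trans (MulEquiv.subgroupCongr closure_models)).trans
    (MulEquiv.ofBijective CfsgLib.J4Type.toM24 ⟨CfsgLib.J4Type.toM24_inj, CfsgLib.J4Type.toM24_surj⟩)⟩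
  rw [closure_models, J4.card_M24m]
  exact finite_num.2

variable {G : Type*} [Group G] {L : List G}

/-- Seven elements satisfying the relators, not all trivial, generate a copy of the Mathieu group. -/
theorem Rels.iso_closure (h : Rels L) (hne : ∃ x ∈ L, x ≠ 1) :
    Nonempty ((Subgroup.closure {x | x ∈ L} : Subgroup G) ≃* ↥Cfsg.M24) := by
  obtain ⟨e⟩ := num_equiv
  haveI : IsSimpleGroup ↥Cfsg.M24 := CfsgLib.Golay.m24_simple
  haveI : Nontrivial (NumGr 7 rels) := e.toEquiv.nontrivial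
  haveI : IsSimpleGroup (NumGr 7 rels) :=
    IsSimpleGroup.isSimpleGroup_of_surjective e.symm.toMonoidHom e.symm.surjective
  have hr := range_numHom (rels := rels) h.len h.rel
  have hi : Function.Injective (numHom (rels := rels) h.len h.rel) := by
    rw [← MonoidHom.ker_eq_bot_iff]
    refine (IsSimpleGroup.eq_bot_or_eq_top_of_normal _ inferInstance).resolve_right fun ht => ?_
    obtain ⟨x, hx, hx1⟩ := hne
    have hx2 : x ∈ (numHom (rels := rels) h.len h.rel).range := hr.symm ▸ Subgroup.subset_closure hx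
    obtain ⟨p, rfl⟩ := hx2
    exact hx1 (MonoidHom.mem_ker.mp (ht ▸ Subgroup.mem_top p))
  exact ⟨(((MonoidHom.ofInjective hi).trans (MulEquiv.subgroupCongr hr)).symm).trans e⟩

/-- In a group of the order of the Mathieu group they generate everything. -/
theorem Rels.iso_m24_of_card [Finite G] (h : Rels L) (hne : ∃ x ∈ L, x ≠ 1)
    (hcard : Nat.card G = 244823040) : Nonempty (G ≃* ↥Cfsg.M24) := by
  obtain ⟨e⟩ := h.iso_closure hne
  have hH : Subgroup.closure {x | x ∈ L} = ⊤ := Subgroup.eq_top_of_card_eq _ (by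
    rw [Nat.card_congr e.toEquiv, CfsgLib.Golay.card_M24, hcard])
  exact ⟨((MulEquiv.subgroupCongr hH).trans Subgroup.topEquiv).symm.trans e⟩

end CfsgLib.Trichotomy.M24
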