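import Cfsg.Agent.Trichotomy.FusionGen
import Cfsg.Agent.Trichotomy.KindData

/-!
# The fusion patterns of the involutions of the model

The involutions of the centraliser fall into eight classes. Counting, inside each of the two
elementary subgroups of order 64, the translates staying in the class of `t` leaves four patterns.
-/

set_option autoImplicit false
set_option linter.unusedSectionVars false
set_option maxRecDepth 100000

namespace CfsgLib.Trichotomy

open CfsgLib.HeldUniq

/-- Some vector is moved onto `v` by adding its image. -/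
def inImage (g v : Nat) : Bool := (List.range 8).any fun w => Nat.beq (Nat.xor (Mdl.app g w) w) v

/-- The same for rows. -/
def inImageT (h p : Nat) : Bool := (List.range 8).any fun q => Nat.beq (Nat.xor (Mdl.rapp q h) q) p

/-- The class of an involution of the model: `t`, the two axes, `m`, and four outer classes. -/
def kind (a : Nat) : Nat :=
  cond (Nat.beq (Mdl.gOf a) Mdl.mone)
    (cond (Nat.beq (Mdl.pOf a) 0) (cond (Nat.beq (Mdl.vOf a) 0) 0 1)
      (cond (Nat.beq (Mdl.vOf a) 0) 2 3))
    (cond (inImage (Mdl.gOf a) (Mdl.vOf a))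
      (cond (inImageT (Mdl.hOf a) (Mdl.pOf a))
        (cond (Nat.beq (Nat.xor (Mdl.cOf a)
          (cond (Nat.beq (Mdl.vOf a) 0 || Nat.beq (Mdl.pOf a) 0) 0 1)) 0) 4 5) 6) 7)

/-- Representatives of the eight classes. -/
def reps : List Nat :=
  [17926336, 17926273, 17926280, 17926282, 5515776, 5515821, 5515792, 5515778]

/-- The representative of a class. -/
def repOf (k : Nat) : Nat := reps.getD k 17926336

theorem invTab_ok : (invTab.all fun x => Mdl.mem x.1 && Mdl.mem x.2 &&
    Nat.beq (Mdl.mulN x.2 (repOf (kind x.1))) (Mdl.mulN x.1 x.2)) = true := by decide +kernel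

theorem invTab_complete : ((Mdl.rootsOf Mdl.one).all fun a =>
    Nat.beq a Mdl.one || (invTab.map Prod.fst).contains a) = true := by decide +kernel

theorem repOf_ok : (List.range 8).all (fun k => Mdl.mem (repOf k) &&
    Nat.beq (kind (repOf k)) k) = true := by decide +kernel

theorem repOf_mem (k : Nat) : Mdl.mem (repOf k) = true := by
  by_cases h : k < 8
  · have := List.all_eq_true.1 repOf_ok k (List.mem_range.2 h)
    simp only [Bool.and_eq_true] at this
    exact this.1
  · rw [repOf, List.getD_eq_getElem?_getD, List.getElem?_eq_none (by simp [reps]; omega)]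
    decide +kernel

theorem sq_code_mem {a : Nat} (ha : Mdl.mem a = true) (h : Mdl.mulN a a = Mdl.one) :
    a ∈ Mdl.rootsOf Mdl.one := by
  have hlt : ∀ x ∈ Mdl.sqPairs Mdl.one, x.1 < 512 := fun x hx =>
    (Mdl.pair_facts (List.mem_filter.1 hx).1).2.2.1
  have eg := congrArg Mdl.gOf h
  rw [(Mdl.mulN_fields a a).2.2.1] at eg
  exact List.mem_filter.2 ⟨(Mdl.mem_codesOf hlt a).2 (List.mem_filter.2
    ⟨(Mdl.mem_iff_pair a).1 ha, Mdl.beq_of_eq eg⟩), Mdl.beq_of_eq h⟩

section

variable {G : Type*} [Group G] {t : G} (F : Frame t)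

/-- A Boolean list says which classes consist of conjugates of `t`. -/
def IsPat (b : List Bool) : Prop := ∀ k < 8, IsConj t (F.ev (repOf k)) ↔ b.getD k false = true

open Classical in
/-- The pattern of a frame. -/
noncomputable def patOf : List Bool :=
  (List.range 8).map fun k => decide (IsConj t (F.ev (repOf k)))

theorem isPat_patOf : IsPat F (patOf F) := fun k hk => by simp [patOf, hk]

variable [Finite G]

/-- Every involution of the centraliser is conjugate there to the representative of its class. -/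
theorem exists_conj_rep {a : Nat} (ha : Mdl.mem a = true) (h : Mdl.mulN a a = Mdl.one)
    (hne : a ≠ Mdl.one) :
    kind a < 8 ∧ ∃ n, Mdl.mem n = true ∧ F.ev n * F.ev (repOf (kind a)) * (F.ev n)⁻¹ = F.ev a := by
  have h1 := List.all_eq_true.1 invTab_complete a (sq_code_mem ha h)
  rw [Bool.or_eq_true, List.contains_iff_mem, Nat.beq_eq] at h1
  obtain ⟨x, hx, rfl⟩ := List.mem_map.1 (h1.resolve_left hne)
  have h2 := List.all_eq_true.1 invTab_ok x hx
  simp only [Bool.and_eq_true, Nat.beq_eq] at h2
  refine ⟨?_, x.2, h2.1.2, F.conj_of h2.1.2 (repOf_mem _) h2.1.1 h2.2⟩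
  show kind x.1 < 8
  unfold kind
  cases Nat.beq (Mdl.gOf x.1) Mdl.mone <;> cases Nat.beq (Mdl.pOf x.1) 0 <;>
    cases Nat.beq (Mdl.vOf x.1) 0 <;> cases inImage (Mdl.gOf x.1) (Mdl.vOf x.1) <;>
    cases inImageT (Mdl.hOf x.1) (Mdl.pOf x.1) <;>
    simp only [cond_true, cond_false, Bool.true_or, Bool.false_or, Bool.or_false] <;>
    (try omega) <;> (cases Nat.beq (Nat.xor (Mdl.cOf x.1) _) 0 <;> decide)

/-- Whether a code is a conjugate of `t`, according to a pattern. -/
def isT (b : List Bool) (a : Nat) : Bool :=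
  !Nat.beq a Mdl.one && Nat.beq (Mdl.mulN a a) Mdl.one && b.getD (kind a) false

theorem isT_iff {b : List Bool} (hb : IsPat F b) {a : Nat} (ha : Mdl.mem a = true) :
    isT b a = true ↔ IsConj t (F.ev a) := by
  simp only [isT, Bool.and_eq_true, Bool.not_eq_true', Nat.beq_eq]
  constructor
  · rintro ⟨⟨h1, h2⟩, h3⟩
    obtain ⟨hk, n, -, hn⟩ := exists_conj_rep F ha h2 fun e => by
      rw [Mdl.beq_of_eq e] at h1; exact Bool.noConfusion h1
    exact ((hb _ hk).2 h3).trans (isConj_iff.2 ⟨_, hn⟩)
  · intro hc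
    obtain ⟨g, hg⟩ := isConj_iff.1 hc
    have hsq : F.ev a * F.ev a = 1 := by
      rw [← hg]
      calc g * t * g⁻¹ * (g * t * g⁻¹) = g * (t * t) * g⁻¹ := by group
        _ = 1 := by rw [F.t_mul_t]; group
    have h2 : Mdl.mulN a a = Mdl.one := by
      rw [← F.map_mul a a ha ha] at hsq
      exact (F.eq_one_iff (Mdl.mem_mulN ha ha)).1 hsq
    have hne : a ≠ Mdl.one := fun e => by
      rw [e, F.ev_one] at hc
      exact F.t_ne_one (isConj_one_left.1 hc)
    obtain ⟨hk, n, -, hn⟩ := exists_conj_rep F ha h2 hne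
    refine ⟨⟨?_, h2⟩, (hb _ hk).1 (hc.trans (isConj_iff.2 ⟨_, hn⟩).symm)⟩
    cases h : Nat.beq a Mdl.one with
    | false => rfl
    | true => exact absurd (Nat.eq_of_beq_eq_true h) hne

/-- The members of a list which are conjugates of `t` and whose product with `y` is one too. -/
def prof (b : List Bool) (W : List Nat) (y : Nat) : Nat :=
  (W.filter fun f => isT b f && isT b (Mdl.mulN y f)).length

/-- All conjugates of `t` in the list have as many translates as `t`. -/
def profOk (b : List Bool) (W : List Nat) : Bool :=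
  W.all fun y => !isT b y || Nat.beq (prof b W y) (prof b W Mdl.tN)

theorem card_prof {H : Subgroup G} {P E : List (Nat × Nat)} {W : List Nat}
    (d : F.ElemData H P E W) {b : List Bool} (hb : IsPat F b) {y : Nat} (hy : y ∈ W) :
    Nat.card {f : G // f ∈ H ∧ IsConj t f ∧ IsConj t (F.ev y * f)} = prof b W y := by
  refine F.card_of_codes (X := {f : G | f ∈ H ∧ IsConj t f ∧ IsConj t (F.ev y * f)}) _
    ((Mdl.elem_facts d.elem).2.1.filter _) (fun a ha => d.mem_code (List.mem_filter.1 ha).1)
    fun f => ⟨?_, ?_⟩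
  · rintro ⟨hf, h1, h2⟩
    obtain ⟨a, ha, rfl⟩ := (d.mem_iff f).1 hf
    have hm := d.mem_code ha
    rw [← F.map_mul _ _ (d.mem_code hy) hm] at h2
    refine ⟨a, List.mem_filter.2 ⟨ha, ?_⟩, rfl⟩
    rw [(isT_iff F hb hm).2 h1, (isT_iff F hb (Mdl.mem_mulN (d.mem_code hy) hm)).2 h2]
    rfl
  · rintro ⟨a, ha, rfl⟩
    obtain ⟨ha, h⟩ := List.mem_filter.1 ha
    rw [Bool.and_eq_true] at h
    have hm := d.mem_code ha
    refine ⟨(d.ev_mem hm).2 ha, (isT_iff F hb hm).1 h.1, ?_⟩
    rw [← F.map_mul _ _ (d.mem_code hy) hm]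
    exact (isT_iff F hb (Mdl.mem_mulN (d.mem_code hy) hm)).1 h.2

theorem profOk_of_pat {H : Subgroup G} (hH : H = F.w0 ∨ H = F.w3) {P E : List (Nat × Nat)}
    {W : List Nat} (d : F.ElemData H P E W) {b : List Bool} (hb : IsPat F b) :
    profOk b W = true := by
  refine List.all_eq_true.2 fun y hy => ?_
  cases hT : isT b y with
  | false => rfl
  | true =>
    refine Mdl.beq_of_eq ?_
    obtain ⟨g, hg⟩ := isConj_iff.1 ((isT_iff F hb (d.mem_code hy)).1 hT)
    obtain ⟨n, hn, hne⟩ := F.gen_control hH d.t_mem ((d.ev_mem (d.mem_code hy)).2 hy) hg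
    rw [← card_prof F d hb hy, ← card_prof F d hb (Mdl.elem_facts d.elem).2.2.2.1, F.ev_t]
    refine (Nat.card_congr ((MulAut.conj n).toEquiv.subtypeEquiv fun f => ?_)).symm
    show f ∈ H ∧ IsConj t f ∧ IsConj t (t * f) ↔
      n * f * n⁻¹ ∈ H ∧ IsConj t (n * f * n⁻¹) ∧ IsConj t (F.ev y * (n * f * n⁻¹))
    have hc : ∀ x, (IsConj t x ↔ IsConj t (n * x * n⁻¹)) := fun x =>
      ⟨fun h => h.trans (isConj_iff.2 ⟨n, rfl⟩), fun h => h.trans (isConj_iff.2 ⟨n, rfl⟩).symm⟩
    rw [← hne, show n * t * n⁻¹ * (n * f * n⁻¹) = n * (t * f) * n⁻¹ by group, ← hc, ← hc,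
      ← Subgroup.mem_normalizer_iff.1 hn f]

/-- Only `t`. -/
def patNone : List Bool := [true, false, false, false, false, false, false, false]
/-- The first axis. -/
def patV : List Bool := [true, true, false, false, false, false, false, false]
/-- The second axis. -/
def patP : List Bool := [true, false, true, false, false, false, false, false]
/-- Both axes, with the two flags for the classes of order 168. -/
def patBoth (d0 d3 : Bool) : List Bool := [true, true, true, false, true, false, d0, d3]

theorem pattern_chk : ∀ e1 e2 a d0 d3 : Bool,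
    profOk [true, e1, e2, false, a, false, d0, d3] Mdl.w0List = true →
    profOk [true, e1, e2, false, a, false, d0, d3] Mdl.w3List = true →
    [true, e1, e2, false, a, false, d0, d3] = patNone ∨
    [true, e1, e2, false, a, false, d0, d3] = patV ∨
    [true, e1, e2, false, a, false, d0, d3] = patP ∨
    [true, e1, e2, false, a, false, d0, d3] = patBoth d0 d3 := by
  decide +kernel

theorem patOf_cases : ∃ d0 d3 : Bool, IsPat F patNone ∨ IsPat F patV ∨ IsPat F patP ∨
    IsPat F (patBoth d0 d3) := by
  classical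
  set b := patOf F with hbdef
  have hb : IsPat F b := isPat_patOf F
  set p : Nat → Bool := fun k => decide (IsConj t (F.ev (repOf k))) with hp
  have hlist : b = [p 0, p 1, p 2, p 3, p 4, p 5, p 6, p 7] := rfl
  have h0 : p 0 = true := decide_eq_true (by
    rw [show repOf 0 = Mdl.tN from rfl, F.ev_t])
  have h3 : p 3 = false := decide_eq_false fun h => by
    obtain ⟨-, n, -, hn⟩ := exists_conj_rep F (a := 17926284) (by decide +kernel) (by decide +kernel)
      (by decide +kernel)
    rw [show kind 17926284 = 3 by decide +kernel] at hn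
    exact F.gen_not_conj_m (h.trans (isConj_iff.2 ⟨_, hn⟩))
  have h5 : p 5 = false := decide_eq_false fun h => by
    obtain ⟨-, n, -, hn⟩ := exists_conj_rep F (a := 18188940) (by decide +kernel) (by decide +kernel)
      (by decide +kernel)
    rw [show kind 18188940 = 5 by decide +kernel] at hn
    exact F.gen_not_conj_z (h.trans (isConj_iff.2 ⟨_, hn⟩))
  rw [h0, h3, h5] at hlist
  have k0 := profOk_of_pat F (Or.inl rfl) F.w0_data hb
  have k3 := profOk_of_pat F (Or.inr rfl) F.w3_data hb
  rw [hlist] at k0 k3 hb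
  refine ⟨p 6, p 7, ?_⟩
  rcases pattern_chk _ _ _ _ _ k0 k3 with e | e | e | e <;> rw [e] at hb
  exacts [Or.inl hb, Or.inr (Or.inl hb), Or.inr (Or.inr (Or.inl hb)), Or.inr (Or.inr (Or.inr hb))]

end

end CfsgLib.Trichotomy
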